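import Cfsg.Agent.Lib.C6Gen.Quad
import Cfsg.Agent.EqLemmas
import Mathlib.Algebra.Module.Equiv.Basic
/-!
# Groups of isometries normalised by the pairs of transvections

* `QF.tr`           : a transvection as a linear equivalence
* `QF.exists_local` : a nontrivial group of isometries invariant under the pairs of transvections has a member
                      fixing a singular vector `c` and nontrivial on `c⊥/⟨c⟩`
-/

set_option autoImplicit false
set_option linter.unusedSectionVars false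

namespace Cfsg.Agent.C6Gen.QF

open Module

variable {k : ℕ} {V : Type*} [AddCommGroup V] [Module (ZMod 2) V] (q : QF k V)

theorem trans_trans (a v : V) : q.trans a (q.trans a v) = v := by
  simp only [trans, map_add, LinearMap.add_apply, map_smul, LinearMap.smul_apply, q.B_self, smul_eq_mul,
    mul_zero, add_zero]
  rw [add_assoc, ← add_smul, CharTwo.add_self_eq_zero, zero_smul, add_zero]

/-- A transvection as a linear equivalence. -/
def tr (a : V) : V ≃ₗ[ZMod 2] V where
  toFun := q.trans a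
  invFun := q.trans a
  map_add' x y := by simp only [trans, map_add, LinearMap.add_apply, add_smul]; abel
  map_smul' c x := by simp [trans, smul_add, smul_smul]
  left_inv := q.trans_trans a
  right_inv := q.trans_trans a

theorem tr_apply (a x : V) : q.tr a x = x + q.B x a • a := rfl

theorem tr_of_perp {a x : V} (h : q.B x a = 0) : q.tr a x = x := by
  rw [tr_apply, h, zero_smul, add_zero]

theorem tr_of_one {a x : V} (h : q.B x a = 1) : q.tr a x = x + a := by
  rw [tr_apply, h, one_smul]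

theorem tr_sq (a : V) : q.tr a * q.tr a = 1 := LinearEquiv.ext (q.trans_trans a)

/-- An isometry. -/
def Isom (h : V ≃ₗ[ZMod 2] V) : Prop := ∀ x, q.Q (h x) = q.Q x

theorem Isom.B_map {q : QF k V} {h : V ≃ₗ[ZMod 2] V} (hh : q.Isom h) (x y : V) :
    q.B (h x) (h y) = q.B x y := by
  have e := q.polar (h x) (h y)
  rw [← map_add, hh, hh, hh, q.polar] at e
  exact (add_left_cancel e).symm

theorem conj_tr {h : V ≃ₗ[ZMod 2] V} (hh : q.Isom h) (a x : V) : h (q.tr a x) = q.tr (h a) (h x) := by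
  rw [tr_apply, tr_apply, map_add, map_smul, hh.B_map]

theorem tr_inj {a b : V} (ha : a ≠ 0) (h : ∀ x, q.tr a x = q.tr b x) : a = b := by
  obtain ⟨c, hc⟩ : ∃ c, q.B c a = 1 := by
    by_contra hno
    push Not at hno
    exact ha (q.nondeg a fun c => by rw [q.B_comm]; exact (zmod2 _).resolve_right (hno c))
  have h1 := h c
  rw [q.tr_of_one hc, tr_apply] at h1
  rcases zmod2 (q.B c b) with e | e <;> rw [e] at h1
  · rw [zero_smul, add_zero, add_eq_left] at h1; exact absurd h1 ha
  · rw [one_smul] at h1; exact add_left_cancel h1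

/-- The nonsingular vectors span. -/
theorem exists_moved {h : V ≃ₗ[ZMod 2] V} (hne : h ≠ 1) : ∃ a, q.Q a = 1 ∧ h a ≠ a := by
  by_contra hno
  push Not at hno
  refine hne (LinearEquiv.ext fun x => ?_)
  show h x = x
  rcases zmod2 (q.Q x) with hx | hx
  swap
  · exact hno x hx
  obtain ⟨z, hz, hzQ⟩ := q.exists_nonsingular (W := q.perp (Submodule.span (ZMod 2) ({x, x} : Set V))) (by
    have := q.two_le_perp_pair x x; have := q.three; omega)
  have h1 := hno (x + z) (by rw [q.polar, hx, hzQ, q.B_comm, (q.mem_perp_pair.1 hz).1, zero_add, add_zero])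
  rw [map_add, hno z hzQ] at h1
  exact add_right_cancel h1

variable (K : Subgroup (V ≃ₗ[ZMod 2] V)) (hiso : ∀ h ∈ K, q.Isom h)
variable (hK : ∀ a b, q.Q a = 1 → q.Q b = 1 → ∀ h ∈ K, ∀ h' : V ≃ₗ[ZMod 2] V,
  (∀ x, h' (q.tr a (q.tr b x)) = q.tr a (q.tr b (h x))) → h' ∈ K)
include hiso hK

/-- The commutator with a pair. -/
theorem comm_mem {a b : V} (ha : q.Q a = 1) (hb : q.Q b = 1) {h : V ≃ₗ[ZMod 2] V} (hh : h ∈ K) :
    ∃ x ∈ K, ∀ y, x y = q.tr (h a) (q.tr (h b) (q.tr b (q.tr a y))) := by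
  refine ⟨h * ((q.tr a * q.tr b) * h⁻¹ * (q.tr b * q.tr a)), K.mul_mem hh (hK a b ha hb _ (K.inv_mem hh) _
    fun x => ?_), fun y => ?_⟩
  · show q.tr a (q.tr b (h⁻¹ (q.tr b (q.tr a (q.tr a (q.tr b x)))))) = _
    rw [show q.tr a (q.tr a (q.tr b x)) = q.tr b x from q.trans_trans a _,
      show q.tr b (q.tr b x) = x from q.trans_trans b x]
  · show h (q.tr a (q.tr b (h⁻¹ (q.tr b (q.tr a y))))) = _
    have hhi : h (h⁻¹ (q.tr b (q.tr a y))) = q.tr b (q.tr a y) := h.apply_symm_apply _
    rw [q.conj_tr (hiso h hh), q.conj_tr (hiso h hh), hhi]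

/-- From a fixed nonsingular vector to a three-dimensional fixed space. -/
theorem exists_three_fix {h : V ≃ₗ[ZMod 2] V} (hh : h ∈ K) (hne : h ≠ 1) {a : V} (ha : q.Q a = 1)
    (hfix : h a = a) :
    ∃ x ∈ K, x ≠ 1 ∧ ∃ W : Submodule (ZMod 2) V, 3 ≤ finrank (ZMod 2) W ∧ ∀ w ∈ W, x w = w := by
  have := q.finite
  obtain ⟨b, hb, hbn⟩ := q.exists_moved hne
  obtain ⟨x, hx, hxy⟩ := q.comm_mem K hiso hK ha hb hh
  rw [hfix] at hxy
  refine ⟨x, hx, fun h1 => hbn ?_, q.perp (Submodule.span (ZMod 2) ({a, b} : Set V) ⊔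
    Submodule.span (ZMod 2) {h b}), ?_, fun w hw => ?_⟩
  · refine q.tr_inj (fun h0 => ?_) fun z => ?_
    · rw [← hiso h hh, h0, q.Q_zero] at hb; exact zero_ne_one hb
    obtain ⟨y, hy⟩ : ∃ y, q.tr b (q.tr a y) = q.tr b z :=
      ⟨q.tr a z, by rw [show q.tr a (q.tr a z) = z from q.trans_trans a z]⟩
    have h2 := hxy y
    rw [h1, hy] at h2
    have h3 : q.tr a y = q.tr (h b) (q.tr b z) := by
      rw [show y = (1 : V ≃ₗ[ZMod 2] V) y from rfl, h2, show ∀ u, q.tr a (q.tr a u) = u from q.trans_trans a]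
    have h4 : q.tr a y = z := by
      rw [← q.trans_trans b z]
      show _ = q.tr b (q.tr b z)
      rw [← hy]; exact (q.trans_trans b _).symm
    rw [h4] at h3
    have h5 := congrArg (q.tr (h b)) h3
    rwa [show ∀ u, q.tr (h b) (q.tr (h b) u) = u from q.trans_trans (h b)] at h5
  · have := q.finrank_perp (Submodule.span (ZMod 2) ({a, b} : Set V) ⊔ Submodule.span (ZMod 2) {h b})
    have := q.finrank_sup_span_le (Submodule.span (ZMod 2) ({a, b} : Set V)) (h b)
    have := finrank_span_le_two a b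
    have := q.three
    omega
  · have h' := q.mem_perp.1 hw
    have ea := h' a (Submodule.mem_sup_left (Submodule.subset_span (Set.mem_insert _ _)))
    have eb := h' b (Submodule.mem_sup_left (Submodule.subset_span (Set.mem_insert_of_mem _ rfl)))
    have ec := h' (h b) (Submodule.mem_sup_right (Submodule.mem_span_singleton_self _))
    rw [hxy, q.tr_of_perp ea, q.tr_of_perp eb, q.tr_of_perp ec, q.tr_of_perp ea]

/-- A member with a three-dimensional fixed space. -/
theorem exists_fix {h : V ≃ₗ[ZMod 2] V} (hh : h ∈ K) (hne : h ≠ 1) :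
    ∃ x ∈ K, x ≠ 1 ∧ ∃ W : Submodule (ZMod 2) V, 3 ≤ finrank (ZMod 2) W ∧ ∀ w ∈ W, x w = w := by
  have := q.finite
  have h3 := q.three
  obtain ⟨a, ha, han⟩ := q.exists_moved hne
  have hi := hiso h hh
  have hQ1 : q.Q (h a) = 1 := (hi a).trans ha
  have hQ2 : q.Q (h (h a)) = 1 := (hi _).trans hQ1
  obtain ⟨x, hx, hxy⟩ := q.comm_mem K hiso hK ha hQ1 hh
  by_cases hx1 : x ≠ 1
  · refine ⟨x, hx, hx1, q.perp (Submodule.span (ZMod 2) ({a, h a} : Set V) ⊔
      Submodule.span (ZMod 2) {h (h a)}), ?_, fun w hw => ?_⟩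
    · have := q.finrank_perp (Submodule.span (ZMod 2) ({a, h a} : Set V) ⊔ Submodule.span (ZMod 2) {h (h a)})
      have := q.finrank_sup_span_le (Submodule.span (ZMod 2) ({a, h a} : Set V)) (h (h a))
      have := finrank_span_le_two a (h a)
      omega
    · have h' := q.mem_perp.1 hw
      have ea := h' a (Submodule.mem_sup_left (Submodule.subset_span (Set.mem_insert _ _)))
      have eb := h' (h a) (Submodule.mem_sup_left (Submodule.subset_span (Set.mem_insert_of_mem _ rfl)))
      have ec := h' (h (h a)) (Submodule.mem_sup_right (Submodule.mem_span_singleton_self _))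
      rw [hxy, q.tr_of_perp ea, q.tr_of_perp eb, q.tr_of_perp ec, q.tr_of_perp eb]
  push Not at hx1
  -- then `h² a = a + B(a, h a) h a`
  have hh2 : h (h a) = q.tr (h a) a := by
    refine q.tr_inj (fun h0 => ?_) fun z => ?_
    · rw [h0, q.Q_zero] at hQ2; exact zero_ne_one hQ2
    obtain ⟨w, hw⟩ : ∃ w, w = z := ⟨_, rfl⟩
    have h2 := hxy (q.tr a (q.tr (h a) w))
    rw [hx1, show ∀ u, q.tr a (q.tr a u) = u from q.trans_trans a,
      show ∀ u, q.tr (h a) (q.tr (h a) u) = u from q.trans_trans (h a)] at h2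
    have h4 : q.tr (h a) (q.tr a (q.tr (h a) w)) = q.tr (h (h a)) w := by
      rw [show q.tr a (q.tr (h a) w) = (1 : V ≃ₗ[ZMod 2] V) (q.tr a (q.tr (h a) w)) from rfl, h2,
        show ∀ u, q.tr (h a) (q.tr (h a) u) = u from q.trans_trans (h a)]
    have htri : q.Isom (q.tr (h a)) := fun u => by
      rw [tr_apply, q.polar, map_smul, smul_eq_mul]
      rcases zmod2 (q.B u (h a)) with e | e <;>
        simp [e, q.Q_zero, hQ1, CharTwo.add_self_eq_zero, add_assoc]
    rw [q.conj_tr htri, show ∀ u, q.tr (h a) (q.tr (h a) u) = u from q.trans_trans (h a)] at h4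
    rw [← hw, h4]
  rcases zmod2 (q.B a (h a)) with hB | hB
  · rw [q.tr_of_perp hB] at hh2
    by_cases h21 : h * h = 1
    · -- an involution fixes half of the space
      refine ⟨h, hh, hne, LinearMap.ker (h.toLinearMap + LinearMap.id), ?_, fun w hw => ?_⟩
      · have hr : LinearMap.range (h.toLinearMap + LinearMap.id) ≤
            LinearMap.ker (h.toLinearMap + LinearMap.id) := by
          rintro _ ⟨u, rfl⟩
          rw [LinearMap.mem_ker]
          have hu : h (h u) = u := LinearEquiv.congr_fun h21 u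
          simp only [LinearMap.add_apply, LinearMap.id_apply, map_add, LinearEquiv.coe_coe, hu]
          rw [add_comm (h u) u, QF.vadd_self]
        have := LinearMap.finrank_range_add_finrank_ker (h.toLinearMap + LinearMap.id)
        have := Submodule.finrank_mono hr
        rw [q.dim] at *
        omega
      · exact eq_of_add_eq_zero' (LinearMap.mem_ker.1 hw)
    · exact q.exists_three_fix K hiso hK (K.mul_mem hh hh) h21 ha hh2
  · rw [q.tr_of_one hB] at hh2
    obtain ⟨b, hb, hbQ⟩ := q.exists_ns_perp (W := Submodule.span (ZMod 2) ({a, h a} : Set V)) (a := a)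
      (by have := finrank_span_le_two a (h a); omega) (Submodule.subset_span (Set.mem_insert _ _)) ha
    obtain ⟨hba, hbha⟩ := q.mem_perp_pair.1 hb
    by_cases hbf : h b = b
    · exact q.exists_three_fix K hiso hK hh hne hbQ hbf
    have hc1 : q.B (h b) (h a) = 0 := by rw [hi.B_map, hba]
    have hc2 : q.B (h b) a = 0 := by
      have h1 : q.B (h b) (h (h a)) = 0 := by rw [hi.B_map, hbha]
      rwa [hh2, map_add, hc1, add_zero] at h1
    obtain ⟨y, hy, hyy⟩ := q.comm_mem K hiso hK ha hbQ hh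
    have hy1 : y ≠ 1 := fun h1 => by
      have h2 := hyy a
      rw [h1, q.tr_of_perp (q.B_self a), q.tr_of_perp (show q.B a b = 0 by rw [q.B_comm]; exact hba),
        q.tr_of_perp (show q.B a (h b) = 0 by rw [q.B_comm]; exact hc2), q.tr_of_one hB] at h2
      have h5 : h a = 0 := left_eq_add.1 h2
      rw [h5, q.Q_zero] at hQ1
      exact zero_ne_one hQ1
    obtain ⟨S, hS⟩ : ∃ S, S = Submodule.span (ZMod 2) ({a, h a} : Set V) ⊔
        Submodule.span (ZMod 2) ({b, h b} : Set V) := ⟨_, rfl⟩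
    have hyfix : ∀ w ∈ q.perp S, y w = w := fun w hw => by
      have h' := q.mem_perp.1 (hS ▸ hw : w ∈ q.perp (_ ⊔ _))
      have e1 := h' a (Submodule.mem_sup_left (Submodule.subset_span (Set.mem_insert _ _)))
      have e2 := h' (h a) (Submodule.mem_sup_left (Submodule.subset_span (Set.mem_insert_of_mem _ rfl)))
      have e3 := h' b (Submodule.mem_sup_right (Submodule.subset_span (Set.mem_insert _ _)))
      have e4 := h' (h b) (Submodule.mem_sup_right (Submodule.subset_span (Set.mem_insert_of_mem _ rfl)))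
      rw [hyy, q.tr_of_perp e1, q.tr_of_perp e3, q.tr_of_perp e4, q.tr_of_perp e2]
    by_cases hns : ∃ z ∈ q.perp S, q.Q z = 1
    · obtain ⟨z, hz, hzQ⟩ := hns
      exact q.exists_three_fix K hiso hK hy hy1 hzQ (hyfix z hz)
    exfalso
    push Not at hns
    have hs : ∀ z ∈ q.perp S, q.Q z = 0 := fun z hz => (zmod2 _).resolve_right (hns z hz)
    have hle := q.isotropic_of_singular hs
    rw [q.perp_perp] at hle
    -- `S⊥ ≤ S ∩ ⟨a, h a⟩⊥ = ⟨b, h b⟩`
    have hsub : q.perp S ≤ Submodule.span (ZMod 2) ({b, h b} : Set V) := by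
      intro z hz
      obtain ⟨u, hu, v, hv, huv⟩ := Submodule.mem_sup.1 (hS ▸ hle hz : z ∈ _ ⊔ _)
      obtain ⟨i, j, rfl⟩ := Submodule.mem_span_pair.1 hu
      have h' := q.mem_perp.1 hz
      have e1 := h' a (hS ▸ Submodule.mem_sup_left (Submodule.subset_span (Set.mem_insert _ _)))
      have e2 := h' (h a) (hS ▸ Submodule.mem_sup_left (Submodule.subset_span (Set.mem_insert_of_mem _ rfl)))
      obtain ⟨i', j', rfl⟩ := Submodule.mem_span_pair.1 hv
      rw [← huv] at e1 e2
      simp [q.B_self, hB, q.B_comm (h a) a, hba, hbha, hc1, hc2] at e1 e2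
      subst e1; subst e2
      simpa [← huv] using hv
    have hS4 : finrank (ZMod 2) S ≤ 4 := by
      have := Submodule.finrank_add_le_finrank_add_finrank (Submodule.span (ZMod 2) ({a, h a} : Set V))
        (Submodule.span (ZMod 2) ({b, h b} : Set V))
      have := finrank_span_le_two a (h a)
      have := finrank_span_le_two b (h b)
      rw [hS]; omega
    have e : q.perp S = Submodule.span (ZMod 2) ({b, h b} : Set V) := by
      refine Submodule.eq_of_le_of_finrank_le hsub ?_
      have := q.finrank_perp S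
      have := finrank_span_le_two b (h b)
      omega
    rw [hs b (e ▸ Submodule.subset_span (Set.mem_insert _ _))] at hbQ
    exact zero_ne_one hbQ

/-- A member fixing a singular vector, nontrivial on its perp. -/
theorem exists_local (hne : K ≠ ⊥) :
    ∃ h ∈ K, ∃ c, c ≠ 0 ∧ q.Q c = 0 ∧ h c = c ∧ ∃ p, q.B p c = 0 ∧ h p ≠ p ∧ h p ≠ p + c := by
  have := q.finite
  have hk3 := q.three
  obtain ⟨h0, hh0, hh01⟩ := (Subgroup.bot_or_exists_ne_one K).resolve_left hne
  obtain ⟨x, hx, hx1, W, hW, hWfix⟩ := q.exists_fix K hiso hK hh0 hh01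
  obtain ⟨c, hc, hc0, hcQ⟩ := q.exists_singular hW
  by_cases hgood : ∃ p, q.B p c = 0 ∧ x p ≠ p ∧ x p ≠ p + c
  · exact ⟨x, hx, c, hc0, hcQ, hWfix c hc, hgood⟩
  push Not at hgood
  have hcc : q.B c c = 0 := q.B_self c
  obtain ⟨P, hP⟩ : ∃ P, P = q.perp (Submodule.span (ZMod 2) {c}) := ⟨_, rfl⟩
  have hPmem : ∀ {p}, p ∈ P ↔ q.B p c = 0 := fun {p} => by rw [hP]; exact q.mem_perp_span
  classical
  have hxp : ∀ p ∈ P, x p = p + (if x p = p then (0 : ZMod 2) else 1) • c := fun p hp => by
    by_cases e : x p = p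
    · rw [if_pos e, zero_smul, add_zero, e]
    · rw [if_neg e, one_smul]; exact hgood p (hPmem.1 hp) e
  have hcinj : ∀ i j : ZMod 2, i • c = j • c → i = j := by
    intro i j e
    rcases zmod2 i with rfl | rfl <;> rcases zmod2 j with rfl | rfl <;>
      first | rfl | (simp at e; first | exact absurd e.symm hc0 | exact absurd e hc0)
  let l : P →ₗ[ZMod 2] ZMod 2 := (AddMonoidHom.mk' (fun p : P => if x (p : V) = p then (0 : ZMod 2) else 1)
    fun u v => hcinj _ _ (add_left_cancel (a := ((u + v : P) : V)) (by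
      refine (hxp _ (u + v).2).symm.trans ?_
      rw [Submodule.coe_add, map_add]
      conv_lhs => rw [hxp _ u.2, hxp _ v.2]
      rw [add_smul]; abel))).toZModLinearMap 2
  obtain ⟨v, hv⟩ := q.exists_represent P l
  have hvc : q.B v c = 0 := by
    rw [show q.B v c = l ⟨c, hPmem.2 hcc⟩ from hv ⟨c, _⟩]
    exact if_pos (hWfix c hc)
  have hxv : ∀ p, q.B p c = 0 → x p = p + q.B p v • c := fun p hp => by
    rw [hxp p (hPmem.2 hp), q.B_comm p v, hv ⟨p, hPmem.2 hp⟩]; rfl
  have hvn : v ∉ Submodule.span (ZMod 2) {c} := by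
    intro hmem
    have hall : ∀ p, q.B p c = 0 → x p = p := fun p hp => by
      obtain ⟨i, rfl⟩ := Submodule.mem_span_singleton.1 hmem
      rw [hxv p hp, map_smul, hp, smul_zero, zero_smul, add_zero]
    refine hx1 (LinearEquiv.ext fun p => ?_)
    show x p = p
    rcases zmod2 (q.B p c) with h | h
    · exact hall p h
    have hd : x p + p ∈ q.perp P := q.mem_perp.2 fun w hw => by
      rw [map_add, LinearMap.add_apply, ← (hiso x hx).B_map p w, hall w (hPmem.1 hw),
        CharTwo.add_self_eq_zero]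
    rw [hP, q.perp_perp] at hd
    obtain ⟨i, hi⟩ := Submodule.mem_span_singleton.1 hd
    have hxe : x p = p + i • c := by rw [hi, add_comm (x p) p, add_add_left]
    rcases zmod2 i with rfl | rfl
    · rw [hxe, zero_smul, add_zero]
    · have e := hiso x hx p
      rw [hxe, one_smul, q.polar, hcQ, h, add_zero, add_eq_left] at e
      exact absurd e one_ne_zero
  obtain ⟨y, hy, u, huQ, huc, hyu⟩ : ∃ y ∈ K, ∃ u, q.Q u = 1 ∧ q.B u c = 0 ∧
      ∀ p, q.B p c = 0 → y p = p + q.B p u • c := by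
    rcases zmod2 (q.Q v) with hvQ | hvQ
    swap
    · exact ⟨x, hx, v, hvQ, hvc, hxv⟩
    obtain ⟨u, huQ, huc, huv⟩ := q.exists_ns_pair hvn
    obtain ⟨S, hS⟩ : ∃ S, S = Submodule.span (ZMod 2) ({c, v} : Set V) ⊔ Submodule.span (ZMod 2) {u} :=
      ⟨_, rfl⟩
    have hu_S : u ∈ S := hS ▸ Submodule.mem_sup_right (Submodule.mem_span_singleton_self u)
    obtain ⟨w, hw, hwQ⟩ := q.exists_ns_perp (W := S) (by
      have := q.finrank_sup_span_le (Submodule.span (ZMod 2) ({c, v} : Set V)) u
      have := finrank_span_le_two c v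
      rw [hS]; omega) hu_S huQ
    have hw' := q.mem_perp.1 hw
    have hwc : q.B w c = 0 := hw' c (hS ▸ Submodule.mem_sup_left (Submodule.subset_span (Set.mem_insert _ _)))
    have hwv : q.B w v = 0 := hw' v (hS ▸ Submodule.mem_sup_left (Submodule.subset_span (Set.mem_insert_of_mem _ rfl)))
    have hwu : q.B w u = 0 := hw' u hu_S
    refine ⟨x * ((q.tr u * q.tr w) * x * (q.tr w * q.tr u)), K.mul_mem hx (hK u w huQ hwQ x hx _ fun z => ?_),
      u, huQ, huc, fun p hp => ?_⟩
    · show q.tr u (q.tr w (x (q.tr w (q.tr u (q.tr u (q.tr w z)))))) = _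
      rw [show q.tr u (q.tr u (q.tr w z)) = q.tr w z from q.trans_trans u _,
        show q.tr w (q.tr w z) = z from q.trans_trans w z]
    · obtain ⟨p', hp'⟩ : ∃ p', p' = q.tr w (q.tr u p) := ⟨_, rfl⟩
      have hpc : q.B p' c = 0 := by
        rw [hp', tr_apply, tr_apply]
        simp [hp, huc, hwc]
      have hpv : q.B p' v = q.B p v + q.B p u := by
        rw [hp', tr_apply, tr_apply]
        simp [hwv, huv]
      show x (q.tr u (q.tr w (x (q.tr w (q.tr u p))))) = _
      rw [← hp', hxv p' hpc, map_add, map_smul, map_add, map_smul,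
        q.tr_of_perp (show q.B c w = 0 by rw [q.B_comm]; exact hwc),
        q.tr_of_perp (show q.B c u = 0 by rw [q.B_comm]; exact huc), hp',
        show ∀ z, q.tr w (q.tr w z) = z from q.trans_trans w,
        show ∀ z, q.tr u (q.tr u z) = z from q.trans_trans u, ← hp', map_add, map_smul, hxv p hp,
        hWfix c hc, hpv, add_assoc, ← add_smul, ← add_assoc (q.B p v), CharTwo.add_self_eq_zero, zero_add]
  -- a second singular vector fixed by `y`
  obtain ⟨d0, hd0, hd0n⟩ : ∃ d ∈ q.perp (Submodule.span (ZMod 2) ({c, u} : Set V)),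
      d ∉ Submodule.span (ZMod 2) ({c, u} : Set V) := SetLike.not_le_iff_exists.1 fun h => by
    have := Submodule.finrank_mono h
    have := q.two_le_perp_pair c u
    have := finrank_span_le_two c u
    omega
  obtain ⟨hd0c, hd0u⟩ := q.mem_perp_pair.1 hd0
  obtain ⟨d, hdQ, hdc, hdu, hdn⟩ : ∃ d, q.Q d = 0 ∧ q.B d c = 0 ∧ q.B d u = 0 ∧
      d ∉ Submodule.span (ZMod 2) ({c, u} : Set V) := by
    rcases zmod2 (q.Q d0) with h | h
    · exact ⟨d0, h, hd0c, hd0u, hd0n⟩
    · refine ⟨d0 + u, ?_, by simp [hd0c, huc], by simp [hd0u, q.B_self], fun hm => hd0n ?_⟩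
      · rw [q.polar, h, huQ, hd0u, add_zero, CharTwo.add_self_eq_zero]
      · rw [← add_add_right d0 u]
        exact add_mem hm (Submodule.subset_span (Set.mem_insert_of_mem _ rfl))
  have hd0' : d ≠ 0 := fun h => hdn (h ▸ Submodule.zero_mem _)
  have hun : u ∉ Submodule.span (ZMod 2) ({c, d} : Set V) := fun hm => by
    obtain ⟨i, j, hij⟩ := Submodule.mem_span_pair.1 hm
    rcases zmod2 j with rfl | rfl
    · rw [zero_smul, add_zero] at hij
      rw [← hij] at huQ
      rcases zmod2 i with rfl | rfl <;> simp [q.Q_zero, hcQ] at huQ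
    · refine hdn (Submodule.mem_span_pair.2 ⟨i, 1, ?_⟩)
      rw [one_smul, ← hij, one_smul, ← add_assoc, ← add_smul, CharTwo.add_self_eq_zero, zero_smul, zero_add]
  obtain ⟨p, hp, hpu⟩ := q.exists_perp_one hun
  obtain ⟨hpc, hpd⟩ := q.mem_perp_pair.1 hp
  have hyp : y p = p + c := by rw [hyu p hpc, hpu, one_smul]
  refine ⟨y, hy, d, hd0', hdQ, by rw [hyu d hdc, hdu, zero_smul, add_zero], p, hpd, ?_, ?_⟩
  · rw [hyp]; exact fun h => hc0 (add_eq_left.1 h)
  · rw [hyp]; exact fun h => hdn (add_left_cancel h ▸ Submodule.subset_span (Set.mem_insert _ _))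

end Cfsg.Agent.C6Gen.QF
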