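import Cfsg.Agent.Lib.C6Gen.Frame
import Cfsg.Agent.Lib.C6Gen.Local
/-!
# Centralisers of noncentral involutions normalise the system

* `Halves`              : what is known of the centraliser of `r` in an overgroup through its two halves
* `centraliser_normalises`
-/

set_option autoImplicit false
set_option linter.unusedSectionVars false
set_option linter.style.haveILetI false

namespace Cfsg.Agent.C6Gen

open Module Matrix

variable {k : ℕ} {ι κ : Type} [Fintype ι] [DecidableEq ι] [Nonempty ι] [Fintype κ] [DecidableEq κ]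
  [Nonempty κ] {F : Type*} [Field F] {e : κ ⊕ κ ≃ ι}

/-- The halves of the centraliser. -/
structure Halves {R : Subgroup (GL ι F)} {r : GL ι F} (φ : Frame e R r) (G : Subgroup (GL ι F)) : Prop where
  fst : ∀ a b, φ.j (a, b) ∈ G → a ∈ Cfsg.Geo.subgroupNormalizer φ.diag
  dbl : ∀ a b, φ.j (a, b) ∈ G → φ.j (a, a) ∈ G
  half : ∀ c ∈ φ.diag, φ.j (1, c) ∈ G

namespace Frame

variable {R G : Subgroup (GL ι F)} {r : GL ι F} (φ : Frame e R r)
variable (hR : Sys (k + 1) R) (hr : r ∈ R)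

theorem j_swap (a b : GL κ F) : φ.v * φ.j (a, b) * φ.v = φ.j (b, a) := by
  rw [φ.v_swap, mul_assoc, φ.v_sq, mul_one]

include hR hr

theorem mem_pair {a : GL κ F} (ha : a ∈ φ.diag) : φ.j (a, -a) ∈ R := by
  have := R.mul_mem ha hr
  rwa [dbl_apply, j_mul_r] at this

theorem dbl_normal {n : GL κ F} (hn : n ∈ Cfsg.Geo.subgroupNormalizer φ.diag) :
    φ.j (n, n) ∈ Cfsg.Geo.subgroupNormalizer R := by
  have := hR.finiteR
  refine mem_normalizer_of fun x hx => ?_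
  obtain ⟨a, ha, rfl | rfl | rfl | rfl⟩ := φ.exists_form hR hr hx
  all_goals have hc : n * a * n⁻¹ ∈ φ.diag := (Subgroup.mem_normalizer_iff.mp hn a).mp ha
  · rw [φ.j_inv, j_mul, j_mul]; exact hc
  · rw [φ.j_inv, j_mul, j_mul, mul_neg, neg_mul]; exact φ.mem_pair hR hr hc
  · rw [φ.j_inv, ← mul_assoc, j_mul, mul_assoc, φ.v_swap, ← mul_assoc, j_mul]
    exact R.mul_mem hc φ.v_mem
  · rw [φ.j_inv, ← mul_assoc, j_mul, mul_assoc, φ.v_swap, ← mul_assoc, j_mul, mul_neg, neg_mul]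
    exact R.mul_mem (φ.mem_pair hR hr hc) φ.v_mem

/-- The halves of members normalise `R`. -/
theorem half_normal {c : GL κ F} (hc : c ∈ φ.diag) :
    φ.j (1, c) ∈ Cfsg.Geo.subgroupNormalizer R := by
  have := hR.finiteR
  have hsc : ∀ a ∈ φ.diag, c * a * c⁻¹ = a ∨ c * a * c⁻¹ = -a := fun a ha =>
    (φ.diag_comm hR hr hc ha).imp (fun h => by rw [h, mul_inv_cancel_right])
      fun h => by rw [h, neg_mul, mul_inv_cancel_right]
  have hfix : ∀ a ∈ φ.diag, φ.j (1, c) * φ.j (a, a) * (φ.j (1, c))⁻¹ ∈ R ∧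
      φ.j (1, c) * φ.j (a, -a) * (φ.j (1, c))⁻¹ ∈ R := fun a ha => by
    rw [φ.j_inv, j_mul, j_mul, j_mul, j_mul]
    simp only [one_mul, inv_one, mul_one, mul_neg, neg_mul]
    rcases hsc a ha with h | h <;> rw [h]
    · exact ⟨ha, φ.mem_pair hR hr ha⟩
    · refine ⟨φ.mem_pair hR hr ha, ?_⟩
      rw [neg_neg]; exact ha
  have hvconj : φ.j (1, c) * φ.v * (φ.j (1, c))⁻¹ ∈ R := by
    rw [φ.j_inv, mul_assoc, φ.v_swap, ← mul_assoc, j_mul, inv_one, mul_one, one_mul]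
    refine R.mul_mem ?_ φ.v_mem
    rcases φ.diag_sq hR hr hc with h | h
    · rw [inv_eq_of_mul_eq_one_right h]; exact hc
    · rw [inv_eq_of_mul_eq_one_right (show c * -c = 1 by rw [mul_neg, h, neg_neg])]
      have h' := φ.mem_pair hR hr (φ.diag.mul_mem (φ.diag_neg_mem hR hr) hc)
      simpa using h'
  have hsplit : ∀ y, φ.j (1, c) * (y * φ.v) * (φ.j (1, c))⁻¹ =
      (φ.j (1, c) * y * (φ.j (1, c))⁻¹) * (φ.j (1, c) * φ.v * (φ.j (1, c))⁻¹) := fun y => by group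
  refine mem_normalizer_of fun x hx => ?_
  obtain ⟨a, ha, rfl | rfl | rfl | rfl⟩ := φ.exists_form hR hr hx
  · exact (hfix a ha).1
  · exact (hfix a ha).2
  · rw [hsplit]; exact R.mul_mem (hfix a ha).1 hvconj
  · rw [hsplit]; exact R.mul_mem (hfix a ha).2 hvconj

omit hR hr in
/-- The pairs in a frame. -/
theorem pair_val {a b m : GL κ F}
    (hm : (m : Matrix κ κ F) = (2 : F)⁻¹ • ((1 + (a : Matrix κ κ F)) * (1 + (b : Matrix κ κ F)))) :
    ((φ.j (m, m) : GL ι F) : Matrix ι ι F) =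
      (2 : F)⁻¹ • ((1 + ((φ.j (a, a) : GL ι F) : Matrix ι ι F)) * (1 + ((φ.j (b, b) : GL ι F) : Matrix ι ι F))) := by
  have h1 : ∀ c : GL κ F, (1 + ((φ.j (c, c) : GL ι F) : Matrix ι ι F)) * (φ.P : Matrix ι ι F) =
      (φ.P : Matrix ι ι F) * blocks e (1 + (c : Matrix κ κ F)) 0 0 (1 + (c : Matrix κ κ F)) := fun c => by
    rw [add_mul, one_mul, φ.j_val]
    nth_rewrite 1 [← mul_one (φ.P : Matrix ι ι F)]
    rw [← mul_add, ← blocks_one (e := e), blocks, blocks, ← map_add, Matrix.fromBlocks_add]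
    simp [blocks]
  refine (Units.mul_left_inj φ.P).1 ?_
  rw [φ.j_val, Matrix.smul_mul, mul_assoc, h1, ← mul_assoc, h1, mul_assoc, blocks_mul, ← Matrix.mul_smul,
    hm]
  congr 1
  rw [blocks, blocks, ← map_smul, Matrix.fromBlocks_smul]
  simp

end Frame

variable {R G : Subgroup (GL ι F)}

/-- The centraliser of a noncentral involution normalises `R`. -/
theorem centraliser_normalises (hk : 3 ≤ k) (hR : Sys (k + 1) R) (hle : R ≤ G)
    (hpm : ∀ g ∈ G, ∀ c : F, (g : Matrix ι ι F) = c • 1 → g = 1 ∨ g = -1) (hpairs : HasPairs R G)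
    (hex : ∀ r ∈ R, r * r = 1 → r ≠ 1 → r ≠ -1 → ∃ φ : Frame e R r, Halves φ G)
    {r : GL ι F} (hr : r ∈ R) (hrr : r * r = 1) (h1 : r ≠ 1) (h2 : r ≠ -1)
    {g : GL ι F} (hg : g ∈ G) (hgr : g * r = r * g) : g ∈ Cfsg.Geo.subgroupNormalizer R := by
  classical
  obtain ⟨φ, Hφ⟩ := hex r hr hrr h1 h2
  obtain ⟨g1, g2, rfl⟩ := φ.exists_j hR.two hgr
  have hP := φ.diag_sys hR hr
  letI := hP.addCommGroup
  letI := hP.module2
  have hfinP := hP.finite
  have hfinP' := hP.finiteR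
  obtain ⟨q, hq⟩ : ∃ q, q = hP.quad hk := ⟨_, rfl⟩
  have hvG : φ.v ∈ G := hle φ.v_mem
  have hswap : ∀ {a b : GL κ F}, φ.j (a, b) ∈ G → φ.j (b, a) ∈ G := fun {a b} h =>
    φ.j_swap a b ▸ G.mul_mem (G.mul_mem hvG h) hvG
  have hg11 := φ.dbl_normal hR hr (Hφ.fst _ _ hg)
  obtain ⟨h, hh⟩ : ∃ h, h = g1⁻¹ * g2 := ⟨_, rfl⟩
  have hhG : φ.j (1, h) ∈ G := by
    have h' := G.mul_mem (G.inv_mem (Hφ.dbl _ _ hg)) hg
    rwa [φ.j_inv, φ.j_mul, inv_mul_cancel, ← hh] at h'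
  suffices hN : φ.j (1, h) ∈ Cfsg.Geo.subgroupNormalizer R by
    have h' := mul_mem hg11 hN
    rwa [φ.j_mul, mul_one, hh, mul_inv_cancel_left] at h'
  let K : Subgroup (GL κ F) := G.comap (φ.j.comp (MonoidHom.prod 1 (MonoidHom.id (GL κ F))))
  have hKmem : ∀ x, x ∈ K ↔ φ.j (1, x) ∈ G := fun x => Iff.rfl
  have hKN : ∀ x ∈ K, x ∈ Cfsg.Geo.subgroupNormalizer φ.diag := fun x hx => Hφ.fst _ _ (hswap hx)
  have hconj : ∀ {x : GL κ F}, x ∈ K → ∀ p ∈ φ.diag, x * p * x⁻¹ ∈ φ.diag := fun hx p hp =>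
    (Subgroup.mem_normalizer_iff.mp (hKN _ hx) p).mp hp
  -- signs
  by_cases hsign : ∀ p ∈ φ.diag, h * p * h⁻¹ = p ∨ h * p * h⁻¹ = -p
  · obtain ⟨y, hy, c, hc⟩ := hP.signs hk hsign
    have hcc : φ.j (h * y, h * y) ∈ G := by
      have h1' := G.mul_mem hhG (Hφ.half y hy)
      rw [φ.j_mul, one_mul] at h1'
      have h2' := G.mul_mem (hswap h1') h1'
      rwa [φ.j_mul, mul_one, one_mul] at h2'
    have hval : ((φ.j (h * y, h * y) : GL ι F) : Matrix ι ι F) = c • 1 := by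
      refine (Units.mul_left_inj φ.P).1 ?_
      rw [φ.j_val, hc, Matrix.smul_mul, one_mul]
      have : blocks e (c • (1 : Matrix κ κ F)) 0 0 (c • 1) = c • (1 : Matrix ι ι F) := by
        rw [← blocks_one (e := e), blocks, blocks, ← map_smul, Matrix.fromBlocks_smul]; simp
      rw [this, Matrix.mul_smul, mul_one]
    have hhP : h ∈ φ.diag := by
      rcases hpm _ hcc c hval with e1 | e1
      · rw [← φ.j_one] at e1
        rw [eq_inv_of_mul_eq_one_left (φ.j_inj e1).1]; exact φ.diag.inv_mem hy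
      · rw [← φ.j_one, ← φ.j_neg] at e1
        rw [eq_mul_inv_of_mul_eq (φ.j_inj e1).1]
        exact φ.diag.mul_mem (φ.diag_neg_mem hR hr) (φ.diag.inv_mem hy)
    exact φ.half_normal hR hr hhP
  exfalso
  -- the action of `K`
  let Act (x : GL κ F) (σ : VB φ.diag ≃ₗ[ZMod 2] VB φ.diag) : Prop :=
    ∀ (p : φ.diag) (p' : φ.diag), (p' : GL κ F) = x * p * x⁻¹ → σ (Additive.ofMul (bar p)) = Additive.ofMul (bar p')
  let Kbar : Subgroup (VB φ.diag ≃ₗ[ZMod 2] VB φ.diag) :=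
    { carrier := {σ | ∃ x ∈ K, Act x σ}
      one_mem' := ⟨1, K.one_mem, fun p p' hp => by
        rw [show p' = p from Subtype.ext (by rw [hp]; group)]; rfl⟩
      mul_mem' := fun {σ τ} ⟨x, hx, hx'⟩ ⟨y, hy, hy'⟩ => ⟨x * y, K.mul_mem hx hy, fun p p' hp => by
        show σ (τ _) = _
        rw [hy' p ⟨_, hconj hy p p.2⟩ rfl]
        exact hx' _ p' (by rw [hp]; group)⟩
      inv_mem' := fun {σ} ⟨x, hx, hx'⟩ => ⟨x⁻¹, K.inv_mem hx, fun p p' hp => by
        show σ.symm _ = _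
        rw [LinearEquiv.symm_apply_eq]
        exact (hx' p' p (by rw [hp]; group)).symm⟩ }
  have hlift : ∀ v : VB φ.diag, Additive.ofMul (bar (Sys.lift v)) = v := fun v => by
    rw [Sys.bar_lift]; rfl
  have hiso : ∀ σ ∈ Kbar, q.Isom σ := by
    rintro σ ⟨x, hx, hx'⟩ v
    obtain ⟨p', hp'⟩ : ∃ p' : φ.diag, (p' : GL κ F) = x * (Sys.lift v : GL κ F) * x⁻¹ :=
      ⟨⟨_, hconj hx _ (Sys.lift v).2⟩, rfl⟩
    have he := hx' _ p' hp'
    rw [hlift] at he
    rw [he, hq]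
    show Qv (Sys.lift _) = Qv (Sys.lift v)
    rw [hP.Qv_congr (y' := p') (Sys.bar_lift (Additive.ofMul (bar p') : VB φ.diag))]
    have key : (p' : GL κ F) * p' = x * ((Sys.lift v : GL κ F) * Sys.lift v) * x⁻¹ := by rw [hp']; group
    simp only [Qv, key, conj_eq_one_iff]
  have hKpair : ∀ a b, q.Q a = 1 → q.Q b = 1 → ∀ σ ∈ Kbar, ∀ σ' : VB φ.diag ≃ₗ[ZMod 2] VB φ.diag,
      (∀ v, σ' (q.tr a (q.tr b v)) = q.tr a (q.tr b (σ v))) → σ' ∈ Kbar := by
    rintro a b ha hb σ ⟨x, hx, hx'⟩ σ' hσ'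
    have hsq : ∀ {c : VB φ.diag}, q.Q c = 1 → (Sys.lift c : GL κ F) * Sys.lift c = -1 := fun {c} hc => by
      rcases hP.Q_cases (Sys.lift c) with ⟨-, h⟩ | ⟨h, -⟩
      · rw [hq] at hc
        rw [show Qv (Sys.lift c) = 1 from hc] at h; exact absurd h one_ne_zero
      · exact h
    obtain ⟨A, hA⟩ : ∃ A : φ.diag, A = Sys.lift a := ⟨_, rfl⟩
    obtain ⟨B, hB⟩ : ∃ B : φ.diag, B = Sys.lift b := ⟨_, rfl⟩
    have hAA : (A : GL κ F) * A = -1 := hA ▸ hsq ha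
    have hBB : (B : GL κ F) * B = -1 := hB ▸ hsq hb
    obtain ⟨m, hm, hmv, hmc⟩ := hP.exists_pair_normal A.2 B.2 hAA hBB
    have hmG : φ.j (m, m) ∈ G :=
      hpairs (φ.j ((A : GL κ F), (A : GL κ F))) A.2 (φ.j ((B : GL κ F), (B : GL κ F))) B.2
        (by rw [φ.j_mul, hAA, φ.j_neg, φ.j_one]) (by rw [φ.j_mul, hBB, φ.j_neg, φ.j_one]) _ (φ.pair_val hmv)
    refine ⟨m * x * m⁻¹, ?_, fun p p' hp => ?_⟩
    · show φ.j (1, m * x * m⁻¹) ∈ G
      have h3 := G.mul_mem (G.mul_mem hmG hx) (G.inv_mem hmG)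
      have e1 : (φ.j.comp (MonoidHom.prod 1 (MonoidHom.id (GL κ F)))) x = φ.j (1, x) := rfl
      rwa [e1, φ.j_inv, φ.j_mul, φ.j_mul, mul_one, mul_inv_cancel] at h3
    have htau : ∀ p p' : φ.diag, (p' : GL κ F) = m * p * m⁻¹ →
        q.tr a (q.tr b (Additive.ofMul (bar p))) = Additive.ofMul (bar p') := by
      intro p p' hp
      have hstep : ∀ (c : VB φ.diag) (C z w : φ.diag), C = Sys.lift c →
          ((w : GL κ F) = z ∧ (z : GL κ F) * C = C * z ∨ (w : GL κ F) = C * z ∧ (z : GL κ F) * C = -(C * z)) →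
          q.tr c (Additive.ofMul (bar z)) = Additive.ofMul (bar w) := by
        intro c C z w hC hw
        have hBv : q.B (Additive.ofMul (bar z)) c = Bv z C := by
          rw [hq]
          show Bv (Sys.lift _) (Sys.lift c) = _
          rw [hP.Bv_comm, hP.Bv_congr (y' := z) _ (Sys.bar_lift (Additive.ofMul (bar z) : VB φ.diag)), hC]
          exact hP.Bv_comm _ _
        rw [q.tr_apply, hBv]
        rcases hw with ⟨e1, e2⟩ | ⟨e1, e2⟩ <;> rcases hP.B_cases z C with ⟨f1, f2⟩ | ⟨f1, f2⟩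
        · rw [f2, zero_smul, add_zero, show w = z from Subtype.ext e1]
        · rw [f1] at e2; exact absurd e2.symm (hP.ne_neg _)
        · rw [f1] at e2; exact absurd e2 (hP.ne_neg _)
        · rw [f2, one_smul, show w = C * z from Subtype.ext e1, bar_mul, hC, add_comm]
          rw [show Additive.ofMul (bar (Sys.lift c) * bar z) =
            Additive.ofMul (bar (Sys.lift c)) + Additive.ofMul (bar z) from rfl, hlift]
      obtain ⟨y, hy, hy'⟩ := hmc p p.2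
      have hyR : y ∈ φ.diag := by
        rcases hy with ⟨e1, -⟩ | ⟨e1, -⟩ <;> rw [e1]
        exacts [p.2, φ.diag.mul_mem B.2 p.2]
      rw [hstep b B p ⟨y, hyR⟩ hB hy, hstep a A ⟨y, hyR⟩ p' hA (by rw [hp]; exact hy')]
    obtain ⟨p0, hp0⟩ : ∃ p0 : φ.diag, (p0 : GL κ F) = m⁻¹ * p * m :=
      ⟨⟨_, by simpa using (Subgroup.mem_normalizer_iff.mp (inv_mem hm) p).mp p.2⟩, rfl⟩
    rw [← htau p0 p (by rw [hp0]; group), hσ', hx' p0 ⟨_, hconj hx p0 p0.2⟩ rfl]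
    exact htau _ p' (by show _ = m * (x * (p0 : GL κ F) * x⁻¹) * m⁻¹; rw [hp, hp0]; group)
  have hne : Kbar ≠ ⊥ := by
    intro hbot
    apply hsign
    intro p hp
    let f : VB φ.diag →ₗ[ZMod 2] VB φ.diag := (AddMonoidHom.mk' (fun v =>
      Additive.ofMul (bar (⟨_, hconj hhG _ (Sys.lift v).2⟩ : φ.diag))) fun u v => by
        show Additive.ofMul _ = Additive.ofMul _
        congr 1
        show bar _ = bar _ * bar _
        rw [← bar_mul, bar_eq]
        have huv : bar (Sys.lift (u + v)) = bar (Sys.lift u * Sys.lift v) := by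
          rw [bar_mul, Sys.bar_lift, Sys.bar_lift, Sys.bar_lift]; rfl
        rcases bar_eq.1 huv with e1 | e1
        · left
          show h * _ * h⁻¹ * (h * _ * h⁻¹) = h * _ * h⁻¹
          rw [Subgroup.coe_mul] at e1
          rw [← e1]; group
        · right
          show h * _ * h⁻¹ * (h * _ * h⁻¹) = -(h * _ * h⁻¹)
          rw [Subgroup.coe_mul] at e1
          rw [show h * (Sys.lift u : GL κ F) * h⁻¹ * (h * (Sys.lift v : GL κ F) * h⁻¹) =
            h * ((Sys.lift u : GL κ F) * Sys.lift v) * h⁻¹ by group, e1, mul_neg, neg_mul]).toZModLinearMap 2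
    have hbarconj : ∀ (p p' : φ.diag), (p' : GL κ F) = h * p * h⁻¹ →
        f (Additive.ofMul (bar p)) = Additive.ofMul (bar p') := by
      intro p p' hp'
      show Additive.ofMul _ = Additive.ofMul _
      congr 1
      rw [bar_eq, hp']
      rcases bar_eq.1 (Sys.bar_lift (Additive.ofMul (bar p) : VB φ.diag)) with e1 | e1
      · left; show _ = h * _ * h⁻¹; rw [e1]
      · right
        show _ = -(h * _ * h⁻¹)
        rw [e1]; simp
    have hinj : Function.Injective f := fun u v huv => by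
      obtain ⟨pu, hpu⟩ : ∃ pu : φ.diag, (pu : GL κ F) = h * (Sys.lift u : GL κ F) * h⁻¹ :=
        ⟨⟨_, hconj hhG _ (Sys.lift u).2⟩, rfl⟩
      obtain ⟨pv, hpv⟩ : ∃ pv : φ.diag, (pv : GL κ F) = h * (Sys.lift v : GL κ F) * h⁻¹ :=
        ⟨⟨_, hconj hhG _ (Sys.lift v).2⟩, rfl⟩
      have e1 := hbarconj _ pu hpu
      have e2 := hbarconj _ pv hpv
      rw [hlift] at e1 e2
      rw [e1, e2] at huv
      rw [← hlift u, ← hlift v]
      congr 1
      rw [bar_eq]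
      rcases bar_eq.1 (Additive.ofMul.injective huv) with e3 | e3 <;> rw [hpu, hpv] at e3
      · exact Or.inl (mul_left_cancel (mul_right_cancel e3))
      · exact Or.inr (mul_left_cancel (mul_right_cancel (e3.trans (by rw [mul_neg, neg_mul]))))
    obtain ⟨σ, hσ⟩ : ∃ σ : VB φ.diag ≃ₗ[ZMod 2] VB φ.diag, ∀ v, σ v = f v :=
      ⟨LinearEquiv.ofBijective f ⟨hinj, Finite.injective_iff_surjective.1 hinj⟩, fun _ => rfl⟩
    have hσK : σ ∈ Kbar := ⟨h, hhG, fun p p' hp' => by rw [hσ]; exact hbarconj p p' hp'⟩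
    rw [hbot, Subgroup.mem_bot] at hσK
    obtain ⟨p', hp'⟩ : ∃ p' : φ.diag, (p' : GL κ F) = h * p * h⁻¹ := ⟨⟨_, hconj hhG _ hp⟩, rfl⟩
    have e1 := hbarconj ⟨p, hp⟩ p' hp'
    rw [← hσ, hσK] at e1
    rcases bar_eq.1 (Additive.ofMul.injective e1) with e2 | e2 <;> rw [← hp', e2]
    exacts [Or.inl rfl, Or.inr rfl]
  obtain ⟨σ, ⟨k', hk', hσ⟩, γ, hγ0, hγQ, hσγ, π, hπγ, hπ1, hπ2⟩ := q.exists_local Kbar hiso hKpair hne
  obtain ⟨c, hc⟩ : ∃ c : φ.diag, c = Sys.lift γ := ⟨_, rfl⟩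
  obtain ⟨a, ha⟩ : ∃ a : φ.diag, a = Sys.lift π := ⟨_, rfl⟩
  have hcγ : Additive.ofMul (bar c) = γ := hc ▸ hlift γ
  have haπ : Additive.ofMul (bar a) = π := ha ▸ hlift π
  have hcc : (c : GL κ F) * c = 1 := by
    rcases hP.Q_cases c with ⟨h', -⟩ | ⟨-, h'⟩
    · exact h'
    · rw [hq] at hγQ
      rw [hc, show Qv (Sys.lift γ) = 0 from hγQ] at h'; exact absurd h' zero_ne_one
  have hcne : (c : GL κ F) ≠ 1 ∧ (c : GL κ F) ≠ -1 := by
    constructor <;> intro e1 <;> apply hγ0 <;> rw [← hcγ]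
    · rw [show c = 1 from Subtype.ext e1]; rfl
    · rw [show bar c = bar 1 from bar_eq.2 (Or.inr (by rw [e1, neg_neg]; rfl))]; rfl
  have hac : (a : GL κ F) * c = c * a := by
    rcases hP.B_cases a c with ⟨h', -⟩ | ⟨-, h'⟩
    · exact h'
    · rw [hq] at hπγ
      rw [ha, hc, show Bv (Sys.lift π) (Sys.lift γ) = 0 from hπγ] at h'; exact absurd h' zero_ne_one
  have hkc : k' * (c : GL κ F) * k'⁻¹ = c ∨ k' * (c : GL κ F) * k'⁻¹ = -(c : GL κ F) := by
    have e1 := hσ c ⟨_, hconj hk' c c.2⟩ rfl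
    rw [hcγ, hσγ, ← hcγ] at e1
    rcases bar_eq.1 (Additive.ofMul.injective e1) with e2 | e2
    · exact Or.inl e2
    · exact Or.inr e2
  -- adjust the sign on `c`
  obtain ⟨k2, hk2, hk2c, hk2a⟩ : ∃ k2 ∈ K, k2 * (c : GL κ F) = c * k2 ∧
      (k2 * (a : GL κ F) * k2⁻¹ = k' * a * k'⁻¹ ∨ k2 * (a : GL κ F) * k2⁻¹ = -(k' * a * k'⁻¹)) := by
    rcases hkc with e1 | e1
    · exact ⟨k', hk', mul_inv_eq_iff_eq_mul.1 e1, Or.inl rfl⟩
    · obtain ⟨x, hx, hcx⟩ := hP.exists_anti c.2 hcne.1 hcne.2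
      have hxc : x * (c : GL κ F) * x⁻¹ = -(c : GL κ F) := by
        rw [show x * (c : GL κ F) = -((c : GL κ F) * x) by rw [hcx, neg_neg], neg_mul, mul_inv_cancel_right]
      refine ⟨x * k', K.mul_mem ((hKmem x).2 (Hφ.half x hx)) hk', mul_inv_eq_iff_eq_mul.1 ?_, ?_⟩
      · rw [show x * k' * (c : GL κ F) * (x * k')⁻¹ = x * (k' * c * k'⁻¹) * x⁻¹ by group, e1, mul_neg,
          neg_mul, hxc, neg_neg]
      · rw [show x * k' * (a : GL κ F) * (x * k')⁻¹ = x * (k' * a * k'⁻¹) * x⁻¹ by group]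
        rcases φ.diag_comm hR hr hx (hconj hk' a a.2) with e2 | e2
        · exact Or.inl (by rw [e2, mul_inv_cancel_right])
        · exact Or.inr (by rw [e2, neg_mul, mul_inv_cancel_right])
  obtain ⟨a', ha'⟩ : ∃ a' : φ.diag, (a' : GL κ F) = k2 * (a : GL κ F) * k2⁻¹ := ⟨⟨_, hconj hk2 a a.2⟩, rfl⟩
  have hbar' : Additive.ofMul (bar a') = σ π := by
    rw [← haπ, hσ a ⟨_, hconj hk' a a.2⟩ rfl]
    congr 1
    rw [bar_eq, ha']
    rcases hk2a with e1 | e1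
    · exact Or.inl e1.symm
    · exact Or.inr (by rw [e1, neg_neg])
  -- the projection at `(c, c)`
  have hcR : φ.j ((c : GL κ F), (c : GL κ F)) ∈ R := c.2
  obtain ⟨ψ, Hψ⟩ := hex _ hcR (by rw [φ.j_mul, hcc, φ.j_one])
    (fun e1 => hcne.1 (φ.j_inj (e1.trans φ.j_one.symm)).1)
    (fun e1 => hcne.2 (φ.j_inj (e1.trans (by rw [φ.j_neg, φ.j_one]))).1)
  obtain ⟨x1, x2, hx12⟩ := ψ.exists_j hR.two (g := φ.j (1, k2))
    (by rw [φ.j_mul, φ.j_mul, one_mul, mul_one, hk2c])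
  have hx1 := Hψ.fst x1 x2 (hx12 ▸ hk2)
  obtain ⟨p, hp, hxp⟩ := ψ.exists_diag hR hcR (x := φ.j ((a : GL κ F), (a : GL κ F))) a.2
    (by rw [φ.j_mul, φ.j_mul, hac])
  have hp' : x1 * p * x1⁻¹ ∈ ψ.diag := (Subgroup.mem_normalizer_iff.mp hx1 p).mp hp
  have hblk1 : ((1 : Matrix ι ι F) + ((φ.j ((c : GL κ F), (c : GL κ F)) : GL ι F) : Matrix ι ι F)) *
      (ψ.P : Matrix ι ι F) = (ψ.P : Matrix ι ι F) * blocks e (1 + 1) 0 0 0 := by
    rw [add_mul, one_mul, ψ.r_eq]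
    nth_rewrite 1 [← mul_one (ψ.P : Matrix ι ι F)]
    rw [← mul_add, ← blocks_one (e := e), blocks, blocks, ← map_add, Matrix.fromBlocks_add]
    simp [blocks]
  obtain ⟨x', hx'R, hx'⟩ : ∃ x' ∈ R,
      ((φ.j ((a : GL κ F), (a' : GL κ F)) : GL ι F) : Matrix ι ι F) *
        (1 + ((φ.j ((c : GL κ F), (c : GL κ F)) : GL ι F) : Matrix ι ι F)) =
      (x' : Matrix ι ι F) * (1 + ((φ.j ((c : GL κ F), (c : GL κ F)) : GL ι F) : Matrix ι ι F)) := by
    refine ⟨ψ.j (x1 * p * x1⁻¹, x1 * p * x1⁻¹), hp', ?_⟩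
    have hcj : φ.j ((a : GL κ F), (a' : GL κ F)) =
        φ.j (1, k2) * φ.j ((a : GL κ F), (a : GL κ F)) * (φ.j (1, k2))⁻¹ := by
      rw [φ.j_inv, φ.j_mul, φ.j_mul, inv_one, mul_one, one_mul, ha']
    have key : ∀ s t : GL κ F, ((ψ.j (s, t) : GL ι F) : Matrix ι ι F) *
        (1 + ((φ.j ((c : GL κ F), (c : GL κ F)) : GL ι F) : Matrix ι ι F)) * (ψ.P : Matrix ι ι F) =
        (ψ.P : Matrix ι ι F) * blocks e ((s : Matrix κ κ F) * (1 + 1)) 0 0 0 := fun s t => by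
      rw [mul_assoc, hblk1, ← mul_assoc, ψ.j_val, mul_assoc, blocks_mul]; simp
    refine (Units.mul_left_inj ψ.P).1 ?_
    rw [hcj, hx12]
    rcases hxp with e1 | e1 <;> rw [e1, ψ.j_inv, ψ.j_mul, ψ.j_mul, key, key]
  have hcol : ((1 : Matrix ι ι F) + ((φ.j ((c : GL κ F), (c : GL κ F)) : GL ι F) : Matrix ι ι F)) *
      (φ.P : Matrix ι ι F) =
      (φ.P : Matrix ι ι F) * blocks e (1 + ((c : GL κ F) : Matrix κ κ F)) 0 0 (1 + ((c : GL κ F) : Matrix κ κ F)) := by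
    rw [add_mul, one_mul, φ.j_val]
    nth_rewrite 1 [← mul_one (φ.P : Matrix ι ι F)]
    rw [← mul_add, ← blocks_one (e := e), blocks, blocks, ← map_add, Matrix.fromBlocks_add]
    simp [blocks]
  obtain ⟨d, hd⟩ : ∃ d : Matrix κ κ F, d = 1 + ((c : GL κ F) : Matrix κ κ F) := ⟨_, rfl⟩
  rw [← hd] at hcol
  have keyd : ∀ s t : GL κ F, ((φ.j (s, t) : GL ι F) : Matrix ι ι F) *
      (1 + ((φ.j ((c : GL κ F), (c : GL κ F)) : GL ι F) : Matrix ι ι F)) * (φ.P : Matrix ι ι F) =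
      (φ.P : Matrix ι ι F) * blocks e ((s : Matrix κ κ F) * d) 0 0 ((t : Matrix κ κ F) * d) := fun s t => by
    rw [mul_assoc, hcol, ← mul_assoc, φ.j_val, mul_assoc, blocks_mul]; simp
  have keyv : ∀ s t : GL κ F, ((φ.j (s, t) * φ.v : GL ι F) : Matrix ι ι F) *
      (1 + ((φ.j ((c : GL κ F), (c : GL κ F)) : GL ι F) : Matrix ι ι F)) * (φ.P : Matrix ι ι F) =
      (φ.P : Matrix ι ι F) * blocks e 0 ((s : Matrix κ κ F) * d) ((t : Matrix κ κ F) * d) 0 := fun s t => by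
    rw [mul_assoc, hcol, Units.val_mul, mul_assoc, ← mul_assoc (φ.v : Matrix ι ι F), φ.v_eq, mul_assoc,
      blocks_mul, ← mul_assoc, φ.j_val, mul_assoc, blocks_mul]
    simp
  have hd0 : d ≠ 0 := fun e1 => hcne.2 (Units.ext (by
    rw [Units.val_neg, Units.val_one]; exact eq_neg_of_add_eq_zero_right (hd ▸ e1)))
  have hfin : ((a' : GL κ F) : Matrix κ κ F) * d = ((a : GL κ F) : Matrix κ κ F) * d ∨
      ((a' : GL κ F) : Matrix κ κ F) * d = -(((a : GL κ F) : Matrix κ κ F) * d) := by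
    have hx'' := congrArg (· * (φ.P : Matrix ι ι F)) hx'
    obtain ⟨y, -, rfl | rfl | rfl | rfl⟩ := φ.exists_form hR hr hx'R
    · simp only [keyd] at hx''
      obtain ⟨e1, -, -, e2⟩ := blocks_inj (φ.P.isUnit.mul_left_cancel hx'')
      exact Or.inl (e2.trans e1.symm)
    · simp only [keyd] at hx''
      obtain ⟨e1, -, -, e2⟩ := blocks_inj (φ.P.isUnit.mul_left_cancel hx'')
      exact Or.inr (by rw [e2, Units.val_neg, neg_mul, e1])
    all_goals
      simp only [keyd, keyv] at hx''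
      obtain ⟨e1, -, -, -⟩ := blocks_inj (φ.P.isUnit.mul_left_cancel hx'')
      exact absurd ((a : GL κ F).isUnit.mul_left_cancel (e1.trans (mul_zero _).symm)) hd0
  -- `a⁻¹ a'` against a member commuting with `c`
  obtain ⟨b, hb⟩ : ∃ b : φ.diag, b = a⁻¹ * a' := ⟨_, rfl⟩
  have hbd : ((b : GL κ F) : Matrix κ κ F) * d = d ∨ ((b : GL κ F) : Matrix κ κ F) * d = -d := by
    rw [hb, Subgroup.coe_mul, Subgroup.coe_inv, Units.val_mul, mul_assoc]
    rcases hfin with e1 | e1 <;> rw [e1]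
    · exact Or.inl (Units.inv_mul_cancel_left _ _)
    · exact Or.inr (by rw [mul_neg, Units.inv_mul_cancel_left])
  have hbπ : Additive.ofMul (bar b) = π + σ π := by
    rw [hb, ← hbar', ← haπ]
    show Additive.ofMul (bar (a⁻¹ * a')) = Additive.ofMul (bar a * bar a')
    congr 1
    rw [bar_mul]
    congr 1
    rw [bar_eq]
    rcases hP.inv_eq a.2 with e1 | e1
    · exact Or.inl (by rw [Subgroup.coe_inv, e1])
    · exact Or.inr (by rw [Subgroup.coe_inv, e1, neg_neg])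
  have hbn : Additive.ofMul (bar b) ∉ Submodule.span (ZMod 2) {γ} := by
    rw [hbπ]
    intro hm
    obtain ⟨i, hi⟩ := Submodule.mem_span_singleton.1 hm
    rcases zmod2 i with rfl | rfl
    · rw [zero_smul] at hi; exact hπ1 (QF.eq_of_add_eq_zero' hi.symm).symm
    · rw [one_smul] at hi; exact hπ2 (by rw [hi, QF.add_add_left])
  obtain ⟨ζ, hζγ, hζb⟩ := q.exists_pair_one hbn
  obtain ⟨z, hz⟩ : ∃ z : φ.diag, z = Sys.lift ζ := ⟨_, rfl⟩
  have hzc : (z : GL κ F) * c = c * z := by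
    rcases hP.B_cases z c with ⟨h', -⟩ | ⟨-, h'⟩
    · exact h'
    · rw [hq] at hζγ
      rw [hz, hc, show Bv (Sys.lift ζ) (Sys.lift γ) = 0 from hζγ] at h'; exact absurd h' zero_ne_one
  have hzb : (z : GL κ F) * b = -((b : GL κ F) * z) := by
    rcases hP.B_cases z b with ⟨-, h'⟩ | ⟨h', -⟩
    · rw [hq] at hζb
      have e1 : Bv z b = 1 := by
        rw [hz, ← hP.Bv_congr _ (Sys.bar_lift (Additive.ofMul (bar b) : VB φ.diag))]; exact hζb
      rw [e1] at h'; exact absurd h' one_ne_zero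
    · exact h'
  have hzd : ((z : GL κ F) : Matrix κ κ F) * d = d * ((z : GL κ F) : Matrix κ κ F) := by
    rw [hd, mul_add, add_mul, mul_one, one_mul, ← Units.val_mul, hzc, Units.val_mul]
  have hzb' : ((z : GL κ F) : Matrix κ κ F) * ((b : GL κ F) : Matrix κ κ F) =
      -(((b : GL κ F) : Matrix κ κ F) * ((z : GL κ F) : Matrix κ κ F)) := by
    rw [← Units.val_mul, hzb, Units.val_neg, Units.val_mul]
  have hzz : ((z : GL κ F) : Matrix κ κ F) * d = 0 := by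
    have e2 : ∀ s : Matrix κ κ F, s = -s → s = 0 := fun s hs => by
      have : (2 : F) • s = 0 := by rw [two_smul]; nth_rewrite 2 [hs]; exact add_neg_cancel s
      exact (smul_eq_zero.1 this).resolve_left hR.two
    rcases hbd with e1 | e1
    · refine e2 _ ?_
      nth_rewrite 1 [← e1]
      rw [← mul_assoc, hzb', neg_mul, mul_assoc, hzd, ← mul_assoc, e1]
    · refine e2 _ ?_
      conv_lhs => rw [show d = -(((b : GL κ F) : Matrix κ κ F) * d) by rw [e1, neg_neg]]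
      rw [mul_neg, ← mul_assoc, hzb', neg_mul, neg_neg, mul_assoc, hzd, ← mul_assoc, e1, neg_mul]
  exact hd0 ((z : GL κ F).isUnit.mul_left_cancel (hzz.trans (mul_zero _).symm))

end Cfsg.Agent.C6Gen
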