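import Cfsg.Agent.Lib.C6Gen.Sys
import Cfsg.Agent.EqLemmas
import Mathlib.LinearAlgebra.Matrix.Trace
/-!
# The degree of a system

* `Sys.card_sq` : a system of rank `k` has degree `2^k`
-/

set_option autoImplicit false
set_option linter.unusedSectionVars false
set_option linter.style.haveILetI false

namespace Cfsg.Agent.C6Gen.Sys

open Module Matrix

variable {k : ℕ} {ι : Type} [Fintype ι] [DecidableEq ι] [Nonempty ι] {F : Type*} [Field F]
variable {R : Subgroup (GL ι F)} (hR : Sys k R)
include hR

theorem trace_eq_zero {g : GL ι F} (hg : g ∈ R) (h1 : g ≠ 1) (h2 : g ≠ -1) :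
    (g : Matrix ι ι F).trace = 0 := by
  obtain ⟨x, -, hx⟩ := hR.exists_anti hg h1 h2
  have e : (g : Matrix ι ι F) * (x : Matrix ι ι F) = -((x : Matrix ι ι F) * (g : Matrix ι ι F)) := by
    rw [← Units.val_mul, hx, Units.val_neg, Units.val_mul]
  have h0 : ((g : Matrix ι ι F) * (x : Matrix ι ι F) * ((x⁻¹ : GL ι F) : Matrix ι ι F)).trace =
      (g : Matrix ι ι F).trace := by
    rw [Matrix.mul_assoc, Units.mul_inv, Matrix.mul_one]
  rw [e, Matrix.neg_mul, Matrix.trace_neg, Matrix.trace_mul_comm, ← Matrix.mul_assoc, Units.inv_mul,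
    Matrix.one_mul] at h0
  have h2' : (2 : F) * (g : Matrix ι ι F).trace = 0 := by linear_combination -h0
  exact (mul_eq_zero.mp h2').resolve_left hR.two

/-- The degree. -/
theorem card_eq : Fintype.card ι = 2 ^ k := by
  classical
  letI := hR.addCommGroup
  letI := hR.module2
  have := hR.finite
  letI : Fintype (VB R) := Fintype.ofFinite _
  obtain ⟨L, hL⟩ : ∃ L : VB R → GL ι F, L = fun v => (Sys.lift v : GL ι F) := ⟨_, rfl⟩
  -- the average commutes with the system
  have havg : ∀ M : Matrix ι ι F, ∃ c : F,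
      ∑ v : VB R, (L v : Matrix ι ι F) * M * (((L v)⁻¹ : GL ι F) : Matrix ι ι F) = c • 1 := by
    intro M
    refine hR.scalar _ fun x hx => ?_
    obtain ⟨w, hw⟩ : ∃ w : VB R, w = Additive.ofMul (bar (⟨x, hx⟩ : R)) := ⟨_, rfl⟩
    have hterm : ∀ v, (x : Matrix ι ι F) * ((L v : Matrix ι ι F) * M * (((L v)⁻¹ : GL ι F) : Matrix ι ι F)) *
        ((x⁻¹ : GL ι F) : Matrix ι ι F) =
        (L (w + v) : Matrix ι ι F) * M * (((L (w + v))⁻¹ : GL ι F) : Matrix ι ι F) := by
      intro v
      have e : bar (Sys.lift (w + v)) = bar (⟨x, hx⟩ * Sys.lift v) := by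
        rw [bar_mul, Sys.bar_lift, Sys.bar_lift, hw]; rfl
      have e' : L (w + v) = x * L v ∨ L (w + v) = -(x * L v) := by
        rw [hL]
        rcases bar_eq.1 e with h | h
        · exact Or.inl h.symm
        · exact Or.inr (by rw [show x * (Sys.lift v : GL ι F) = ((⟨x, hx⟩ * Sys.lift v : R) : GL ι F) from rfl, h, neg_neg])
      rcases e' with h | h <;> rw [h]
      · rw [_root_.mul_inv_rev, Units.val_mul, Units.val_mul]; simp only [Matrix.mul_assoc]
      · rw [inv_neg, _root_.mul_inv_rev, Units.val_neg, Units.val_neg, Units.val_mul, Units.val_mul]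
        simp only [Matrix.neg_mul, Matrix.mul_neg, neg_neg, Matrix.mul_assoc]
    have hsum : (x : Matrix ι ι F) * (∑ v : VB R, (L v : Matrix ι ι F) * M * (((L v)⁻¹ : GL ι F) : Matrix ι ι F)) *
        ((x⁻¹ : GL ι F) : Matrix ι ι F) =
        ∑ v : VB R, (L v : Matrix ι ι F) * M * (((L v)⁻¹ : GL ι F) : Matrix ι ι F) := by
      rw [Finset.mul_sum, Finset.sum_mul]
      simp only [hterm]
      exact Equiv.sum_comp (Equiv.addLeft w)
        (fun v => (L v : Matrix ι ι F) * M * (((L v)⁻¹ : GL ι F) : Matrix ι ι F))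
    conv_lhs => rw [← hsum]
    rw [Matrix.mul_assoc _ ((x⁻¹ : GL ι F) : Matrix ι ι F), Units.inv_mul, Matrix.mul_one]
  choose c hc using havg
  have hct : ∀ M : Matrix ι ι F, (2 ^ (2 * k) : F) * M.trace = c M * (Fintype.card ι : F) := by
    intro M
    have h := congrArg Matrix.trace (hc M)
    rw [Matrix.trace_sum, Matrix.trace_smul, Matrix.trace_one, smul_eq_mul] at h
    rw [← h]
    simp only [Matrix.trace_mul_cycle (L _ : Matrix ι ι F) M, Units.inv_mul, Matrix.one_mul]
    rw [Finset.sum_const, Finset.card_univ, ← Nat.card_eq_fintype_card, hR.card_bar, nsmul_eq_mul]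
    norm_num
  have h2k : (2 ^ (2 * k) : F) ≠ 0 := pow_ne_zero _ hR.two
  have hn : (Fintype.card ι : F) ≠ 0 := by
    intro hn
    obtain ⟨i⟩ := (inferInstance : Nonempty ι)
    have h := hct (Matrix.single i i 1)
    rw [hn, mul_zero, Matrix.trace_single_eq_same, mul_one] at h
    exact h2k h
  -- the trace pairing
  let Φ : Matrix ι ι F →ₗ[F] (VB R → F) :=
    { toFun := fun M v => (M * (L v : Matrix ι ι F)).trace
      map_add' := fun M N => by funext v; simp [Matrix.add_mul, Matrix.trace_add]
      map_smul' := fun a M => by funext v; simp [Matrix.trace_smul] }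
  have hinj : Function.Injective Φ := by
    rw [← LinearMap.ker_eq_bot, LinearMap.ker_eq_bot']
    intro M hM
    ext a b
    -- apply the average to `Eᵢⱼ`
    have hcd : ∀ i j : ι, c (Matrix.single i j 1) = if i = j then (2 ^ (2 * k) : F) / (Fintype.card ι : F) else 0 := by
      intro i j
      have h := hct (Matrix.single i j 1)
      by_cases hij : i = j
      · subst hij
        rw [Matrix.trace_single_eq_same, mul_one] at h
        rw [if_pos rfl, h, mul_div_cancel_right₀ _ hn]
      · rw [Matrix.trace_single_eq_of_ne _ _ _ hij, mul_zero] at h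
        rw [if_neg hij]
        exact (mul_eq_zero.1 h.symm).resolve_right hn
    have key : ∑ j, ∑ i, M j i * (c (Matrix.single j a 1) • (1 : Matrix ι ι F)) i b = 0 := by
      simp only [← hc, Matrix.sum_apply, Finset.mul_sum]
      refine Eq.trans (b := ∑ v : VB R, (∑ j, ∑ i, M j i * (L v : Matrix ι ι F) i j) *
            (((L v)⁻¹ : GL ι F) : Matrix ι ι F) a b) ?_ ?_
      rotate_left
      · refine Finset.sum_eq_zero fun v _ => ?_
        have h := congr_fun hM v
        simp only [Φ, LinearMap.coe_mk, AddHom.coe_mk, Matrix.trace, Matrix.diag, Matrix.mul_apply,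
          Pi.zero_apply] at h
        rw [h, zero_mul]
      · conv_lhs => enter [2, j]; rw [Finset.sum_comm]
        rw [Finset.sum_comm]
        refine Finset.sum_congr rfl fun v _ => ?_
        rw [Finset.sum_mul]
        refine Finset.sum_congr rfl fun j _ => ?_
        rw [Finset.sum_mul]
        refine Finset.sum_congr rfl fun i _ => ?_
        rw [Matrix.mul_apply, Finset.sum_eq_single a]
        · simp [Matrix.mul_apply, Matrix.single_apply]; ring
        · intro l _ hl
          simp [Matrix.mul_apply, hl.symm]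
        · simp
    simp only [hcd, Matrix.smul_apply, Matrix.one_apply, smul_eq_mul, mul_ite, mul_one, mul_zero,
      Finset.sum_ite_eq', Finset.mem_univ, if_true] at key
    rw [Matrix.zero_apply]
    exact (mul_eq_zero.1 key).resolve_right (div_ne_zero h2k hn)
  have hsur : Function.Surjective Φ := by
    intro f
    refine ⟨∑ w : VB R, (f w / (Fintype.card ι : F)) • (((L w)⁻¹ : GL ι F) : Matrix ι ι F), funext fun v => ?_⟩
    show ((∑ w : VB R, (f w / (Fintype.card ι : F)) • (((L w)⁻¹ : GL ι F) : Matrix ι ι F)) *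
      (L v : Matrix ι ι F)).trace = f v
    rw [Finset.sum_mul, Matrix.trace_sum, Finset.sum_eq_single v]
    · rw [Matrix.smul_mul, Units.inv_mul, Matrix.trace_smul, Matrix.trace_one, smul_eq_mul,
        div_mul_cancel₀ _ hn]
    · intro w _ hwv
      rw [Matrix.smul_mul, Matrix.trace_smul, ← Units.val_mul, hR.trace_eq_zero, smul_zero]
      · rw [hL]; exact R.mul_mem (R.inv_mem (Sys.lift w).2) (Sys.lift v).2
      all_goals
        intro h
        apply hwv
        rw [hL] at h
        simp only at h
        have e : bar (Sys.lift w) = bar (Sys.lift v) := by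
          rw [bar_eq]
          rw [inv_mul_eq_iff_eq_mul] at h
          simp only [mul_one, mul_neg] at h
          first
            | exact Or.inl h
            | exact Or.inr h
        rw [Sys.bar_lift, Sys.bar_lift] at e
        exact Additive.toMul.injective e
    · simp
  have h := (LinearEquiv.ofBijective Φ ⟨hinj, hsur⟩).finrank_eq
  rw [Module.finrank_pi, Module.finrank_matrix, Module.finrank_self, mul_one,
    ← Nat.card_eq_fintype_card, ← Nat.card_eq_fintype_card, hR.card_bar, two_mul, pow_add] at h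
  rw [← Nat.card_eq_fintype_card]
  exact Nat.mul_self_inj.1 h

end Cfsg.Agent.C6Gen.Sys
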