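import Cfsg.Agent.Lib.C6Gen.Quad
import Cfsg.Agent.EqLemmas
/-!
# Groups of isometric involutions sharing a fixed space

* `QF.Pack`          : commuting isometric involutions indexed by a subspace, sharing their fixed space on
                       the perp of an anisotropic subspace `D`
* `QF.Pack.card_le`  : their number is bounded by the codimension of the fixed space
* `QF.Pack.false_of_conj` : such a family invariant under pairs of transvections cannot exist
-/

set_option autoImplicit false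
set_option linter.unusedSectionVars false

namespace Cfsg.Agent.C6Gen.QF

open Module

variable {k : ℕ} {V : Type*} [AddCommGroup V] [Module (ZMod 2) V] (q : QF k V)

/-- `F u` for `u ∈ E`; those for `u ∈ R0` are trivial, the others fix exactly `T` on `D⊥`. -/
structure Pack (E R0 D T : Submodule (ZMod 2) V) (F : E → V →ₗ[ZMod 2] V) : Prop where
  iso : ∀ u, q.IsoInv (F u)
  mul : ∀ u v x, F (u + v) x = F u (F v x)
  anis : ∀ d ∈ D, q.Q d = 0 → d = 0
  le : T ≤ q.perp D
  fixD : ∀ u, ∀ x ∈ D, F u x = x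
  fixT : ∀ u, ∀ x ∈ T, F u x = x
  triv : ∀ u : E, (u : V) ∈ R0 → ∀ x, F u x = x
  nt : ∀ u : E, (u : V) ∉ R0 → ∃ x, F u x ≠ x
  exact : ∀ u : E, (u : V) ∉ R0 → ∀ x ∈ q.perp D, F u x = x → x ∈ T

namespace Pack

variable {q} {E R0 D T : Submodule (ZMod 2) V} {F : E → V →ₗ[ZMod 2] V} (p : q.Pack E R0 D T F)
include p

theorem diff_mem_perp (u : E) (x : V) : F u x + x ∈ q.perp D :=
  q.mem_perp.2 fun d hd => (p.iso u).diff_perp (p.fixD u d hd)

theorem diff_perp_T (u : E) (x : V) {t : V} (ht : t ∈ T) : q.B (F u x + x) t = 0 :=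
  (p.iso u).diff_perp (p.fixT u t ht)

theorem diff_T {u : E} (hu : (u : V) ∉ R0) (x : V) : F u x + x ∈ T :=
  p.exact u hu _ (p.diff_mem_perp u x) ((p.iso u).diff_fix x)

theorem diff_T' (u : E) (x : V) : F u x + x ∈ T := by
  by_cases hu : (u : V) ∈ R0
  · rw [p.triv u hu, vadd_self]; exact T.zero_mem
  · exact p.diff_T hu x

theorem diff_add (u v : E) (x : V) : F (u + v) x + x = (F u x + x) + (F v x + x) := by
  have hf : F u (F v x + x) = F v x + x := p.fixT u _ (p.diff_T' v x)
  rw [p.mul]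
  calc F u (F v x) + x = F u (F v x + x + x) + x := by rw [add_add_right]
    _ = _ := by rw [map_add, hf]; abel

theorem inR0_of_D {u : E} {x : V} (hx : x ∈ q.perp D) (hxT : x ∉ T) (hD : F u x + x ∈ D) :
    (u : V) ∈ R0 := by
  by_contra hu
  refine hxT (p.exact u hu x hx (eq_of_add_eq_zero' (p.anis _ hD ?_)))
  rw [(p.iso u).Q_diff]
  exact q.mem_perp.1 hx _ hD

theorem mem_T_of_perp {u : E} (hu : (u : V) ∉ R0) {x : V} (hx : x ∈ q.perp D)
    (hxT : ∀ t ∈ T, q.B x t = 0) : x ∈ T := by
  refine p.exact u hu x hx (eq_of_add_eq_zero' (q.nondeg _ fun v => ?_))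
  rw [(p.iso u).B_adj]
  exact hxT _ (p.diff_T hu v)

/-- Two independent members do not all fix `D⊥`. -/
theorem not_le {u v : E} (hu : (u : V) ∉ R0) (hv : (v : V) ∉ R0) (huv : ((u + v : E) : V) ∉ R0) :
    ¬ q.perp D ≤ T := by
  intro hall
  have hyD : ∀ w x, F w x + x ∈ D := fun w x => by
    rw [← q.perp_perp D]
    exact q.mem_perp.2 fun z hz => (p.iso w).diff_perp (p.fixT w z (hall hz))
  have hyR : ∀ w x, F w x + x ∈ D ⊓ q.perp D := fun w x => ⟨hyD w x, p.diff_mem_perp w x⟩
  have huniq : ∀ x ∈ D ⊓ q.perp D, ∀ y ∈ D ⊓ q.perp D, x ≠ 0 → y ≠ 0 → x = y := by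
    intro x hx y hy hx0 hy0
    refine eq_of_add_eq_zero' (p.anis _ (D.add_mem hx.1 hy.1) ?_)
    rw [q.polar, q.mem_perp.1 hx.2 y hy.1, (zmod2 _).resolve_left fun h => hx0 (p.anis x hx.1 h),
      (zmod2 _).resolve_left fun h => hy0 (p.anis y hy.1 h), add_zero, CharTwo.add_self_eq_zero]
  obtain ⟨x0, hx0⟩ := p.nt u hu
  obtain ⟨ρ, hρ⟩ : ∃ ρ, ρ = F u x0 + x0 := ⟨_, rfl⟩
  have hρ0 : ρ ≠ 0 := fun h => hx0 (eq_of_add_eq_zero' (hρ ▸ h))
  have hρR : ρ ∈ D ⊓ q.perp D := hρ ▸ hyR u x0
  have hB : ∀ w x, F w x + x ≠ 0 → q.B x ρ = 1 := fun w x h => by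
    have e := huniq _ (hyR w x) ρ hρR h hρ0
    rw [← e, ← (p.iso w).Q_diff]
    exact (zmod2 _).resolve_left fun h0 => h (p.anis _ (hyD w x) h0)
  have hmove : ∀ w : E, (w : V) ∉ R0 → ∀ x, q.B x ρ = 1 → F w x + x = ρ := by
    intro w hw x hx
    refine huniq _ (hyR w x) ρ hρR (fun h => ?_) hρ0
    obtain ⟨y, hy⟩ := p.nt w hw
    have hy' : F w y + y ≠ 0 := fun h => hy (eq_of_add_eq_zero' h)
    have h2 := hB w (x + y) (by rw [map_add, add_add_add_comm, h, zero_add]; exact hy')
    rw [map_add, LinearMap.add_apply, hx, hB w y hy', CharTwo.add_self_eq_zero] at h2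
    exact zero_ne_one h2
  have hx1 := hB u x0 (hρ ▸ hρ0)
  have h3 := p.diff_add u v x0
  rw [hmove _ huv x0 hx1, hmove _ hu x0 hx1, hmove _ hv x0 hx1, vadd_self] at h3
  exact hρ0 h3

/-- The number of members is bounded by the codimension of the fixed space. -/
theorem card_le (hP : ¬ q.perp D ≤ T) (hR0 : R0 ≤ E) :
    finrank (ZMod 2) E + finrank (ZMod 2) T ≤ finrank (ZMod 2) (q.perp D) + finrank (ZMod 2) R0 := by
  have := q.finite
  obtain ⟨x, hx, hxT⟩ := SetLike.not_le_iff_exists.1 hP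
  let φ : E →ₗ[ZMod 2] Dual (ZMod 2) (q.perp D) :=
    (AddMonoidHom.mk' (fun u => (q.B (F u x + x)).comp (q.perp D).subtype) fun u v => by
      rw [p.diff_add, map_add, LinearMap.add_comp]).toZModLinearMap 2
  obtain ⟨T', hT'⟩ : ∃ T' : Submodule (ZMod 2) (q.perp D), T' = T.comap (q.perp D).subtype := ⟨_, rfl⟩
  have h1 : LinearMap.range φ ≤ T'.dualAnnihilator := by
    rintro _ ⟨u, rfl⟩
    refine (Submodule.mem_dualAnnihilator _).2 fun t ht => ?_
    exact p.diff_perp_T u x (hT' ▸ ht : t ∈ T.comap (q.perp D).subtype)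
  have h2 : LinearMap.ker φ ≤ R0.comap E.subtype := fun u hu => by
    refine p.inR0_of_D hx hxT ?_
    rw [← q.perp_perp D]
    exact q.mem_perp.2 fun z hz => LinearMap.congr_fun (LinearMap.mem_ker.1 hu) ⟨z, hz⟩
  have h3 := Subspace.finrank_add_finrank_dualAnnihilator_eq T'
  have h4 : finrank (ZMod 2) T' = finrank (ZMod 2) T :=
    hT' ▸ (Submodule.comapSubtypeEquivOfLe p.le).finrank_eq
  have h5 := Submodule.finrank_mono h1
  have h6 := Submodule.finrank_mono h2
  have h7 : finrank (ZMod 2) (R0.comap E.subtype) = finrank (ZMod 2) R0 :=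
    (Submodule.comapSubtypeEquivOfLe hR0).finrank_eq
  have := LinearMap.finrank_range_add_finrank_ker φ
  omega

/-- No such family is invariant under the pairs of transvections. -/
theorem false_of_conj {z v : E} (hz : (z : V) ∉ R0) (hv : (v : V) ∉ R0)
    (hzv : ((z + v : E) : V) ∉ R0) (hc : finrank (ZMod 2) T + 3 ≤ finrank (ZMod 2) (q.perp D))
    (hconj : ∀ a, q.Q a = 1 → q.B a (F z a) = 0 → ∀ u : E, ∃ u' : E, ∀ x,
      F u' x = q.trans a (q.trans (F z a) (F u (q.trans a (q.trans (F z a) x))))) : False := by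
  have := q.finite
  -- the functional `x ↦ Q (z x + x)` on `D⊥`
  let φ : q.perp D →ₗ[ZMod 2] ZMod 2 := (AddMonoidHom.mk' (fun x : q.perp D => q.Q (F z (x : V) + (x : V))) fun x y => by
    rw [Submodule.coe_add, map_add, add_add_add_comm, q.polar,
      p.diff_perp_T z x (p.diff_T hz y), add_zero]).toZModLinearMap 2
  obtain ⟨K, hK⟩ : ∃ K, K = (LinearMap.ker φ).map (q.perp D).subtype := ⟨_, rfl⟩
  have hKdim : finrank (ZMod 2) (q.perp D) ≤ finrank (ZMod 2) K + 1 := by
    have := Submodule.finrank_map_subtype_eq (q.perp D) (LinearMap.ker φ)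
    have := LinearMap.finrank_range_add_finrank_ker φ
    have := Submodule.finrank_le (LinearMap.range φ)
    rw [Module.finrank_self] at this
    rw [hK]; omega
  have hKmem : ∀ x ∈ K, x ∈ q.perp D ∧ q.Q (F z x + x) = 0 := by
    rw [hK]; rintro _ ⟨x, hx, rfl⟩; exact ⟨x.2, hx⟩
  obtain ⟨a1, ha1, ha1T⟩ : ∃ a ∈ K, a ∉ T := SetLike.not_le_iff_exists.1 fun h => by
    have := Submodule.finrank_mono h; omega
  obtain ⟨a2, ha2, ha2T⟩ : ∃ a ∈ K, a ∉ T ⊔ Submodule.span (ZMod 2) {a1} :=
    SetLike.not_le_iff_exists.1 fun h => by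
      have := Submodule.finrank_mono h
      have := q.finrank_sup_span_le T a1
      omega
  -- one of them becomes nonsingular
  obtain ⟨a, haP, haT, haQ, hawQ⟩ : ∃ a, a ∈ q.perp D ∧ a ∉ T ∧ q.Q a = 1 ∧ q.Q (F z a + a) = 0 := by
    by_contra hno
    push Not at hno
    have hbad : ∀ a ∈ K, a ∉ T → ∀ l ∈ T, q.Q l + q.B a l = 0 ∧ q.Q a = 0 := by
      intro a ha haT l hl
      obtain ⟨haP, hawQ⟩ := hKmem a ha
      have key : ∀ l ∈ T, q.Q (a + l) = 0 := fun l hl => (zmod2 _).resolve_right fun h1 => by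
        refine hno (a + l) ((q.perp D).add_mem haP (p.le hl)) (fun h => haT ?_) h1 ?_
        · rw [← add_add_right a l]; exact T.add_mem h hl
        · rw [map_add, p.fixT z l hl, add_add_add_comm, vadd_self, add_zero]; exact hawQ
      have h0 : q.Q a = 0 := by simpa using key 0 T.zero_mem
      have h1 := key l hl
      rw [q.polar, h0, zero_add] at h1
      exact ⟨h1, h0⟩
    have ha2' : a2 ∉ T := fun h => ha2T (Submodule.mem_sup_left h)
    have hsum : a1 + a2 ∉ T := fun h => ha2T (by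
      rw [← add_add_left a1 a2, add_comm]
      exact add_mem (Submodule.mem_sup_left h)
        (Submodule.mem_sup_right (Submodule.mem_span_singleton_self a1)))
    refine hsum (p.mem_T_of_perp hz ((q.perp D).add_mem (hKmem a1 ha1).1 (hKmem a2 ha2).1) fun t ht => ?_)
    have e1 := (hbad a1 ha1 ha1T t ht).1
    have e2 := (hbad a2 ha2 ha2' t ht).1
    rw [map_add, LinearMap.add_apply, ← eq_of_add_eq_zero' e1, ← eq_of_add_eq_zero' e2,
      CharTwo.add_self_eq_zero]
  obtain ⟨w, hw⟩ : ∃ w, w = F z a + a := ⟨_, rfl⟩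
  rw [← hw] at hawQ
  have hwT : w ∈ T := hw ▸ p.diff_T hz a
  have hwperp : ∀ t ∈ T, q.B w t = 0 := fun t ht => hw ▸ p.diff_perp_T z a ht
  have haw : q.B a w = 0 := by rw [hw, ← (p.iso z).Q_diff, ← hw, hawQ]
  have hb : F z a = a + w := by rw [hw, add_comm (F z a) a, add_add_left]
  have hab : q.B a (F z a) = 0 := by rw [hb, map_add, q.B_self, haw, add_zero]
  obtain ⟨l, hlT, hal⟩ : ∃ l ∈ T, q.B a l = 1 := by
    by_contra h
    push Not at h
    exact haT (p.mem_T_of_perp hz haP fun t ht => (zmod2 _).resolve_right (h t ht))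
  obtain ⟨K0, hK0⟩ : ∃ K0, K0 = q.perp (D ⊔ Submodule.span (ZMod 2) ({w, a} : Set V)) := ⟨_, rfl⟩
  have hK0mem : ∀ x ∈ K0, x ∈ q.perp D ∧ q.B x w = 0 ∧ q.B x a = 0 := fun x hx => by
    have h := q.mem_perp.1 (hK0 ▸ hx : x ∈ q.perp (D ⊔ Submodule.span (ZMod 2) ({w, a} : Set V)))
    exact ⟨q.mem_perp.2 fun d hd => h d (Submodule.mem_sup_left hd),
      h w (Submodule.mem_sup_right (Submodule.subset_span (Set.mem_insert _ _))),
      h a (Submodule.mem_sup_right (Submodule.subset_span (Set.mem_insert_of_mem _ rfl)))⟩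
  have hK0dim : finrank (ZMod 2) (q.perp D) ≤ finrank (ZMod 2) K0 + 2 := by
    have := q.finrank_perp D
    have := q.finrank_perp (D ⊔ Submodule.span (ZMod 2) ({w, a} : Set V))
    have := Submodule.finrank_add_le_finrank_add_finrank D (Submodule.span (ZMod 2) ({w, a} : Set V))
    have := finrank_span_le_two w a
    rw [hK0]; omega
  -- every member is trivial or agrees with `z`
  have hall : ∀ u : E, (u : V) ∈ R0 ∨ ((u + z : E) : V) ∈ R0 := by
    intro u
    obtain ⟨u', hu'⟩ := hconj a haQ hab u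
    have hδ : ∀ x ∈ K0, F (u + u') x + x = q.B (F u x + x) a • w := by
      intro x hx
      obtain ⟨hxP, hxw, hxa⟩ := hK0mem x hx
      have hτ : q.trans a (q.trans (F z a) x) = x := by
        simp only [trans, hb, map_add, hxw, hxa, zero_smul, add_zero]
      have hy := p.diff_T' u x
      have hyw : q.B (F u x + x) w = 0 := by rw [q.B_comm]; exact hwperp _ hy
      have hu'x : F u' x = F u x + q.B (F u x + x) a • w := by
        rw [hu', hτ]
        have hFx : F u x = (F u x + x) + x := (add_add_right _ _).symm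
        generalize F u x + x = y at hFx hyw ⊢
        rw [hFx]
        simp only [trans, hb, map_add, LinearMap.add_apply, hxw, hxa, hyw, map_smul,
          LinearMap.smul_apply, q.B_self, q.B_comm w a, haw, add_zero, smul_eq_mul, mul_zero]
        rw [smul_add]
        abel_nf
        rw [show (2 : ℤ) • (q.B y a • a) = 0 by rw [two_zsmul, vadd_self], zero_add]
      have hw' : F u (q.B (F u x + x) a • w) = q.B (F u x + x) a • w :=
        p.fixT u _ (T.smul_mem _ hwT)
      rw [p.mul, hu'x, map_add, (p.iso u).invol, hw']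
      rw [add_comm x, add_add_right]
    by_cases htriv : ((u + u' : E) : V) ∈ R0
    · have hzero : ∀ x ∈ K0, q.B (F u x + x) a = 0 := fun x hx => by
        have h := hδ x hx
        rw [p.triv _ htriv, vadd_self] at h
        refine (zmod2 _).resolve_right fun h1 => ?_
        rw [h1, one_smul] at h
        refine haT (p.exact z hz a haP ?_)
        rw [hb, ← h, add_zero]
      have hmem : F u a + a ∈ D ⊔ Submodule.span (ZMod 2) ({w, a} : Set V) := by
        rw [← q.perp_perp (D ⊔ Submodule.span (ZMod 2) ({w, a} : Set V)), ← hK0]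
        refine q.mem_perp.2 fun x hx => ?_
        rw [q.B_comm, ← (p.iso u).B_adj]
        exact hzero x hx
      obtain ⟨d, hd, s, hs, hds⟩ := Submodule.mem_sup.1 hmem
      obtain ⟨i, j, rfl⟩ := Submodule.mem_span_pair.1 hs
      have hj : j = 0 := by
        have h := p.diff_perp_T u a hlT
        rw [← hds] at h
        simp [q.B_comm d l, q.mem_perp.1 (p.le hlT) d hd, hwperp l hlT, hal] at h
        exact h
      subst hj
      rcases zmod2 i with rfl | rfl
      · left
        refine p.inR0_of_D haP haT ?_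
        rw [← hds]; simpa using hd
      · right
        refine p.inR0_of_D haP haT ?_
        rw [p.diff_add, ← hw, ← hds]
        simp only [one_smul, zero_smul, add_zero, add_add_right]
        exact hd
    · exfalso
      let ψ : K0 →ₗ[ZMod 2] V := (F (u + u') + LinearMap.id).comp K0.subtype
      have hr : LinearMap.range ψ ≤ Submodule.span (ZMod 2) {w} := by
        rintro _ ⟨x, rfl⟩
        exact Submodule.mem_span_singleton.2 ⟨_, (hδ x x.2).symm⟩
      obtain ⟨K1, hK1⟩ : ∃ K1, K1 = (LinearMap.ker ψ).map K0.subtype := ⟨_, rfl⟩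
      have hK1T : K1 ≤ T := by
        rw [hK1]; rintro _ ⟨x, hx, rfl⟩
        exact p.exact _ htriv _ (hK0mem _ x.2).1 (eq_of_add_eq_zero' hx)
      have := Submodule.finrank_map_subtype_eq K0 (LinearMap.ker ψ)
      have := LinearMap.finrank_range_add_finrank_ker ψ
      have := Submodule.finrank_mono hr
      have h1 : finrank (ZMod 2) (Submodule.span (ZMod 2) ({w} : Set V)) ≤ 1 := by
        refine (finrank_span_le_card _).trans ?_
        simp
      have := Submodule.finrank_mono hK1T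
      have hTK : K1 = T := Submodule.eq_of_le_of_finrank_le hK1T (by rw [hK1] at *; omega)
      obtain ⟨y, -, hy⟩ := (hK1 ▸ hTK ▸ hlT : l ∈ (LinearMap.ker ψ).map K0.subtype)
      have := (hK0mem _ y.2).2.2
      rw [show (y : V) = l from hy, q.B_comm, hal] at this
      exact one_ne_zero this
  rcases hall v with h | h
  · exact hv h
  · exact hzv (by rwa [add_comm])

end Pack

end Cfsg.Agent.C6Gen.QF
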