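import Cfsg.Agent.Lib.C6Gen.Main
import Cfsg.Agent.EqLemmas
import Mathlib.Data.Matrix.Block
/-!
# Frames of noncentral involutions of a system

* `blocks`, `Frame`    : coordinates with `r = diag(1, -1)` and a member `v` of `R` swapping the two halves
* `Frame.diag`         : the `a` with `(a, a)` in `R`
* `Frame.diag_sys`     : it is a system of rank one less
-/

set_option autoImplicit false
set_option linter.unusedSectionVars false

namespace Cfsg.Agent.C6Gen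

open Module Matrix

variable {k : ℕ} {ι κ : Type} [Fintype ι] [DecidableEq ι] [Nonempty ι] [Fintype κ] [DecidableEq κ]
  {F : Type*} [Field F] {e : κ ⊕ κ ≃ ι}

/-- A pair of vectors as one vector. -/
def comb (e : κ ⊕ κ ≃ ι) (a b : κ → F) : ι → F := Sum.elim a b ∘ e.symm

/-- Block matrices in split coordinates. -/
noncomputable def blocks (e : κ ⊕ κ ≃ ι) (A B C D : (Matrix κ κ F)) : (Matrix ι ι F) :=
  Matrix.reindexAlgEquiv F F e (Matrix.fromBlocks A B C D)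

theorem blocks_mul (A B C D A' B' C' D' : (Matrix κ κ F)) : blocks e A B C D * blocks e A' B' C' D' =
    blocks e (A * A' + B * C') (A * B' + B * D') (C * A' + D * C') (C * B' + D * D') := by
  rw [blocks, blocks, ← map_mul, Matrix.fromBlocks_multiply]; rfl

theorem blocks_one : blocks e (1 : (Matrix κ κ F)) 0 0 1 = 1 := by
  rw [blocks, Matrix.fromBlocks_one, map_one]

theorem blocks_inj {A B C D A' B' C' D' : (Matrix κ κ F)} (h : blocks e A B C D = blocks e A' B' C' D') :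
    A = A' ∧ B = B' ∧ C = C' ∧ D = D' :=
  Matrix.fromBlocks_inj.1 ((Matrix.reindexAlgEquiv F F e).injective h)

theorem blocks_surj (M : (Matrix ι ι F)) : ∃ A B C D, M = blocks e A B C D :=
  ⟨_, _, _, _, by rw [blocks, Matrix.fromBlocks_toBlocks, AlgEquiv.apply_symm_apply]⟩

theorem blocks_mulVec (A B C D : (Matrix κ κ F)) (a b : (κ → F)) :
    blocks e A B C D *ᵥ comb e a b = comb e (A *ᵥ a + B *ᵥ b) (C *ᵥ a + D *ᵥ b) := by
  funext i
  have h : ∀ (M : (Matrix (κ ⊕ κ) (κ ⊕ κ) F)) (x : κ ⊕ κ → F),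
      (Matrix.reindexAlgEquiv F F e M *ᵥ (x ∘ e.symm)) i = (M *ᵥ x) (e.symm i) := fun M x => by
    simp [Matrix.mulVec, dotProduct, Equiv.sum_comp e.symm (fun j => M (e.symm i) j * x j)]
  rw [blocks, comb, h, Matrix.fromBlocks_mulVec, comb]
  simp [Function.comp]

/-- The diagonal embedding, before the change of coordinates. -/
noncomputable def blkHom (e : κ ⊕ κ ≃ ι) : (Matrix κ κ F) × (Matrix κ κ F) →* (Matrix ι ι F) where
  toFun z := blocks e z.1 0 0 z.2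
  map_one' := blocks_one
  map_mul' z w := by simp [blocks_mul]

/-- The diagonal embedding on units. -/
noncomputable def blkGL (e : κ ⊕ κ ≃ ι) : (GL κ F) × (GL κ F) →* (GL ι F) :=
  (Units.map (blkHom e)).comp MulEquiv.prodUnits.symm.toMonoidHom

theorem blkGL_val (a b : (GL κ F)) : ((blkGL e (a, b) : (GL ι F)) : (Matrix ι ι F)) = blocks e (a : (Matrix κ κ F)) 0 0 (b : (Matrix κ κ F)) := rfl


/-- A frame of the involution `r`. -/
structure Frame (e : κ ⊕ κ ≃ ι) (R : Subgroup (GL ι F)) (r : GL ι F) where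
  P : GL ι F
  v : GL ι F
  v_mem : v ∈ R
  v_sq : v * v = 1
  r_eq : (r : Matrix ι ι F) * (P : Matrix ι ι F) = (P : Matrix ι ι F) * blocks e 1 0 0 (-1)
  v_eq : (v : Matrix ι ι F) * (P : Matrix ι ι F) = (P : Matrix ι ι F) * blocks e 0 1 1 0

namespace Frame

variable {R : Subgroup (GL ι F)} {r : GL ι F} (φ : Frame e R r)

/-- The embedding of two copies of `GL₄`. -/
noncomputable def j : (GL κ F) × (GL κ F) →* (GL ι F) := (MulAut.conj φ.P).toMonoidHom.comp (blkGL e)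

theorem j_val (a b : (GL κ F)) : ((φ.j (a, b) : (GL ι F)) : (Matrix ι ι F)) * (φ.P : (Matrix ι ι F)) =
    (φ.P : (Matrix ι ι F)) * blocks e (a : (Matrix κ κ F)) 0 0 (b : (Matrix κ κ F)) := by
  show (((φ.P * blkGL e (a, b) * φ.P⁻¹ : (GL ι F))) : (Matrix ι ι F)) * (φ.P : (Matrix ι ι F)) = _
  rw [← Units.val_mul, inv_mul_cancel_right, Units.val_mul, blkGL_val]

theorem j_inj {a b a' b' : (GL κ F)} (h : φ.j (a, b) = φ.j (a', b')) : a = a' ∧ b = b' := by
  have h1 : blkGL e (a, b) = blkGL e (a', b') := (MulAut.conj φ.P).injective h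
  obtain ⟨ha, -, -, hb⟩ := blocks_inj (congrArg Units.val h1)
  exact ⟨Units.ext ha, Units.ext hb⟩

theorem j_neg (a b : (GL κ F)) : φ.j (-a, -b) = -φ.j (a, b) := by
  refine Units.ext ((Units.mul_left_inj φ.P).1 ?_)
  rw [φ.j_val, Units.val_neg (φ.j (a, b)), Matrix.neg_mul, φ.j_val, ← Matrix.mul_neg, Units.val_neg, Units.val_neg]
  congr 1
  rw [blocks, blocks, ← map_neg, Matrix.fromBlocks_neg, neg_zero]

theorem r_val : r = φ.j (1, -1) := by
  refine Units.ext ((Units.mul_left_inj φ.P).1 ?_)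
  rw [φ.r_eq, φ.j_val, Units.val_one, Units.val_neg, Units.val_one]

theorem v_swap (a b : (GL κ F)) : φ.v * φ.j (a, b) = φ.j (b, a) * φ.v := by
  refine Units.ext ((Units.mul_left_inj φ.P).1 ?_)
  rw [Units.val_mul, Units.val_mul, mul_assoc, φ.j_val, ← mul_assoc, φ.v_eq, mul_assoc, blocks_mul,
    mul_assoc, φ.v_eq, ← mul_assoc, φ.j_val, mul_assoc, blocks_mul]
  simp

/-- The centraliser of `r`. -/
theorem exists_j (h2 : (2 : F) ≠ 0) {g : (GL ι F)} (hg : g * r = r * g) :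
    ∃ a b, g = φ.j (a, b) := by
  have key : ∀ g : (GL ι F), g * r = r * g → ∃ A D : (Matrix κ κ F), (g : (Matrix ι ι F)) * (φ.P : (Matrix ι ι F)) = (φ.P : (Matrix ι ι F)) * blocks e A 0 0 D := by
    intro g hg
    obtain ⟨A, B, C, D, hM⟩ := blocks_surj (e := e) (((φ.P⁻¹ * g * φ.P : (GL ι F))) : (Matrix ι ι F))
    have hgP : (g : (Matrix ι ι F)) * (φ.P : (Matrix ι ι F)) = (φ.P : (Matrix ι ι F)) * blocks e A B C D := by
      rw [← hM, ← Units.val_mul, ← Units.val_mul]; congr 1; group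
    have h1 : (r : (Matrix ι ι F)) * (g : (Matrix ι ι F)) * (φ.P : (Matrix ι ι F)) = (φ.P : (Matrix ι ι F)) * (blocks e 1 0 0 (-1) * blocks e A B C D) := by
      rw [mul_assoc, hgP, ← mul_assoc, φ.r_eq, mul_assoc]
    have h1' : (g : (Matrix ι ι F)) * (r : (Matrix ι ι F)) * (φ.P : (Matrix ι ι F)) = (φ.P : (Matrix ι ι F)) * (blocks e A B C D * blocks e 1 0 0 (-1)) := by
      rw [mul_assoc, φ.r_eq, ← mul_assoc, hgP, mul_assoc]
    have h3 : blocks e A B C D * blocks e 1 0 0 (-1) = blocks e 1 0 0 (-1) * blocks e A B C D := by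
      refine φ.P.isUnit.mul_left_cancel ?_
      rw [← h1, ← h1', ← Units.val_mul g r, hg, Units.val_mul]
    rw [blocks_mul, blocks_mul] at h3
    obtain ⟨-, hB, hC, -⟩ := blocks_inj h3
    simp only [mul_zero, mul_one, zero_mul, one_mul, zero_add, add_zero, mul_neg, neg_mul] at hB hC
    have hz : ∀ {X : (Matrix κ κ F)}, X = -X → X = 0 := fun {X} h => by
      have : (2 : F) • X = 0 := by rw [two_smul]; nth_rewrite 2 [h]; exact add_neg_cancel X
      exact (smul_eq_zero.1 this).resolve_left h2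
    rw [hz hB.symm, hz hC] at hgP
    exact ⟨A, D, hgP⟩
  obtain ⟨A, D, hA⟩ := key g hg
  obtain ⟨A', D', hA'⟩ := key g⁻¹ (by
    calc g⁻¹ * r = g⁻¹ * (r * g) * g⁻¹ := by group
      _ = r * g⁻¹ := by rw [← hg]; group)
  have e1 : blocks e A 0 0 D * blocks e A' 0 0 D' = 1 := by
    refine φ.P.isUnit.mul_left_cancel ?_
    rw [← mul_assoc, ← hA, mul_assoc, ← hA', ← mul_assoc, ← Units.val_mul g g⁻¹, mul_inv_cancel,
      Units.val_one, one_mul, mul_one]
  have e2 : blocks e A' 0 0 D' * blocks e A 0 0 D = 1 := by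
    refine φ.P.isUnit.mul_left_cancel ?_
    rw [← mul_assoc, ← hA', mul_assoc, ← hA, ← mul_assoc, ← Units.val_mul g⁻¹ g, inv_mul_cancel,
      Units.val_one, one_mul, mul_one]
  rw [blocks_mul, ← blocks_one (e := e)] at e1 e2
  obtain ⟨a1, -, -, d1⟩ := blocks_inj e1
  obtain ⟨a2, -, -, d2⟩ := blocks_inj e2
  simp only [mul_zero, add_zero, zero_add] at a1 a2 d1 d2
  refine ⟨⟨A, A', a1, a2⟩, ⟨D, D', d1, d2⟩, Units.ext ((Units.mul_left_inj φ.P).1 ?_)⟩
  rw [hA, φ.j_val]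

/-- `a ↦ (a, a)`. -/
noncomputable def dbl : (GL κ F) →* (GL ι F) := φ.j.comp ((MonoidHom.id (GL κ F)).prod (MonoidHom.id (GL κ F)))

theorem dbl_apply (a : (GL κ F)) : φ.dbl a = φ.j (a, a) := rfl

/-- The `a` with `(a, a) ∈ R`. -/
noncomputable def diag : Subgroup (GL κ F) := R.comap φ.dbl

theorem mem_diag {a : (GL κ F)} : a ∈ φ.diag ↔ φ.j (a, a) ∈ R := Iff.rfl

theorem j_mul (a b a' b' : (GL κ F)) : φ.j (a, b) * φ.j (a', b') = φ.j (a * a', b * b') := by
  rw [← map_mul]; rfl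

theorem j_inv (a b : (GL κ F)) : (φ.j (a, b))⁻¹ = φ.j (a⁻¹, b⁻¹) := by rw [← map_inv]; rfl

theorem j_one : φ.j ((1 : (GL κ F)), (1 : (GL κ F))) = 1 := map_one _

theorem j_mul_r (a b : (GL κ F)) : φ.j (a, b) * r = φ.j (a, -b) :=
  (congrArg (φ.j (a, b) * ·) φ.r_val).trans (by rw [j_mul]; simp)

theorem r_comm (a b : (GL κ F)) : φ.j (a, b) * r = r * φ.j (a, b) :=
  (φ.j_mul_r a b).trans (((congrArg (· * φ.j (a, b)) φ.r_val).trans (by rw [j_mul]; simp)).symm)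

theorem r_anti_v : r * φ.v = -(φ.v * r) := by
  have h1 : r * φ.v = φ.j ((1 : (GL κ F)), (-1 : (GL κ F))) * φ.v := congrArg (· * φ.v) φ.r_val
  have h2 : φ.v * r = φ.v * φ.j ((1 : (GL κ F)), (-1 : (GL κ F))) := congrArg (φ.v * ·) φ.r_val
  rw [h1, h2, φ.v_swap, ← neg_mul, ← j_neg]; simp

theorem v_dbl (a : (GL κ F)) : φ.v * φ.j (a, a) = φ.j (a, a) * φ.v := φ.v_swap a a

theorem v_conj (a b : (GL κ F)) : φ.v * φ.j (a, b) * φ.v⁻¹ = φ.j (b, a) := by
  rw [φ.v_swap, mul_inv_cancel_right]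

variable (hR : Sys (k + 1) R) (hr : r ∈ R)
include hR hr

/-- The members commuting with `r`. -/
theorem exists_diag {x : (GL ι F)} (hx : x ∈ R) (hxr : x * r = r * x) :
    ∃ a ∈ φ.diag, x = φ.j (a, a) ∨ x = φ.j (a, -a) := by
  obtain ⟨a, b, rfl⟩ := φ.exists_j hR.two hxr
  rcases hR.comm _ hx φ.v φ.v_mem with h | h
  · rw [φ.v_swap] at h
    obtain ⟨-, hb⟩ := φ.j_inj (mul_right_cancel h)
    subst hb
    exact ⟨_, hx, Or.inl rfl⟩
  · rw [φ.v_swap, ← neg_mul, ← j_neg] at h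
    obtain ⟨-, hb⟩ := φ.j_inj (mul_right_cancel h)
    subst hb
    refine ⟨a, ?_, Or.inr rfl⟩
    rw [φ.mem_diag]
    have h' := R.mul_mem hx hr
    rw [φ.j_mul_r] at h'
    simpa using h'

/-- All members. -/
theorem exists_form {x : (GL ι F)} (hx : x ∈ R) :
    ∃ a ∈ φ.diag, x = φ.j (a, a) ∨ x = φ.j (a, -a) ∨ x = φ.j (a, a) * φ.v ∨ x = φ.j (a, -a) * φ.v := by
  rcases hR.comm x hx r hr with h | h
  · obtain ⟨a, ha, h' | h'⟩ := φ.exists_diag hR hr hx h
    exacts [⟨a, ha, Or.inl h'⟩, ⟨a, ha, Or.inr (Or.inl h')⟩]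
  · have hvr : φ.v * r = -(r * φ.v) := by rw [φ.r_anti_v, neg_neg]
    obtain ⟨a, ha, h' | h'⟩ := φ.exists_diag hR hr (R.mul_mem hx φ.v_mem) (by
      rw [mul_assoc, hvr, mul_neg, ← mul_assoc, h, neg_mul, neg_neg, mul_assoc])
    · refine ⟨a, ha, Or.inr (Or.inr (Or.inl ?_))⟩
      rw [← h', mul_assoc, φ.v_sq, mul_one]
    · refine ⟨a, ha, Or.inr (Or.inr (Or.inr ?_))⟩
      rw [← h', mul_assoc, φ.v_sq, mul_one]

theorem diag_neg_mem : (-1 : (GL κ F)) ∈ φ.diag := by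
  rw [φ.mem_diag, j_neg, j_one]; exact hR.neg

theorem diag_comm {a b : (GL κ F)} (ha : a ∈ φ.diag) (hb : b ∈ φ.diag) :
    a * b = b * a ∨ a * b = -(b * a) := by
  rcases hR.comm _ ha _ hb with h | h
  · rw [dbl_apply, dbl_apply, j_mul, j_mul] at h
    exact Or.inl (φ.j_inj h).1
  · rw [dbl_apply, dbl_apply, j_mul, j_mul, ← j_neg] at h
    exact Or.inr (φ.j_inj h).1

theorem diag_sq {a : (GL κ F)} (ha : a ∈ φ.diag) : a * a = 1 ∨ a * a = -1 := by
  rcases hR.sq _ ha with h | h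
  · rw [dbl_apply, j_mul, ← j_one φ] at h
    exact Or.inl (φ.j_inj h).1
  · rw [dbl_apply, j_mul, ← j_one φ, ← j_neg] at h
    exact Or.inr (φ.j_inj h).1

theorem diag_central {a : (GL κ F)} (ha : a ∈ φ.diag) (h : ∀ b ∈ φ.diag, a * b = b * a) : a = 1 ∨ a = -1 := by
  have hall : ∀ x ∈ R, φ.j (a, a) * x = x * φ.j (a, a) := by
    intro x hx
    obtain ⟨b, hb, rfl | rfl | rfl | rfl⟩ := φ.exists_form hR hr hx
    · rw [j_mul, j_mul, h b hb]
    · rw [j_mul, j_mul, h b hb]; simp [h b hb]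
    · rw [← mul_assoc, mul_assoc _ φ.v, φ.v_dbl, ← mul_assoc, j_mul, j_mul, h b hb]
    · rw [← mul_assoc, mul_assoc _ φ.v, φ.v_dbl, ← mul_assoc, j_mul, j_mul, h b hb]; simp [h b hb]
  rcases hR.central ha hall with h | h
  · rw [← j_one φ] at h; exact Or.inl (φ.j_inj h).1
  · rw [← j_one φ, ← j_neg] at h; exact Or.inr (φ.j_inj h).1

theorem card_diag : Nat.card φ.diag = 2 ^ (2 * k + 1) := by
  have hfin := hR.finiteR
  have hrj : φ.j ((1 : (GL κ F)), (-1 : (GL κ F))) ∈ R := φ.r_val ▸ hr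
  have hneq : ∀ a : (GL κ F), a ≠ -a := fun a => (fun h => hR.ne_neg (φ.j (a, a)) (by rw [← φ.j_neg, ← h]))
  have hmem : ∀ a ∈ φ.diag, φ.j (a, -a) ∈ R := fun a ha => by
    have := R.mul_mem ha hrj
    rw [dbl_apply, j_mul] at this
    simpa using this
  let ψ : φ.diag × Bool × Bool → R := fun z =>
    ⟨φ.j ((z.1 : (GL κ F)), bif z.2.1 then -(z.1 : (GL κ F)) else (z.1 : (GL κ F))) * (bif z.2.2 then φ.v else 1), by
      refine R.mul_mem ?_ ?_
      · cases z.2.1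
        exacts [z.1.2, hmem _ z.1.2]
      · cases z.2.2
        exacts [R.one_mem, φ.v_mem]⟩
  have hbij : Function.Bijective ψ := by
    refine ⟨?_, ?_⟩
    · rintro ⟨⟨a, ha⟩, i, k⟩ ⟨⟨b, hb⟩, i', k'⟩ h
      have h' := congrArg Subtype.val h
      simp only [ψ] at h'
      have hk : k = k' := by
        by_contra hne
        have key : ∀ {c d c' d' : (GL κ F)}, φ.j (c, d) * φ.v ≠ φ.j (c', d') := fun {c d c' d'} e => by
          have h1 := φ.r_comm c' d'
          rw [← e, mul_assoc, show φ.v * r = -(r * φ.v) by rw [φ.r_anti_v, neg_neg], mul_neg,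
            ← mul_assoc, φ.r_comm, mul_assoc] at h1
          exact hR.ne_neg _ h1.symm
        cases k <;> cases k' <;> simp at hne h'
        exacts [key h'.symm, key h']
      subst hk
      obtain ⟨e1, e2⟩ := φ.j_inj (mul_right_cancel h')
      subst e1
      cases i <;> cases i' <;> simp at e2 ⊢
      exacts [hneq _ e2, hneq _ e2.symm]
    · rintro ⟨x, hx⟩
      obtain ⟨a, ha, rfl | rfl | rfl | rfl⟩ := φ.exists_form hR hr hx
      exacts [⟨(⟨a, ha⟩, false, false), Subtype.ext (mul_one _)⟩,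
        ⟨(⟨a, ha⟩, true, false), Subtype.ext (mul_one _)⟩, ⟨(⟨a, ha⟩, false, true), rfl⟩,
        ⟨(⟨a, ha⟩, true, true), rfl⟩]
  have h := Nat.card_eq_of_bijective ψ hbij
  rw [hR.card, Nat.card_prod, Nat.card_prod, Nat.card_eq_fintype_card (α := Bool), Fintype.card_bool,
    show 2 * (k + 1) + 1 = 2 * k + 1 + 2 by ring, pow_add] at h
  omega

theorem diag_scalar {M : (Matrix κ κ F)} (hM : ∀ a ∈ φ.diag, M * (a : (Matrix κ κ F)) = (a : (Matrix κ κ F)) * M) :
    ∃ c : F, M = c • 1 := by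
  obtain ⟨X, hX⟩ : ∃ X : (Matrix ι ι F), X = (φ.P : (Matrix ι ι F)) * blocks e M 0 0 M * ((φ.P⁻¹ : (GL ι F)) : (Matrix ι ι F)) := ⟨_, rfl⟩
  have hXP : X * (φ.P : (Matrix ι ι F)) = (φ.P : (Matrix ι ι F)) * blocks e M 0 0 M := by
    rw [hX, mul_assoc, ← Units.val_mul, inv_mul_cancel, Units.val_one, mul_one]
  have hall : ∀ x ∈ R, X * (x : (Matrix ι ι F)) = (x : (Matrix ι ι F)) * X := by
    intro x hx
    refine (Units.mul_left_inj φ.P).1 ?_
    have hj : ∀ a b : (GL κ F), M * (a : (Matrix κ κ F)) = (a : (Matrix κ κ F)) * M → M * (b : (Matrix κ κ F)) = (b : (Matrix κ κ F)) * M →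
        X * (φ.j (a, b) : (Matrix ι ι F)) * (φ.P : (Matrix ι ι F)) = (φ.j (a, b) : (Matrix ι ι F)) * X * (φ.P : (Matrix ι ι F)) := fun a b ha hb => by
      rw [mul_assoc, φ.j_val, ← mul_assoc, hXP, mul_assoc, blocks_mul, mul_assoc, hXP, ← mul_assoc,
        φ.j_val, mul_assoc, blocks_mul]
      simp [ha, hb]
    have hv : X * (φ.v : (Matrix ι ι F)) * (φ.P : (Matrix ι ι F)) = (φ.v : (Matrix ι ι F)) * X * (φ.P : (Matrix ι ι F)) := by
      rw [mul_assoc, φ.v_eq, ← mul_assoc, hXP, mul_assoc, blocks_mul, mul_assoc, hXP, ← mul_assoc,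
        φ.v_eq, mul_assoc, blocks_mul]
      simp
    have hv' : X * (φ.v : (Matrix ι ι F)) = (φ.v : (Matrix ι ι F)) * X := (Units.mul_left_inj φ.P).1 hv
    have hn : ∀ a ∈ φ.diag, M * ((-a : (GL κ F)) : (Matrix κ κ F)) = ((-a : (GL κ F)) : (Matrix κ κ F)) * M := fun a ha => by
      rw [Units.val_neg, mul_neg, neg_mul, hM a ha]
    have hjv : ∀ a b : (GL κ F), M * (a : (Matrix κ κ F)) = (a : (Matrix κ κ F)) * M → M * (b : (Matrix κ κ F)) = (b : (Matrix κ κ F)) * M →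
        X * ((φ.j (a, b) * φ.v : (GL ι F)) : (Matrix ι ι F)) * (φ.P : (Matrix ι ι F)) =
          ((φ.j (a, b) * φ.v : (GL ι F)) : (Matrix ι ι F)) * X * (φ.P : (Matrix ι ι F)) := fun a b ha hb => by
      rw [Units.val_mul, ← mul_assoc X, (Units.mul_left_inj φ.P).1 (hj a b ha hb),
        mul_assoc _ X (φ.v : (Matrix ι ι F)), hv', ← mul_assoc]
    obtain ⟨a, ha, rfl | rfl | rfl | rfl⟩ := φ.exists_form hR hr hx
    exacts [hj a a (hM a ha) (hM a ha), hj a _ (hM a ha) (hn a ha), hjv a a (hM a ha) (hM a ha),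
      hjv a _ (hM a ha) (hn a ha)]
  obtain ⟨c, hc⟩ := hR.scalar X hall
  refine ⟨c, ?_⟩
  rw [hc, Matrix.smul_mul, one_mul] at hXP
  have h1 : blocks e M 0 0 M = c • blocks e (1 : (Matrix κ κ F)) 0 0 1 := by
    refine φ.P.isUnit.mul_left_cancel ?_
    rw [← hXP, blocks_one, Matrix.mul_smul, mul_one]
  rw [blocks, blocks, ← map_smul, Matrix.fromBlocks_smul] at h1
  exact (Matrix.fromBlocks_inj.1 ((Matrix.reindexAlgEquiv F F e).injective h1)).1

theorem diag_sys [Nonempty κ] : Sys k φ.diag := by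
  have hneq : ∀ a : GL κ F, a ≠ -a := fun a h => hR.ne_neg (φ.j (a, a)) (by rw [← φ.j_neg, ← h])
  refine ⟨hR.two, φ.card_diag hR hr, φ.diag_neg_mem hR hr, fun g hg => φ.diag_sq hR hr hg,
    fun g hg h hh => φ.diag_comm hR hr hg hh, fun M hM => φ.diag_scalar hR hr hM, fun g hg c hc => ?_⟩
  exact φ.diag_central hR hr hg fun b _ => Units.ext (by
    rw [Units.val_mul, Units.val_mul, hc, Matrix.smul_mul, Matrix.mul_smul, one_mul, mul_one])

end Frame

end Cfsg.Agent.C6Gen
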