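import Cfsg.Agent.Lib.C6Gen.Fix
import Mathlib.Algebra.Group.Action.Basic
import Mathlib.GroupTheory.GroupAction.Quotient
/-!
# An abelian `2`-subgroup whose singular centralisers are local is normal

* `Dat`          : an elementary abelian subgroup of rank `2k ≥ 8` with an invariant quadratic form
* `Dat.normalizer_eq_top` : it is normal
-/

set_option autoImplicit false
set_option linter.unusedSectionVars false
set_option linter.style.haveILetI false

namespace Cfsg.Agent.C6Gen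

open Module

variable {k : ℕ} {H : Type*} [Group H] {V : Type*} [AddCommGroup V] [Module (ZMod 2) V]

/-- The data. -/
structure Dat (k : ℕ) (H : Type*) [Group H] (V : Type*) [AddCommGroup V] [Module (ZMod 2) V] where
  q : QF k V
  four : 4 ≤ k
  e : V → H
  e_add : ∀ v w, e (v + w) = e v * e w
  e_inj : Function.Injective e
  cls : ∀ (g : H) (v w : V), g * e v * g⁻¹ = e w → q.Q v = q.Q w
  self : ∀ g : H, (∀ v, g * e v = e v * g) → ∃ v, g = e v
  cent : ∀ r : V, r ≠ 0 → q.Q r = 0 → ∀ g : H, g * e r = e r * g → ∀ v, ∃ w, g * e v * g⁻¹ = e w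
  pair : ∀ a b : V, q.Q a = 1 → q.Q b = 1 → ∃ g : H, ∀ v, g * e v * g⁻¹ = e (q.trans a (q.trans b v))
  swap : ∀ (a b : V) (t : H), q.Q a = 1 → q.B a b = 0 → t * t = 1 → t * e a * t⁻¹ = e b →
    ∃ g : H, (∀ v, g * e v * g⁻¹ = e (q.trans a (q.trans b v))) ∧ g * t = t * g

namespace Dat

variable (d : Dat k H V)

theorem e_zero : d.e 0 = 1 := by
  have h := d.e_add 0 0
  rw [add_zero] at h
  exact left_eq_mul.1 h

theorem e_sq (v : V) : d.e v * d.e v = 1 := by rw [← d.e_add, QF.vadd_self, d.e_zero]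

theorem e_inv (v : V) : (d.e v)⁻¹ = d.e v := inv_eq_of_mul_eq_one_right (d.e_sq v)

theorem e_comm (v w : V) : d.e v * d.e w = d.e w * d.e v := by rw [← d.e_add, add_comm, d.e_add]

/-- The subgroup `e V`. -/
def A : Subgroup H where
  carrier := Set.range d.e
  one_mem' := ⟨0, d.e_zero⟩
  mul_mem' := by rintro _ _ ⟨v, rfl⟩ ⟨w, rfl⟩; exact ⟨v + w, d.e_add v w⟩
  inv_mem' := by rintro _ ⟨v, rfl⟩; exact ⟨v, (d.e_inv v).symm⟩

theorem e_mem (v : V) : d.e v ∈ d.A := ⟨v, rfl⟩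

/-- The normaliser of `e V`. -/
def N : Subgroup H := Subgroup.normalizer (d.A : Set H)

theorem mem_N [Finite H] {g : H} : g ∈ d.N ↔ ∀ v, ∃ w, g * d.e v * g⁻¹ = d.e w := by
  refine ⟨fun h v => ?_, fun h => ?_⟩
  · obtain ⟨w, hw⟩ := (Subgroup.mem_normalizer_iff.mp h (d.e v)).mp (d.e_mem v)
    exact ⟨w, hw.symm⟩
  · haveI : Finite V := Finite.of_injective d.e d.e_inj
    choose f hf using h
    have hinj : Function.Injective f := fun v w hvw => by
      have := (hf v).trans ((congrArg d.e hvw).trans (hf w).symm)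
      exact d.e_inj (mul_left_cancel (mul_right_cancel this))
    refine Subgroup.mem_normalizer_iff.mpr fun x => ⟨?_, ?_⟩
    · rintro ⟨v, rfl⟩; exact ⟨f v, (hf v).symm⟩
    · rintro ⟨w, hw⟩
      obtain ⟨v, rfl⟩ := Finite.injective_iff_surjective.1 hinj w
      exact ⟨v, mul_left_cancel (mul_right_cancel ((hf v).trans hw))⟩

theorem cent_mem [Finite H] {r : V} (h0 : r ≠ 0) (hr : d.q.Q r = 0) {g : H}
    (hg : g * d.e r = d.e r * g) : g ∈ d.N :=
  d.mem_N.2 (d.cent r h0 hr g hg)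

theorem e_memN (v : V) : d.e v ∈ d.N := Subgroup.le_normalizer (d.e_mem v)

/-- The coordinate of a conjugate. -/
noncomputable def coord (g : H) (v : V) : V :=
  Classical.epsilon fun w => g * d.e v * g⁻¹ = d.e w

theorem coord_spec [Finite H] {g : H} (hg : g ∈ d.N) (v : V) :
    g * d.e v * g⁻¹ = d.e (d.coord g v) := Classical.epsilon_spec (d.mem_N.1 hg v)

theorem coord_eq {g : H} {v w : V} (h : g * d.e v * g⁻¹ = d.e w) : d.coord g v = w :=
  d.e_inj ((Classical.epsilon_spec (p := fun w => g * d.e v * g⁻¹ = d.e w) ⟨w, h⟩).symm.trans h)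

/-- The action of an element of the normaliser. -/
noncomputable def act [Finite H] (g : H) (hg : g ∈ d.N) : V →ₗ[ZMod 2] V :=
  (AddMonoidHom.mk' (d.coord g) fun v w => d.coord_eq (by
    rw [d.e_add, d.e_add, ← d.coord_spec hg, ← d.coord_spec hg]; group)).toZModLinearMap 2

theorem act_spec [Finite H] (g : H) (hg : g ∈ d.N) (v : V) :
    g * d.e v * g⁻¹ = d.e (d.act g hg v) := d.coord_spec hg v

theorem act_eq [Finite H] {g : H} (hg : g ∈ d.N) {v w : V} (h : g * d.e v * g⁻¹ = d.e w) :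
    d.act g hg v = w := d.coord_eq h

theorem act_fix [Finite H] {g : H} (hg : g ∈ d.N) {v : V} :
    d.act g hg v = v ↔ g * d.e v = d.e v * g := by
  refine ⟨fun h => ?_, fun h => d.act_eq hg (by rw [h]; group)⟩
  have := d.act_spec g hg v
  rw [h] at this
  exact mul_inv_eq_iff_eq_mul.1 this

theorem act_isoInv [Finite H] {g : H} (hg : g ∈ d.N) (h2 : g * g = 1) : d.q.IsoInv (d.act g hg) := by
  refine ⟨fun v => (d.cls g v _ (d.act_spec g hg v)).symm, fun v => d.act_eq hg ?_⟩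
  rw [← d.act_spec g hg v, inv_eq_of_mul_eq_one_right h2]
  calc g * (g * d.e v * g) * g = (g * g) * d.e v * (g * g) := by group
    _ = d.e v := by rw [h2, one_mul, mul_one]

theorem conj_e_sq (g : H) (v : V) : g * d.e v * g⁻¹ * (g * d.e v * g⁻¹) = 1 := by
  calc _ = g * (d.e v * d.e v) * g⁻¹ := by group
    _ = 1 := by rw [d.e_sq]; group

/-! ## Two conjugates -/

variable [Finite H] (g : H)

/-- Members of `V` fixing the point `g`. -/
def T : Submodule (ZMod 2) V where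
  carrier := {x | g⁻¹ * d.e x * g ∈ d.N}
  add_mem' := fun {x y} hx hy => by
    show g⁻¹ * d.e (x + y) * g ∈ d.N
    have := d.N.mul_mem hx hy
    rw [d.e_add]; convert this using 1; group
  zero_mem' := by
    show g⁻¹ * d.e 0 * g ∈ d.N
    rw [d.e_zero]; simp
  smul_mem' := fun c x hx => by
    rcases zmod2 c with rfl | rfl
    · show g⁻¹ * d.e _ * g ∈ d.N
      rw [zero_smul, d.e_zero]; simp
    · simpa using hx

/-- Members of `V` in the conjugate `g`. -/
def D : Submodule (ZMod 2) V where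
  carrier := {x | g⁻¹ * d.e x * g ∈ d.A}
  add_mem' := fun {x y} hx hy => by
    show g⁻¹ * d.e (x + y) * g ∈ d.A
    have := d.A.mul_mem hx hy
    rw [d.e_add]; convert this using 1; group
  zero_mem' := by
    show g⁻¹ * d.e 0 * g ∈ d.A
    rw [d.e_zero]; simp
  smul_mem' := fun c x hx => by
    rcases zmod2 c with rfl | rfl
    · show g⁻¹ * d.e _ * g ∈ d.A
      rw [zero_smul, d.e_zero]; simp
    · simpa using hx

theorem D_le_T : d.D g ≤ d.T g := fun _ hx => Subgroup.le_normalizer hx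

variable {g}

theorem memN_of_T {u : V} (hu : u ∈ d.T g⁻¹) : g * d.e u * g⁻¹ ∈ d.N := by
  have h : g⁻¹⁻¹ * d.e u * g⁻¹ ∈ d.N := hu
  rwa [inv_inv] at h

/-- The action of a member of the other conjugate. -/
noncomputable def move (u : V) (hu : u ∈ d.T g⁻¹) : V →ₗ[ZMod 2] V :=
  d.act (g * d.e u * g⁻¹) (d.memN_of_T hu)

theorem move_isoInv {u : V} (hu : u ∈ d.T g⁻¹) : d.q.IsoInv (d.move u hu) :=
  d.act_isoInv _ (d.conj_e_sq g u)

theorem move_mem {u x : V} (hu : u ∈ d.T g⁻¹) (hx : x ∈ d.T g) : d.move u hu x + x ∈ d.D g := by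
  obtain ⟨w, hw⟩ := d.mem_N.1 hx u
  have h1 := d.act_spec (g * d.e u * g⁻¹) (d.memN_of_T hu) x
  show g⁻¹ * d.e (d.move u hu x + x) * g ∈ d.A
  refine ⟨u + w, ?_⟩
  rw [d.e_add, d.e_add, move, ← h1, ← hw]
  simp only [mul_inv_rev, inv_inv, d.e_inv, mul_assoc, inv_mul_cancel_left]

theorem move_fixD {u x : V} (hu : u ∈ d.T g⁻¹) (hx : x ∈ d.D g) : d.move u hu x = x := by
  obtain ⟨w, hw⟩ := hx
  refine (d.act_fix _).2 ?_
  have hx' : d.e x = g * d.e w * g⁻¹ := by rw [hw]; group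
  rw [hx']
  calc g * d.e u * g⁻¹ * (g * d.e w * g⁻¹) = g * (d.e u * d.e w) * g⁻¹ := by group
    _ = _ := by rw [d.e_comm u w]; group

theorem move_perpD {u x : V} (hu : u ∈ d.T g⁻¹) (hanis : ∀ y ∈ d.D g, d.q.Q y = 0 → y = 0)
    (hx : x ∈ d.T g) (hxD : x ∈ d.q.perp (d.D g)) : d.move u hu x = x := by
  refine QF.eq_of_add_eq_zero' (hanis _ (d.move_mem hu hx) ?_)
  rw [(d.move_isoInv hu).Q_diff]
  exact d.q.mem_perp.1 hxD _ (d.move_mem hu hx)

theorem cent_T {z x : V} (hz : z ∈ d.T g⁻¹) (hz0 : z ≠ 0) (hzQ : d.q.Q z = 0)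
    (hx : d.move z hz x = x) : x ∈ d.T g := by
  refine d.cent_mem hz0 hzQ ?_
  have h := (d.act_fix _).1 hx
  calc g⁻¹ * d.e x * g * d.e z = g⁻¹ * (d.e x * (g * d.e z * g⁻¹)) * g := by group
    _ = g⁻¹ * (g * d.e z * g⁻¹ * d.e x) * g := by rw [h]
    _ = _ := by group

theorem mem_D_of_trivial {z : V} (hz : z ∈ d.T g⁻¹) (h : ∀ x, d.move z hz x = x) : z ∈ d.D g⁻¹ := by
  obtain ⟨v, hv⟩ := d.self _ fun x => (d.act_fix _).1 (h x)
  exact ⟨v, by rw [← hv]; group⟩

omit [Finite H] in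
/-- Corresponding members of the intersection. -/
theorem D_corr {g : H} {x : V} (hx : g⁻¹ * d.e x * g ∈ d.A) :
    ∃ x', g * d.e x' * g⁻¹ = d.e x ∧ d.q.Q x' = d.q.Q x := by
  obtain ⟨w, hw⟩ := hx
  have h : g * d.e w * g⁻¹ = d.e x := by rw [hw]; group
  exact ⟨w, h, d.cls g w x h⟩

/-- Two conjugates sharing a singular member coincide. -/
theorem shared {r v : V} (hr0 : r ≠ 0) (hr : d.q.Q r = 0) (hv : g * d.e v * g⁻¹ = d.e r) :
    g ∈ d.N := by
  have hvQ : d.q.Q v = 0 := (d.cls g v r hv).trans hr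
  have hv0 : v ≠ 0 := fun h => hr0 (d.e_inj (by rw [← hv, h, d.e_zero]; group))
  have hC : ∀ x, x * d.e r = d.e r * x → g⁻¹ * x * g ∈ d.N := fun x hx => by
    refine d.cent_mem hv0 hvQ ?_
    calc g⁻¹ * x * g * d.e v = g⁻¹ * (x * (g * d.e v * g⁻¹)) * g := by group
      _ = g⁻¹ * (g * d.e v * g⁻¹ * x) * g := by rw [hv, hx]
      _ = _ := by group
  have hTt : ∀ x, x ∈ d.T g := fun x => hC _ (d.e_comm x r)
  have hUt : ∀ u, g * d.e u * g⁻¹ ∈ d.N := fun u => by
    refine d.cent_mem hr0 hr ?_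
    rw [← hv]
    calc g * d.e u * g⁻¹ * (g * d.e v * g⁻¹) = g * (d.e u * d.e v) * g⁻¹ := by group
      _ = _ := by rw [d.e_comm u v]; group
  have hrD : r ∈ d.D g := by
    show g⁻¹ * d.e r * g ∈ d.A
    rw [← hv]; exact ⟨v, by group⟩
  have hinv := d.q.pair_invariant d.four hr0 hr (D := d.D g) hrD fun a b ha hb har hbr x hx => by
    obtain ⟨n, hn⟩ := d.pair a b ha hb
    have hnr : n * d.e r = d.e r * n := by
      have := hn r
      simp only [QF.trans, hbr, zero_smul, add_zero, har] at this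
      exact mul_inv_eq_iff_eq_mul.1 this
    obtain ⟨y, hy⟩ := hx
    obtain ⟨w, hw⟩ := d.mem_N.1 (hC n hnr) y
    refine ⟨w, ?_⟩
    rw [← hw, hy, ← hn x]; group
  rw [d.mem_N]
  intro u
  have hu : u ∈ d.T g⁻¹ := by
    show g⁻¹⁻¹ * d.e u * g⁻¹ ∈ d.N
    rw [inv_inv]; exact hUt u
  have hf := d.move_isoInv hu
  have hspan : ∀ x, d.move u hu x + x ∈ Submodule.span (ZMod 2) {r} := by
    intro x
    have h1 := d.move_mem hu (hTt x)
    have h2 : d.move u hu x + x ∈ d.q.perp (d.D g) := d.q.mem_perp.2 fun y hy =>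
      hf.diff_perp (d.move_fixD hu hy)
    rcases hinv with h | h
    · exact h ⟨h1, d.q.mem_perp_span.2 (d.q.mem_perp.1 h2 r hrD)⟩
    · have := d.q.perp_anti h h2
      rwa [d.q.perp_perp] at this
  have hbr : ∀ x, d.q.B x r = 1 → d.move u hu x = x := fun x hx => by
    obtain ⟨c, hc⟩ := Submodule.mem_span_singleton.1 (hspan x)
    rcases zmod2 c with rfl | rfl
    · rw [zero_smul] at hc; exact QF.eq_of_add_eq_zero' hc.symm
    · rw [one_smul] at hc
      have := hf.Q_diff x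
      rw [← hc, hr, hx] at this
      exact absurd this zero_ne_one
  have htriv : ∀ x, d.move u hu x = x := fun x => by
    rcases zmod2 (d.q.B x r) with h | h
    · obtain ⟨c, hc⟩ : ∃ c, d.q.B c r = 1 := by
        by_contra hno
        push Not at hno
        exact hr0 (d.q.nondeg r fun c => by
          rw [d.q.B_comm]; exact (zmod2 _).resolve_right (hno c))
      have h2 := hbr (x + c) (by simp [h, hc])
      rw [map_add, hbr c hc] at h2
      exact add_right_cancel h2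
    · exact hbr x h
  exact d.self _ fun x => (d.act_fix _).1 (htriv x)

theorem T_half (_hg : g ∉ d.N) {t : V} (ht : t ∈ d.T g) (ht0 : t ≠ 0) (htQ : d.q.Q t = 0) :
    k ≤ finrank (ZMod 2) (d.T g⁻¹) := by
  have := d.q.finite
  have ht' : t ∈ d.T g⁻¹⁻¹ := by rwa [inv_inv]
  have h1 := (d.move_isoInv ht').two_fix (W := ⊤) fun _ _ => trivial
  rw [finrank_top, d.q.dim, top_inf_eq] at h1
  have h2 : QF.fix (d.move t ht') ≤ d.T g⁻¹ := fun x hx => d.cent_T ht' ht0 htQ (QF.mem_fix.1 hx)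
  have := Submodule.finrank_mono h2
  omega

theorem anis (hg : g ∉ d.N) : ∀ y ∈ d.D g, d.q.Q y = 0 → y = 0 := by
  intro y hy hQ
  by_contra h0
  obtain ⟨y', hy', -⟩ := d.D_corr hy
  exact hg (d.shared h0 hQ hy')

theorem finrank_D_le (hg : g ∉ d.N) : finrank (ZMod 2) (d.D g) ≤ 2 := by
  by_contra h
  obtain ⟨x, hx, hx0, hxQ⟩ := d.q.exists_singular (W := d.D g) (by omega)
  exact hx0 (d.anis hg x hx hxQ)

theorem D_corr' {u : V} (hu : u ∈ d.D g⁻¹) : ∃ x ∈ d.D g, g * d.e u * g⁻¹ = d.e x := by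
  obtain ⟨x, hx⟩ := hu
  have hx' : g * d.e u * g⁻¹ = d.e x := by rw [hx, inv_inv]
  exact ⟨x, ⟨u, by rw [← hx']; group⟩, hx'⟩

theorem D_card : finrank (ZMod 2) (d.D g⁻¹) = finrank (ZMod 2) (d.D g) := by
  have := d.q.finite
  choose f hf hfe using fun u : d.D g⁻¹ => d.D_corr' u.2
  let φ : d.D g⁻¹ →ₗ[ZMod 2] d.D g := (AddMonoidHom.mk' (fun u => (⟨f u, hf u⟩ : d.D g)) fun u v => by
    refine Subtype.ext (d.e_inj ?_)
    show d.e (f (u + v)) = d.e (f u + f v)
    rw [d.e_add, ← hfe, ← hfe, ← hfe]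
    show g * d.e ((u : V) + v) * g⁻¹ = _
    rw [d.e_add]; group).toZModLinearMap 2
  have hinj : Function.Injective φ := fun u v h => Subtype.ext (d.e_inj (by
    have h' : f u = f v := congrArg Subtype.val h
    have := (hfe u).trans ((congrArg d.e h').trans (hfe v).symm)
    exact mul_left_cancel (mul_right_cancel this)))
  have hsur : Function.Surjective φ := fun x => by
    obtain ⟨w, hw⟩ := x.2
    have hw' : g * d.e w * g⁻¹ = d.e x := by rw [hw]; group
    refine ⟨⟨w, ⟨x, by rw [inv_inv, hw']⟩⟩, Subtype.ext (d.e_inj ?_)⟩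
    show d.e (f _) = d.e x
    rw [← hfe, hw']
  exact (LinearEquiv.ofBijective φ ⟨hinj, hsur⟩).finrank_eq

/-- An abelian group of isometries indexed by a subspace. -/
theorem move_add {u v : V} (hu : u ∈ d.T g⁻¹) (hv : v ∈ d.T g⁻¹) (x : V) :
    d.move (u + v) ((d.T g⁻¹).add_mem hu hv) x = d.move u hu (d.move v hv x) := by
  refine d.act_eq (d.memN_of_T ((d.T g⁻¹).add_mem hu hv)) ?_
  show _ = d.e (d.act _ (d.memN_of_T hu) (d.act _ (d.memN_of_T hv) x))
  rw [← d.act_spec, ← d.act_spec, d.e_add]; group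

/-- A nonzero singular subspace containing enough of a coisotropic subspace. -/
theorem exists_sing_sub [Finite V] {T : Submodule (ZMod 2) V} (hT : d.q.perp T ≤ T) :
    ∃ E ≤ T, (∀ x ∈ E, d.q.Q x = 0) ∧ k ≤ finrank (ZMod 2) E + 1 := by
  have := d.q.finite
  haveI : Finite (Submodule (ZMod 2) V) :=
    Finite.of_injective (fun S : Submodule (ZMod 2) V => (S : Set V)) SetLike.coe_injective
  have hco : d.q.perp T ≤ d.q.perp (d.q.perp T) := by rw [d.q.perp_perp]; exact hT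
  obtain ⟨L, hLmem⟩ := (Set.toFinite {L : Submodule (ZMod 2) V | d.q.perp T ≤ L ∧
    L ≤ d.q.perp L}).exists_maximal ⟨_, le_rfl, hco⟩
  obtain ⟨⟨hL1, hL2⟩, hLmax⟩ := hLmem
  have hLL : d.q.perp L = L := by
    refine le_antisymm (fun x hx => ?_) hL2
    have hxs : ∀ w ∈ L, d.q.B x w = 0 := d.q.mem_perp.1 hx
    refine hLmax (y := L ⊔ Submodule.span (ZMod 2) {x}) ⟨hL1.trans le_sup_left, ?_⟩ le_sup_left
      (Submodule.mem_sup_right (Submodule.mem_span_singleton_self x))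
    refine fun a ha => d.q.mem_perp.2 fun b hb => ?_
    obtain ⟨l, hl, m, hm, rfl⟩ := Submodule.mem_sup.1 ha
    obtain ⟨l', hl', m', hm', rfl⟩ := Submodule.mem_sup.1 hb
    obtain ⟨c, rfl⟩ := Submodule.mem_span_singleton.1 hm
    obtain ⟨c', rfl⟩ := Submodule.mem_span_singleton.1 hm'
    simp [d.q.mem_perp.1 (hL2 hl) l' hl', hxs l' hl', d.q.B_comm l x, hxs l hl, d.q.B_self]
  have hLT : L ≤ T := by
    rw [← hLL, ← d.q.perp_perp T]; exact d.q.perp_anti hL1
  have hLk : finrank (ZMod 2) L = k := by have := d.q.finrank_perp L; rw [hLL] at this; omega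
  let φ : L →ₗ[ZMod 2] ZMod 2 := (AddMonoidHom.mk' (fun l : L => d.q.Q l) fun a b => by
    show d.q.Q ((a : V) + b) = _
    rw [d.q.polar, d.q.mem_perp.1 (hL2 a.2) b b.2, add_zero]).toZModLinearMap 2
  refine ⟨(LinearMap.ker φ).map L.subtype, ?_, ?_, ?_⟩
  · rintro _ ⟨x, -, rfl⟩; exact hLT x.2
  · rintro _ ⟨x, hx, rfl⟩; exact hx
  · have := LinearMap.finrank_range_add_finrank_ker φ
    have := Submodule.finrank_le (LinearMap.range φ)
    rw [Module.finrank_self] at this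
    have := Submodule.finrank_map_subtype_eq L (LinearMap.ker φ)
    omega

include d in
theorem exists_two [Finite V] {W R0 : Submodule (ZMod 2) V}
    (h : finrank (ZMod 2) R0 + 2 ≤ finrank (ZMod 2) W) :
    ∃ z ∈ W, ∃ v ∈ W, z ∉ R0 ∧ v ∉ R0 ∧ z + v ∉ R0 := by
  have := d.q.finite
  obtain ⟨z, hz, hzn⟩ := SetLike.not_le_iff_exists.1 (show ¬ W ≤ R0 from fun h' => by
    have := Submodule.finrank_mono h'; omega)
  obtain ⟨v, hv, hvn⟩ := SetLike.not_le_iff_exists.1 (show ¬ W ≤ R0 ⊔ Submodule.span (ZMod 2) {z} from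
    fun h' => by
      have := Submodule.finrank_mono h'
      have := d.q.finrank_sup_span_le R0 z
      omega)
  exact ⟨z, hz, v, hv, hzn, fun h' => hvn (Submodule.mem_sup_left h'), fun h' => hvn (by
    rw [← QF.add_add_left z v, add_comm]
    exact add_mem (Submodule.mem_sup_left h')
      (Submodule.mem_sup_right (Submodule.mem_span_singleton_self z)))⟩

/-- The singular members of a subspace fixing a point act as involutions with one fixed space. -/
theorem pack_bot (hD : d.D g = ⊥) (hD' : d.D g⁻¹ = ⊥) {E : Submodule (ZMod 2) V}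
    (hE : E ≤ d.T g⁻¹) (hEQ : ∀ x ∈ E, d.q.Q x = 0) :
    d.q.Pack E ⊥ (d.D g) (d.T g) fun u => d.move (u : V) (hE u.2) := by
  refine ⟨fun u => d.move_isoInv _, fun u v x => d.move_add _ _ x, fun y hy _ => ?_, ?_,
    fun u x hx => d.move_fixD _ hx, fun u x hx => ?_, fun u hu x => ?_, fun u hu => ?_, fun u hu x _ hx => ?_⟩
  · rw [hD, Submodule.mem_bot] at hy; exact hy
  · exact fun x _ => d.q.mem_perp.2 fun w hw => by
      rw [hD, Submodule.mem_bot] at hw; rw [hw, map_zero]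
  · have h := d.move_mem (hE u.2) hx
    rw [hD, Submodule.mem_bot] at h
    exact QF.eq_of_add_eq_zero' h
  · refine d.act_eq (d.memN_of_T (hE u.2)) ?_
    rw [(Submodule.mem_bot _).1 hu, d.e_zero]; group
  · by_contra h
    push Not at h
    have h1 := d.mem_D_of_trivial (hE u.2) h
    rw [hD', Submodule.mem_bot] at h1
    exact hu ((Submodule.mem_bot _).2 h1)
  · exact d.cent_T (hE u.2) (fun h => hu ((Submodule.mem_bot _).2 h)) (hEQ u u.2) hx

theorem perp_le_T {r : V} (hr0 : r ≠ 0) (hr : d.q.Q r = 0) (hrT : r ∈ d.T g) :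
    d.q.perp (d.T g⁻¹) ≤ d.T g⁻¹ := by
  have hr' : r ∈ d.T g⁻¹⁻¹ := by rwa [inv_inv]
  have hfU : QF.fix (d.move r hr') ≤ d.T g⁻¹ := fun x hx => d.cent_T hr' hr0 hr (QF.mem_fix.1 hx)
  exact (d.q.perp_anti hfU).trans ((d.move_isoInv hr').perp_fix_le.trans hfU)

theorem case_bot (hD : d.D g = ⊥) (hD' : d.D g⁻¹ = ⊥) {z : V} (hz0 : z ≠ 0) (hz : d.q.Q z = 0)
    (hzT : z ∈ d.T g) : finrank (ZMod 2) (d.T g) + 3 ≤ 2 * k := by
  have := d.q.finite
  haveI : Finite V := Finite.of_injective d.e d.e_inj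
  obtain ⟨E, hE, hEQ, hEk⟩ := d.exists_sing_sub (d.perp_le_T hz0 hz hzT)
  have p := d.pack_bot hD hD' hE hEQ
  have h4 := d.four
  obtain ⟨u, hu, v, hv, n1, n2, n3⟩ := d.exists_two (W := E) (R0 := ⊥) (by rw [finrank_bot]; omega)
  have hP := p.not_le (u := ⟨u, hu⟩) (v := ⟨v, hv⟩) n1 n2 n3
  have := p.card_le hP bot_le
  have := d.q.finrank_perp (d.D g)
  rw [hD, finrank_bot] at *
  omega

/-- What a member fixing both points and normalising both conjugates does. -/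
theorem exists_sigma {n : H} (hn : n ∈ d.N) (hn' : g⁻¹ * n * g ∈ d.N) :
    (∀ u ∈ d.T g⁻¹, d.act _ hn' u ∈ d.T g⁻¹) ∧ (∀ u ∈ d.D g⁻¹, d.act _ hn' u ∈ d.D g⁻¹) ∧
      ∀ (u : V) (hu : u ∈ d.T g⁻¹) (hu' : d.act _ hn' u ∈ d.T g⁻¹) (x : V),
        d.move (d.act _ hn' u) hu' (d.act n hn x) = d.act n hn (d.move u hu x) := by
  have key : ∀ u, g * d.e (d.act _ hn' u) * g⁻¹ = n * (g * d.e u * g⁻¹) * n⁻¹ := fun u => by
    rw [← d.act_spec]; group
  refine ⟨fun u hu => ?_, fun u hu => ?_, fun u hu hu' x => d.act_eq (d.memN_of_T hu') ?_⟩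
  · show g⁻¹⁻¹ * d.e _ * g⁻¹ ∈ d.N
    rw [inv_inv, key]
    exact d.N.mul_mem (d.N.mul_mem hn (d.memN_of_T hu)) (d.N.inv_mem hn)
  · obtain ⟨w, hw⟩ := hu
    show g⁻¹⁻¹ * d.e _ * g⁻¹ ∈ d.A
    rw [inv_inv, key]
    obtain ⟨w', hw'⟩ := d.mem_N.1 hn w
    refine ⟨w', ?_⟩
    rw [← hw', hw, inv_inv]
  · show _ = d.e (d.act n hn (d.act _ (d.memN_of_T hu) x))
    rw [key, ← d.act_spec n hn, ← d.act_spec n hn, ← d.act_spec]; group

theorem act_B {n : H} (hn : n ∈ d.N) (x y : V) : d.q.B (d.act n hn x) (d.act n hn y) = d.q.B x y := by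
  have h1 := d.cls n x _ (d.act_spec n hn x)
  have h2 := d.cls n y _ (d.act_spec n hn y)
  have h3 := d.cls n (x + y) _ (d.act_spec n hn (x + y))
  rw [map_add, d.q.polar, d.q.polar, ← h1, ← h2] at h3
  exact (add_left_cancel h3).symm

theorem act_perp {n : H} (hn : n ∈ d.N) {W : Submodule (ZMod 2) V} (hW : ∀ x ∈ W, d.act n hn x ∈ W)
    {y : V} (hy : y ∈ d.q.perp W) : d.act n hn y ∈ d.q.perp W := by
  have := d.q.finite
  haveI : Finite V := Finite.of_injective d.e d.e_inj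
  have hinj : Function.Injective fun x : W => (⟨d.act n hn x, hW x x.2⟩ : W) := fun x x' h => by
    have h' : d.act n hn (x : V) = d.act n hn x' := congrArg Subtype.val h
    have h1 := d.act_spec n hn (x : V)
    rw [h', ← d.act_spec n hn] at h1
    exact Subtype.ext (d.e_inj (mul_left_cancel (mul_right_cancel h1)))
  refine d.q.mem_perp.2 fun w hw => ?_
  obtain ⟨x, hx⟩ := Finite.injective_iff_surjective.1 hinj ⟨w, hw⟩
  have hx' : d.act n hn (x : V) = w := congrArg Subtype.val hx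
  rw [← hx', d.act_B]
  exact d.q.mem_perp.1 hy _ x.2

/-- The swaps normalise the family. -/
theorem conj_pack {E : Submodule (ZMod 2) V} (hE : E ≤ d.T g⁻¹)
    (hEinv : ∀ (n : H) (hn : n ∈ d.N) (hn' : g⁻¹ * n * g ∈ d.N), ∀ u ∈ E, d.act _ hn' u ∈ E)
    {z z' : V} (hz : z ∈ d.T g⁻¹) (hz' : z' ∈ d.T g⁻¹) (h0 : z' ≠ 0) (hQ : d.q.Q z' = 0)
    (hsame : ∀ x, d.move z' hz' x = d.move z hz x) :
    ∀ a, d.q.Q a = 1 → d.q.B a (d.move z hz a) = 0 → ∀ u : E, ∃ u' : E, ∀ x,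
      d.move (u' : V) (hE u'.2) x = d.q.trans a (d.q.trans (d.move z hz a)
        (d.move (u : V) (hE u.2) (d.q.trans a (d.q.trans (d.move z hz a) x)))) := by
  intro a ha hab u
  obtain ⟨b, hb⟩ : ∃ b, b = d.move z hz a := ⟨_, rfl⟩
  rw [← hb] at hab ⊢
  have hbQ : d.q.Q b = 1 := by rw [hb, (d.move_isoInv hz).isom, ha]
  obtain ⟨t, ht⟩ : ∃ t, t = g * d.e z' * g⁻¹ := ⟨_, rfl⟩
  obtain ⟨n, hn, hnt⟩ := d.swap a b t ha hab (ht ▸ d.conj_e_sq g z') (by
    rw [ht, hb, ← hsame]; exact d.act_spec _ _ a)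
  have hnN : n ∈ d.N := d.mem_N.2 fun v => ⟨_, hn v⟩
  have hn' : g⁻¹ * n * g ∈ d.N := by
    refine d.cent_mem h0 hQ ?_
    calc g⁻¹ * n * g * d.e z' = g⁻¹ * (n * t) * g := by rw [ht]; group
      _ = g⁻¹ * (t * n) * g := by rw [hnt]
      _ = _ := by rw [ht]; group
  have hτ : ∀ x, d.act n hnN x = d.q.trans a (d.q.trans b x) := fun x => d.act_eq hnN (hn x)
  have hττ : ∀ x, d.q.trans a (d.q.trans b (d.q.trans a (d.q.trans b x))) = x := fun x => by
    simp only [QF.trans, map_add, map_smul, LinearMap.add_apply, LinearMap.smul_apply, d.q.B_self,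
      d.q.B_comm b a, hab, smul_eq_mul, mul_zero, add_zero]
    rw [show ∀ p q : V, x + p + q + p + q = x + (p + p) + (q + q) from fun p q => by abel,
      QF.vadd_self, QF.vadd_self, add_zero, add_zero]
  obtain ⟨h1, -, h3⟩ := d.exists_sigma hnN hn'
  refine ⟨⟨d.act _ hn' u, hEinv n hnN hn' u u.2⟩, fun x => ?_⟩
  have h := h3 u (hE u.2) (h1 _ (hE u.2)) (d.q.trans a (d.q.trans b x))
  rw [hτ, hττ, hτ] at h
  exact h

/-- Some member of `D` turns a member of `T ⊓ D⊥` outside it into a singular one. -/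
theorem hrep {g : H} (hg : g ∉ d.N) (hne : d.D g ≠ ⊥) {z : V} (hzT : z ∈ d.T g)
    (hzp : z ∈ d.q.perp (d.D g)) (hzD : z ∉ d.D g) :
    ∃ z' ∈ d.T g, z' ≠ 0 ∧ d.q.Q z' = 0 ∧ z' + z ∈ d.D g := by
  rcases zmod2 (d.q.Q z) with h | h
  · exact ⟨z, hzT, fun h0 => hzD (h0 ▸ Submodule.zero_mem _), h,
      by rw [QF.vadd_self]; exact Submodule.zero_mem _⟩
  obtain ⟨y, hy, hy0⟩ := (Submodule.ne_bot_iff _).1 hne
  have hyQ : d.q.Q y = 1 := (zmod2 _).resolve_left fun h0 => hy0 (d.anis hg y hy h0)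
  refine ⟨z + y, (d.T g).add_mem hzT (d.D_le_T g hy), fun h0 => hzD (QF.eq_of_add_eq_zero' h0 ▸ hy),
    ?_, ?_⟩
  · rw [d.q.polar, h, hyQ, d.q.mem_perp.1 hzp y hy, add_zero, CharTwo.add_self_eq_zero]
  · rw [add_comm z y, QF.add_add_right]; exact hy

/-- A member congruent modulo `D` acts in the same way. -/
theorem move_congr {z z' : V} (hz : z ∈ d.T g⁻¹) (hz' : z' ∈ d.T g⁻¹) (h : z' + z ∈ d.D g⁻¹) (x : V) :
    d.move z' hz' x = d.move z hz x := by
  obtain ⟨w, -, hw⟩ := d.D_corr' h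
  refine d.act_eq _ ?_
  show _ = d.e (d.act _ (d.memN_of_T hz) x)
  rw [← d.act_spec, ← QF.add_add_right z' z, d.e_add]
  have e : g * (d.e (z' + z) * d.e z) * g⁻¹ = d.e w * (g * d.e z * g⁻¹) := by rw [← hw]; group
  rw [e, mul_inv_rev]
  have h2 : g * d.e z * g⁻¹ * d.e x * (g * d.e z * g⁻¹)⁻¹ = d.e (d.act _ (d.memN_of_T hz) x) := d.act_spec _ _ _
  calc d.e w * (g * d.e z * g⁻¹) * d.e x * ((g * d.e z * g⁻¹)⁻¹ * (d.e w)⁻¹)
      = d.e w * (g * d.e z * g⁻¹ * d.e x * (g * d.e z * g⁻¹)⁻¹) * (d.e w)⁻¹ := by group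
    _ = _ := by rw [h2, d.e_comm, mul_inv_cancel_right]

/-- A singular member fixes only its own conjugate. -/
theorem fix_unique {r : V} (hr0 : r ≠ 0) (hr : d.q.Q r = 0) (hrT : g⁻¹ * d.e r * g ∈ d.N) :
    g ∈ d.N := by
  by_contra hg
  have := d.q.finite
  haveI : Finite V := Finite.of_injective d.e d.e_inj
  have h4 := d.four
  have hg' : g⁻¹ ∉ d.N := fun h => hg (by simpa using d.N.inv_mem h)
  have hA := d.anis hg
  have hr' : r ∈ d.T g := hrT
  have hUk := d.T_half hg hr' hr0 hr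
  obtain ⟨z₀, hz₀, hz₀0, hz₀Q⟩ := d.q.exists_singular (W := d.T g⁻¹) (by omega)
  have hTk : k ≤ finrank (ZMod 2) (d.T g) := by
    have := d.T_half (g := g⁻¹) hg' hz₀ hz₀0 hz₀Q
    rwa [inv_inv] at this
  have hcard := d.D_card (g := g)
  by_cases hD : d.D g = ⊥
  · rw [hD, finrank_bot] at hcard
    have hD' : d.D g⁻¹ = ⊥ := Submodule.finrank_eq_zero.1 hcard
    have hcT := d.case_bot hD hD' hr0 hr hr'
    have hcU := d.case_bot hD' (by rwa [inv_inv]) hz₀0 hz₀Q hz₀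
    have hperp := d.perp_le_T hr0 hr hr'
    obtain ⟨E, hEdef⟩ : ∃ E : Submodule (ZMod 2) V, ∀ x, x ∈ E ↔ x ∈ d.q.perp (d.T g⁻¹) ∧ d.q.Q x = 0 :=
      ⟨{ carrier := {x | x ∈ d.q.perp (d.T g⁻¹) ∧ d.q.Q x = 0}
         zero_mem' := ⟨Submodule.zero_mem _, d.q.Q_zero⟩
         add_mem' := fun {x y} hx hy => ⟨(d.q.perp _).add_mem hx.1 hy.1, by
           rw [d.q.polar, hx.2, hy.2, d.q.mem_perp.1 hx.1 y (hperp hy.1), add_zero, add_zero]⟩
         smul_mem' := fun c x hx => by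
           rcases zmod2 c with rfl | rfl
           · rw [zero_smul]; exact ⟨Submodule.zero_mem _, d.q.Q_zero⟩
           · rwa [one_smul] }, fun x => Iff.rfl⟩
    have hE : E ≤ d.T g⁻¹ := fun x hx => hperp ((hEdef x).1 hx).1
    have hEQ : ∀ x ∈ E, d.q.Q x = 0 := fun x hx => ((hEdef x).1 hx).2
    have p := d.pack_bot hD hD' hE hEQ
    have hE2 : 2 ≤ finrank (ZMod 2) E := by
      let φ : d.q.perp (d.T g⁻¹) →ₗ[ZMod 2] ZMod 2 :=
        (AddMonoidHom.mk' (fun l : d.q.perp (d.T g⁻¹) => d.q.Q (l : V)) fun a b => by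
          show d.q.Q ((a : V) + b) = _
          rw [d.q.polar, d.q.mem_perp.1 a.2 b (hperp b.2), add_zero]).toZModLinearMap 2
      have h1 : (LinearMap.ker φ).map (d.q.perp (d.T g⁻¹)).subtype ≤ E := by
        rintro _ ⟨x, hx, rfl⟩; exact (hEdef _).2 ⟨x.2, hx⟩
      have := Submodule.finrank_mono h1
      have := Submodule.finrank_map_subtype_eq (d.q.perp (d.T g⁻¹)) (LinearMap.ker φ)
      have := LinearMap.finrank_range_add_finrank_ker φ
      have := Submodule.finrank_le (LinearMap.range φ)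
      rw [Module.finrank_self] at this
      have := d.q.finrank_perp (d.T g⁻¹)
      omega
    obtain ⟨z, hzE, v, hvE, n1, n2, n3⟩ := d.exists_two (W := E) (R0 := ⊥) (by rw [finrank_bot]; omega)
    refine p.false_of_conj (z := ⟨z, hzE⟩) (v := ⟨v, hvE⟩) n1 n2 n3 ?_
      (d.conj_pack hE ?_ (hE hzE) (hE hzE) (fun h => n1 ((Submodule.mem_bot _).2 h)) (hEQ z hzE) fun _ => rfl)
    · have := d.q.finrank_perp (d.D g)
      rw [hD, finrank_bot] at *
      omega
    · intro n hn hn' u hu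
      obtain ⟨h1, -, -⟩ := d.exists_sigma hn hn'
      obtain ⟨hu1, hu2⟩ := (hEdef u).1 hu
      exact (hEdef _).2 ⟨d.act_perp hn' h1 hu1, by rw [← d.cls _ u _ (d.act_spec _ hn' u)]; exact hu2⟩
  · have hD' : d.D g⁻¹ ≠ ⊥ := fun h => hD (by
      rw [h, finrank_bot] at hcard
      exact Submodule.finrank_eq_zero.1 hcard.symm)
    have hd : finrank (ZMod 2) (d.D g) ≤ 2 := d.finrank_D_le hg
    have hrad : ∀ g : H, g ∉ d.N → 2 ≤ finrank (ZMod 2) (d.D g) →
        d.D g ⊓ d.q.perp (d.D g) = ⊥ := by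
      intro g hg h2
      by_contra hne
      obtain ⟨y, ⟨hy, hyp⟩, hy0⟩ := (Submodule.ne_bot_iff _).1 hne
      obtain ⟨x, hx, hxn⟩ := SetLike.not_le_iff_exists.1 (show ¬ d.D g ≤ Submodule.span (ZMod 2) {y}
        from fun h => by have := Submodule.finrank_mono h; rw [finrank_span_singleton hy0] at this; omega)
      have hx0 : x ≠ 0 := fun h => hxn (h ▸ Submodule.zero_mem _)
      refine hxn ?_
      rw [show x = y from QF.eq_of_add_eq_zero' (d.anis hg _ ((d.D g).add_mem hx hy) (by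
        rw [d.q.polar, (zmod2 _).resolve_left fun h => hx0 (d.anis hg x hx h),
          (zmod2 _).resolve_left fun h => hy0 (d.anis hg y hy h), d.q.B_comm x y,
          d.q.mem_perp.1 hyp x hx, add_zero, CharTwo.add_self_eq_zero]))]
      exact Submodule.mem_span_singleton_self y
    have hR : finrank (ZMod 2) (d.D g⁻¹ ⊓ d.q.perp (d.D g⁻¹) : Submodule (ZMod 2) V) +
        finrank (ZMod 2) (d.D g) ≤ 2 := by
      by_cases h2 : 2 ≤ finrank (ZMod 2) (d.D g)
      · rw [hrad g⁻¹ hg' (by omega), finrank_bot]; omega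
      · have := Submodule.finrank_mono (inf_le_left : d.D g⁻¹ ⊓ d.q.perp (d.D g⁻¹) ≤ d.D g⁻¹)
        omega
    have hd1 : 1 ≤ finrank (ZMod 2) (d.D g) := Submodule.one_le_finrank_iff.2 hD
    have hRg : finrank (ZMod 2) (d.D g ⊓ d.q.perp (d.D g) : Submodule (ZMod 2) V) +
        finrank (ZMod 2) (d.D g) ≤ 2 := by
      by_cases h2 : 2 ≤ finrank (ZMod 2) (d.D g)
      · rw [hrad g hg h2, finrank_bot]; omega
      · have := Submodule.finrank_mono (inf_le_left : d.D g ⊓ d.q.perp (d.D g) ≤ d.D g)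
        omega
    -- a member of `T ⊓ D⊥` outside `D`
    obtain ⟨t, ⟨htT, htp⟩, htD⟩ : ∃ t ∈ d.T g ⊓ d.q.perp (d.D g), t ∉ d.D g :=
      SetLike.not_le_iff_exists.1 fun h => by
        have := Submodule.finrank_mono (le_inf h inf_le_right :
          d.T g ⊓ d.q.perp (d.D g) ≤ d.D g ⊓ d.q.perp (d.D g))
        have h2 := Submodule.finrank_sup_add_finrank_inf_eq (d.T g) (d.q.perp (d.D g))
        have h6 := Submodule.finrank_le (d.T g ⊔ d.q.perp (d.D g))
        rw [d.q.dim] at h6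
        have := d.q.finrank_perp (d.D g)
        omega
    obtain ⟨t', ht'T, ht'0, ht'Q, -⟩ := d.hrep hg hD htT htp htD
    have ht'' : t' ∈ d.T g⁻¹⁻¹ := by rwa [inv_inv]
    obtain ⟨U0, hU0⟩ : ∃ U0, U0 = d.T g⁻¹ ⊓ d.q.perp (d.D g⁻¹) := ⟨_, rfl⟩
    have hU0dim : 2 * k ≤ 2 * finrank (ZMod 2) U0 + finrank (ZMod 2) (d.D g) := by
      have hf := d.move_isoInv ht''
      have h1 := hf.two_fix (W := d.q.perp (d.D g⁻¹)) fun x hx => d.q.mem_perp.2 fun y hy => by
        rw [← d.move_fixD ht'' hy, hf.B_map]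
        exact d.q.mem_perp.1 hx y hy
      have h2 : d.q.perp (d.D g⁻¹) ⊓ QF.fix (d.move t' ht'') ≤ U0 := fun x hx =>
        hU0 ▸ ⟨d.cent_T ht'' ht'0 ht'Q (QF.mem_fix.1 hx.2), hx.1⟩
      have := Submodule.finrank_mono h2
      have := d.q.finrank_perp (d.D g⁻¹)
      omega
    have hUT : U0 ≤ d.T g⁻¹ := hU0 ▸ inf_le_left
    have hUP : U0 ≤ d.q.perp (d.D g⁻¹) := hU0 ▸ inf_le_right
    obtain ⟨R', hR'⟩ : ∃ R', R' = d.D g⁻¹ ⊓ d.q.perp (d.D g⁻¹) := ⟨_, rfl⟩
    have hRU : R' ≤ U0 := by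
      rw [hR', hU0]; exact inf_le_inf_right _ (d.D_le_T g⁻¹)
    have hout : ∀ z ∈ U0, z ∉ R' → z ∉ d.D g⁻¹ := fun z hz hn h => hn (hR' ▸ ⟨h, hUP hz⟩)
    have p : d.q.Pack U0 R' (d.D g) (d.T g ⊓ d.q.perp (d.D g)) fun u => d.move (u : V) (hUT u.2) := by
      refine ⟨fun u => d.move_isoInv _, fun u v x => d.move_add _ _ x, hA, inf_le_right,
        fun u x hx => d.move_fixD _ hx, fun u x hx => d.move_perpD _ hA hx.1 hx.2, fun u hu x => ?_,
        fun u hu => ?_, fun u hu x hxP hx => ?_⟩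
      · rw [hR'] at hu
        obtain ⟨w, -, hw⟩ := d.D_corr' hu.1
        refine d.act_eq (d.memN_of_T (hUT u.2)) ?_
        rw [hw, d.e_comm, mul_inv_cancel_right]
      · by_contra h
        push Not at h
        exact hout _ u.2 hu (d.mem_D_of_trivial (hUT u.2) h)
      · obtain ⟨z', hz'T, hz'0, hz'Q, hdiff⟩ :=
          d.hrep hg' hD' (hUT u.2) (hUP u.2) (hout _ u.2 hu)
        exact ⟨d.cent_T hz'T hz'0 hz'Q ((d.move_congr (hUT u.2) hz'T hdiff x).trans hx), hxP⟩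
    have hU2 : finrank (ZMod 2) R' + 3 ≤ finrank (ZMod 2) U0 := by rw [hR']; omega
    obtain ⟨z, hzU, v, hvU, n1, n2, n3⟩ := d.exists_two (W := U0) (R0 := R') (by omega)
    have hP := p.not_le (u := ⟨z, hzU⟩) (v := ⟨v, hvU⟩) n1 n2 n3
    have hc := p.card_le hP hRU
    obtain ⟨z', hz'T, hz'0, hz'Q, hdiff⟩ := d.hrep hg' hD' (hUT hzU) (hUP hzU) (hout _ hzU n1)
    refine p.false_of_conj (z := ⟨z, hzU⟩) (v := ⟨v, hvU⟩) n1 n2 n3 (by omega)
      (d.conj_pack hUT ?_ (hUT hzU) hz'T hz'0 hz'Q (d.move_congr (hUT hzU) hz'T hdiff))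
    intro n hn hn' u hu
    obtain ⟨h1, h2, -⟩ := d.exists_sigma hn hn'
    exact hU0 ▸ ⟨h1 u (hUT hu), d.act_perp hn' h2 (hUP hu)⟩

/-! ## Dihedral orbits -/

omit [Finite H] in
theorem dihedral [Finite H] {X : Type*} [MulAction H X] (F : X → Prop) {a b : H} (ha : a * a = 1)
    (hb : b * b = 1) (hFa : ∀ z, F z → F (a • z)) (hFb : ∀ z, F z → F (b • z)) {x y : X} (hx : F x)
    (hax : a • x = x) (hua : ∀ z, F z → a • z = z → z = x) (hub : ∀ z, F z → b • z = z → z = y) :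
    ∃ m n : ℕ, y = (a * b) ^ m • x ∧ (a * b) ^ n • x = x ∧ (a * b) ^ n • y = y ∧
      (a * b) ^ n = a * (((a * b) ^ m)⁻¹ * b * (a * b) ^ m) := by
  classical
  have hex : ∃ n, 0 < n ∧ (a * b) ^ n • x = x :=
    ⟨orderOf (a * b), (isOfFinOrder_of_finite _).orderOf_pos, by rw [pow_orderOf_eq_one, one_smul]⟩
  obtain ⟨n, hn⟩ : ∃ n, n = Nat.find hex := ⟨_, rfl⟩
  have hn0 : 0 < n := hn ▸ (Nat.find_spec hex).1
  have hnx : (a * b) ^ n • x = x := hn ▸ (Nat.find_spec hex).2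
  have hai : a⁻¹ = a := inv_eq_of_mul_eq_one_right ha
  have hbi : b⁻¹ = b := inv_eq_of_mul_eq_one_right hb
  have hF : ∀ i : ℕ, F ((a * b) ^ i • x) := by
    intro i
    induction i with
    | zero => simpa using hx
    | succ i ih => rw [pow_succ', mul_smul, mul_smul]; exact hFa _ (hFb _ ih)
  have hconj : a * (a * b) * a⁻¹ = (a * b)⁻¹ := by
    rw [← mul_assoc, ha, one_mul, mul_inv_rev, hai, hbi]
  have hpow : ∀ i : ℕ, a * (a * b) ^ i = ((a * b) ^ i)⁻¹ * a := fun i => by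
    rw [← inv_pow, ← hconj, conj_pow, inv_mul_cancel_right]
  have hac : ∀ i : ℕ, a • (a * b) ^ i • x = ((a * b) ^ i)⁻¹ • x := fun i => by
    rw [← mul_smul, hpow, mul_smul, hax]
  obtain ⟨m, hm | hm⟩ := n.even_or_odd'
  · exfalso
    have h1 : a • (a * b) ^ m • x = (a * b) ^ m • x := by
      rw [hac, inv_smul_eq_iff, ← mul_smul, ← pow_add, ← two_mul, ← hm, hnx]
    have h2 := hua _ (hF m) h1
    have h3 := Nat.find_min hex (m := m) (by omega)
    exact h3 ⟨by omega, h2⟩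
  · have hb' : b = a * (a * b) := by rw [← mul_assoc, ha, one_mul]
    have h1 : b • (a * b) ^ m • x = (a * b) ^ m • x := by
      rw [← mul_smul, show b * (a * b) ^ m = a * (a * b) ^ (m + 1) by
        rw [pow_succ', ← mul_assoc, ← hb'], mul_smul, hac, inv_smul_eq_iff, ← mul_smul, ← pow_add,
        show m + 1 + m = n by omega, hnx]
    have hy := (hub _ (hF m) h1).symm
    refine ⟨m, n, hy, hnx, ?_, ?_⟩
    · rw [hy, ← mul_smul, ← pow_add, add_comm, pow_add, mul_smul, hnx]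
    · rw [show ((a * b) ^ m)⁻¹ * b * (a * b) ^ m = (((a * b) ^ m)⁻¹ * a) * ((a * b) * (a * b) ^ m) by
          conv_lhs => rw [hb']
          simp only [mul_assoc]
          rw [← mul_assoc a a, ha, one_mul], ← hpow, ← pow_succ', mul_assoc, ← mul_assoc a a, ha, one_mul,
        ← pow_add, show m + (m + 1) = n by omega]

omit [Finite H] in
theorem smul_point {g h : H} :
    h • (QuotientGroup.mk g : H ⧸ d.N) = QuotientGroup.mk g ↔ g⁻¹ * h * g ∈ d.N := by
  show (QuotientGroup.mk (h * g) : H ⧸ d.N) = _ ↔ _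
  rw [eq_comm, QuotientGroup.eq, mul_assoc]

omit [Finite H] in
theorem point_eq {g : H} (h : g ∈ d.N) :
    (QuotientGroup.mk g : H ⧸ d.N) = QuotientGroup.mk 1 :=
  QuotientGroup.eq.2 (by simpa using h)

omit [Finite H] in
theorem point_eq_iff {g h : H} :
    (QuotientGroup.mk h : H ⧸ d.N) = QuotientGroup.mk g ↔ g⁻¹ * h ∈ d.N := by
  rw [eq_comm, QuotientGroup.eq]

theorem conj_to_base {c g : H} {v : V}
    (hy : (QuotientGroup.mk g : H ⧸ d.N) = c • (QuotientGroup.mk 1 : H ⧸ d.N)) :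
    ∃ w, c⁻¹ * (g * d.e v * g⁻¹) * c = d.e w := by
  have hn : c⁻¹ * g ∈ d.N := by
    have hy' : (QuotientGroup.mk g : H ⧸ d.N) = QuotientGroup.mk (c * 1) := hy
    rw [mul_one] at hy'
    exact d.point_eq_iff.1 hy'
  obtain ⟨w, hw⟩ := d.mem_N.1 hn v
  exact ⟨w, by rw [← hw]; group⟩

theorem B_eq_of_comm {u v w : V} {x : H} (hu : x * d.e u * x⁻¹ = d.e u)
    (h : x * d.e v * x⁻¹ = d.e w) : d.q.B u w = d.q.B u v := by
  have h1 := d.cls x v w h
  have h2 := d.cls x (u + v) (u + w) (by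
    rw [d.e_add, d.e_add]
    calc x * (d.e u * d.e v) * x⁻¹ = (x * d.e u * x⁻¹) * (x * d.e v * x⁻¹) := by group
      _ = _ := by rw [hu, h])
  rw [d.q.polar, d.q.polar, h1] at h2
  exact (add_left_cancel h2).symm

theorem shift {u w : V} {c g : H} (hg : g * d.e u = d.e u * g) (hc : c * d.e u = d.e u * c) {v : V}
    (hw : c⁻¹ * (g * d.e v * g⁻¹) * c = d.e w) : d.q.B u w = d.q.B u v := by
  refine d.B_eq_of_comm (x := c⁻¹ * g) ?_ (by rw [← hw]; group)
  calc c⁻¹ * g * d.e u * (c⁻¹ * g)⁻¹ = c⁻¹ * (g * d.e u) * g⁻¹ * c := by group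
    _ = c⁻¹ * (d.e u * c) := by rw [hg]; group
    _ = d.e u := by rw [← hc]; group

/-- Centralisers of anticommuting nonsingular pairs. -/
theorem cent_two {u w : V} (hu : d.q.Q u = 1) (_hw : d.q.Q w = 1)
    (huw : d.q.B u w = 1) {g : H} (hgu : g * d.e u = d.e u * g) (hgw : g * d.e w = d.e w * g) : g ∈ d.N := by
  by_contra hg
  obtain ⟨a, ha, ha0, haQ⟩ := d.q.exists_singular
    (W := d.q.perp (Submodule.span (ZMod 2) ({u, w} : Set V))) (by have := d.q.two_le_perp_pair u w; have := d.four; omega)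
  obtain ⟨v, hv, hvQ⟩ := d.q.exists_nonsingular
    (W := d.q.perp (Submodule.span (ZMod 2) ({u, w} : Set V))) (by have := d.q.two_le_perp_pair u w; have := d.four; omega)
  obtain ⟨hau, haw⟩ := d.q.mem_perp_pair.1 ha
  obtain ⟨hvu, hvw⟩ := d.q.mem_perp_pair.1 hv
  obtain ⟨b, hb⟩ : ∃ b, b = g * d.e v * g⁻¹ := ⟨_, rfl⟩
  have hbc : ∀ {s : V}, g * d.e s = d.e s * g → b * d.e s = d.e s * b := fun {s} h => by
    have h' : d.e s = g * d.e s * g⁻¹ := by rw [h]; group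
    rw [hb, h']
    calc g * d.e v * g⁻¹ * (g * d.e s * g⁻¹) = g * (d.e v * d.e s) * g⁻¹ := by group
      _ = _ := by rw [d.e_comm v s]; group
  obtain ⟨m, n, hy, hnx, hny, hk⟩ := dihedral (fun z : H ⧸ d.N => d.e u • z = z)
    (a := d.e a) (b := b) (d.e_sq a) (hb ▸ d.conj_e_sq g v)
    (fun z hz => by rw [← mul_smul, d.e_comm, mul_smul, hz])
    (fun z hz => by rw [← mul_smul, ← hbc hgu, mul_smul, hz])
    (x := QuotientGroup.mk 1) (y := QuotientGroup.mk g)
    (d.smul_point.2 (by simpa using d.e_memN u))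
    (d.smul_point.2 (by simpa using d.e_memN a))
    (fun z hz hfix => by
      obtain ⟨h, rfl⟩ := QuotientGroup.mk_surjective z
      exact d.point_eq (d.fix_unique ha0 haQ (d.smul_point.1 hfix)))
    (fun z hz hfix => by
      obtain ⟨h, rfl⟩ := QuotientGroup.mk_surjective z
      refine d.point_eq_iff.2 (d.fix_unique (r := v + u) (fun h0 => ?_) ?_ ?_)
      · rw [QF.eq_of_add_eq_zero' h0, huw] at hvw
        exact one_ne_zero hvw
      · rw [d.q.polar, hvQ, hu, hvu, add_zero, CharTwo.add_self_eq_zero]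
      · have h1 := d.N.mul_mem (d.smul_point.1 hfix) (d.smul_point.1 hz)
        convert h1 using 1
        rw [hb, d.e_add]
        have h2 : g⁻¹ * d.e u * g = d.e u := by rw [mul_assoc, ← hgu]; group
        calc (g⁻¹ * h)⁻¹ * (d.e v * d.e u) * (g⁻¹ * h)
            = (g⁻¹ * h)⁻¹ * (d.e v * (g⁻¹ * d.e u * g)) * (g⁻¹ * h) := by rw [h2]
          _ = _ := by group)
  obtain ⟨v', hv'⟩ := d.conj_to_base (v := v) hy
  obtain ⟨c, hc⟩ : ∃ c, c = (d.e a * b) ^ m := ⟨_, rfl⟩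
  rw [← hc] at hy hv'
  have hcc : ∀ {s : V}, g * d.e s = d.e s * g → c * d.e s = d.e s * c := fun {s} h => by
    rw [hc]; exact (Commute.mul_left (d.e_comm a s) (hbc h)).pow_left m
  have hQ : d.q.Q v' = 1 := by
    rw [← d.cls (c⁻¹ * g) v v' (by rw [← hv']; group)]; exact hvQ
  have hBu : d.q.B (a + v') u = 0 := by
    rw [d.q.B_comm, map_add, d.shift hgu (hcc hgu) hv', d.q.B_comm u a, hau, d.q.B_comm u v, hvu, add_zero]
  have hke : (d.e a * b) ^ n = d.e (a + v') := by rw [hk, d.e_add, ← hv', hb, hc, hb]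
  rw [hke] at hny
  have hkN := d.smul_point.1 hny
  rcases zmod2 (d.q.Q (a + v')) with h | h
  · refine hg (d.fix_unique (fun h0 => ?_) h hkN)
    rw [QF.eq_of_add_eq_zero' h0, hQ] at haQ
    exact one_ne_zero haQ
  · refine hg (d.fix_unique (r := a + v' + u) (fun h0 => ?_) ?_ ?_)
    · have h1 : d.q.B (a + v' + u) w = d.q.B u w := by
        rw [map_add, LinearMap.add_apply, map_add, LinearMap.add_apply, d.q.B_comm v' w,
          d.shift hgw (hcc hgw) hv', d.q.B_comm w v, hvw, haw, zero_add, zero_add]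
      rw [h0, map_zero, LinearMap.zero_apply, huw] at h1
      exact zero_ne_one h1
    · rw [d.q.polar, h, hu, hBu, add_zero, CharTwo.add_self_eq_zero]
    · have h1 := d.N.mul_mem hkN (d.e_memN u)
      convert h1 using 1
      rw [d.e_add (a + v') u, mul_assoc _ g (d.e u), hgu]; group

/-- A nonsingular vector pairing to one with `u`. -/
theorem exists_partner {u : V} (hu : d.q.Q u = 1) : ∃ w, d.q.Q w = 1 ∧ d.q.B u w = 1 := by
  obtain ⟨c, hc⟩ : ∃ c, d.q.B u c = 1 := by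
    by_contra hno
    push Not at hno
    have := d.q.nondeg u fun c => (zmod2 _).resolve_right (hno c)
    rw [this, d.q.Q_zero] at hu
    exact zero_ne_one hu
  rcases zmod2 (d.q.Q c) with h | h
  swap
  · exact ⟨c, h, hc⟩
  obtain ⟨y, hy, hyQ⟩ := d.q.exists_nonsingular
    (W := d.q.perp (Submodule.span (ZMod 2) ({u, c} : Set V))) (by have := d.q.two_le_perp_pair u c; have := d.four; omega)
  obtain ⟨hyu, hyc⟩ := d.q.mem_perp_pair.1 hy
  exact ⟨c + y, by rw [d.q.polar, h, hyQ, d.q.B_comm c y, hyc, zero_add, add_zero],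
    by rw [map_add, hc, d.q.B_comm u y, hyu, add_zero]⟩

theorem fix_unique_pair {u w : V} (hu : d.q.Q u = 1) (hw : d.q.Q w = 1)
    (huw : d.q.B u w = 1) {k : H}
    (hku : k⁻¹ * d.e u * k ∈ d.A) (hkw : k⁻¹ * d.e w * k ∈ d.N) : k ∈ d.N := by
  obtain ⟨u', hu'⟩ := hku
  have hf := d.act_isoInv hkw (by
    have := d.conj_e_sq k⁻¹ w
    rwa [inv_inv] at this)
  have h1 := hf.two_fix (W := ⊤) fun _ _ => trivial
  rw [finrank_top, d.q.dim, top_inf_eq] at h1
  obtain ⟨s, hs, hs0, hsQ⟩ := d.q.exists_singular (W := QF.fix (d.act _ hkw)) (by have := d.four; omega)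
  have hsw := (d.act_fix hkw).1 (QF.mem_fix.1 hs)
  have h2 : k * d.e s * k⁻¹ ∈ d.N := by
    refine d.cent_two hu hw huw ?_ ?_
    · rw [show d.e u = k * d.e u' * k⁻¹ by rw [hu']; group]
      calc k * d.e s * k⁻¹ * (k * d.e u' * k⁻¹) = k * (d.e s * d.e u') * k⁻¹ := by group
        _ = _ := by rw [d.e_comm s u']; group
    · calc k * d.e s * k⁻¹ * d.e w = k * (d.e s * (k⁻¹ * d.e w * k)) * k⁻¹ := by group
        _ = k * (k⁻¹ * d.e w * k * d.e s) * k⁻¹ := by rw [hsw]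
        _ = _ := by group
  have h3 := d.fix_unique (g := k⁻¹) hs0 hsQ (by rwa [inv_inv])
  simpa using d.N.inv_mem h3

/-- Centralisers of nonsingular members. -/
theorem cent_one {u : V} (hu : d.q.Q u = 1) {g : H} (hgu : g * d.e u = d.e u * g) : g ∈ d.N := by
  by_contra hg
  obtain ⟨w, hwQ, huw⟩ := d.exists_partner hu
  obtain ⟨a, ha, ha0, haQ⟩ := d.q.exists_singular
    (W := d.q.perp (Submodule.span (ZMod 2) ({u, u} : Set V))) (by have := d.q.two_le_perp_pair u u; have := d.four; omega)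
  obtain ⟨hau, -⟩ := d.q.mem_perp_pair.1 ha
  obtain ⟨b, hb⟩ : ∃ b, b = g * d.e w * g⁻¹ := ⟨_, rfl⟩
  have hgu' : g * d.e u * g⁻¹ = d.e u := by rw [hgu]; group
  have hbu : b * d.e u = d.e u * b := by
    rw [hb, ← hgu']
    calc g * d.e w * g⁻¹ * (g * d.e u * g⁻¹) = g * (d.e w * d.e u) * g⁻¹ := by group
      _ = _ := by rw [d.e_comm w u]; group
  have hstab : ∀ (c : H), c * d.e u = d.e u * c → ∀ z : H ⧸ d.N,
      (∃ h : H, z = QuotientGroup.mk h ∧ h⁻¹ * d.e u * h ∈ d.A) →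
      ∃ h : H, c • z = QuotientGroup.mk h ∧ h⁻¹ * d.e u * h ∈ d.A := by
    rintro c hc z ⟨h, rfl, hh⟩
    refine ⟨c * h, rfl, ?_⟩
    convert hh using 1
    calc (c * h)⁻¹ * d.e u * (c * h) = h⁻¹ * c⁻¹ * (d.e u * c) * h := by group
      _ = _ := by rw [← hc]; group
  obtain ⟨m, n, hy, hnx, hny, hk⟩ := dihedral
    (fun z : H ⧸ d.N => ∃ h : H, z = QuotientGroup.mk h ∧ h⁻¹ * d.e u * h ∈ d.A)
    (a := d.e a) (b := b) (d.e_sq a) (hb ▸ d.conj_e_sq g w)
    (hstab _ (d.e_comm a u)) (hstab _ hbu)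
    (x := QuotientGroup.mk 1) (y := QuotientGroup.mk g) ⟨1, rfl, by simpa using d.e_mem u⟩
    (d.smul_point.2 (by simpa using d.e_memN a))
    (fun z _ hfix => by
      obtain ⟨h, rfl⟩ := QuotientGroup.mk_surjective z
      exact d.point_eq (d.fix_unique ha0 haQ (d.smul_point.1 hfix)))
    (fun z hz hfix => by
      obtain ⟨h, rfl, hh⟩ := hz
      refine d.point_eq_iff.2 (d.fix_unique_pair hu hwQ huw ?_ ?_)
      · convert hh using 1
        calc (g⁻¹ * h)⁻¹ * d.e u * (g⁻¹ * h) = h⁻¹ * (g * d.e u * g⁻¹) * h := by group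
          _ = _ := by rw [hgu']
      · convert d.smul_point.1 hfix using 1
        rw [hb]; group)
  obtain ⟨w', hw'⟩ := d.conj_to_base (v := w) hy
  obtain ⟨c, hc⟩ : ∃ c, c = (d.e a * b) ^ m := ⟨_, rfl⟩
  rw [← hc] at hy hw'
  have hcu : c * d.e u = d.e u * c := hc ▸ (Commute.mul_left (d.e_comm a u) hbu).pow_left m
  have hB : d.q.B u (a + w') = 1 := by
    rw [map_add, d.q.B_comm u a, hau, d.shift hgu hcu hw', huw, zero_add]
  have hke : (d.e a * b) ^ n = d.e (a + w') := by rw [hk, d.e_add, ← hw', hb, hc, hb]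
  rw [hke] at hny
  have hkN := d.smul_point.1 hny
  rcases zmod2 (d.q.Q (a + w')) with h | h
  · exact hg (d.fix_unique (fun h0 => by simp [h0] at hB) h hkN)
  · refine hg (d.fix_unique_pair hu h hB ⟨u, ?_⟩ hkN)
    rw [mul_assoc, ← hgu]; group

/-- The subgroup is normal. -/
theorem normalizer_eq_top (g : H) : g ∈ d.N := by
  by_contra hg
  obtain ⟨a, -, ha0, haQ⟩ := d.q.exists_singular (W := (⊤ : Submodule (ZMod 2) V))
    (by rw [finrank_top, d.q.dim]; have := d.four; omega)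
  obtain ⟨v, -, hvQ⟩ := d.q.exists_nonsingular (W := (⊤ : Submodule (ZMod 2) V))
    (by rw [finrank_top, d.q.dim]; have := d.four; omega)
  obtain ⟨b, hb⟩ : ∃ b, b = g * d.e v * g⁻¹ := ⟨_, rfl⟩
  have huniq : ∀ {k : H} {u : V}, d.q.Q u = 1 → k⁻¹ * d.e u * k ∈ d.N → k ∈ d.N := by
    intro k u hu hk
    have hf := d.act_isoInv hk (by
      have := d.conj_e_sq k⁻¹ u
      rwa [inv_inv] at this)
    have h1 := hf.two_fix (W := ⊤) fun _ _ => trivial
    rw [finrank_top, d.q.dim, top_inf_eq] at h1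
    obtain ⟨s, hs, hs0, hsQ⟩ := d.q.exists_singular (W := QF.fix (d.act _ hk)) (by have := d.four; omega)
    have hsw := (d.act_fix hk).1 (QF.mem_fix.1 hs)
    have h2 : k * d.e s * k⁻¹ ∈ d.N := by
      refine d.cent_one hu ?_
      calc k * d.e s * k⁻¹ * d.e u = k * (d.e s * (k⁻¹ * d.e u * k)) * k⁻¹ := by group
        _ = k * (k⁻¹ * d.e u * k * d.e s) * k⁻¹ := by rw [hsw]
        _ = _ := by group
    have h3 := d.fix_unique (g := k⁻¹) hs0 hsQ (by rwa [inv_inv])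
    simpa using d.N.inv_mem h3
  obtain ⟨m, n, hy, hnx, hny, hk⟩ := dihedral (fun _ : H ⧸ d.N => True)
    (a := d.e a) (b := b) (d.e_sq a) (hb ▸ d.conj_e_sq g v) (fun _ _ => trivial) (fun _ _ => trivial)
    (x := QuotientGroup.mk 1) (y := QuotientGroup.mk g) trivial
    (d.smul_point.2 (by simpa using d.e_memN a))
    (fun z _ hfix => by
      obtain ⟨h, rfl⟩ := QuotientGroup.mk_surjective z
      exact d.point_eq (d.fix_unique ha0 haQ (d.smul_point.1 hfix)))
    (fun z _ hfix => by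
      obtain ⟨h, rfl⟩ := QuotientGroup.mk_surjective z
      refine d.point_eq_iff.2 (huniq hvQ ?_)
      convert d.smul_point.1 hfix using 1
      rw [hb]; group)
  obtain ⟨v', hv'⟩ := d.conj_to_base (v := v) hy
  obtain ⟨c, hc⟩ : ∃ c, c = (d.e a * b) ^ m := ⟨_, rfl⟩
  rw [← hc] at hy hv'
  have hQ : d.q.Q v' = 1 := by
    rw [← d.cls (c⁻¹ * g) v v' (by rw [← hv']; group)]; exact hvQ
  have hke : (d.e a * b) ^ n = d.e (a + v') := by rw [hk, d.e_add, ← hv', hb, hc, hb]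
  rw [hke] at hny
  have hkN := d.smul_point.1 hny
  rcases zmod2 (d.q.Q (a + v')) with h | h
  · refine hg (d.fix_unique (fun h0 => ?_) h hkN)
    rw [QF.eq_of_add_eq_zero' h0, hQ] at haQ
    exact one_ne_zero haQ
  · exact hg (huniq h hkN)

end Dat

end Cfsg.Agent.C6Gen
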