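import Cfsg.Agent.Lib.C6Gen.Sys
import Cfsg.Agent.Lib.C6Gen.Strong
/-!
# Overgroups of a system in which the centralisers of singular members are local

* `Over`              : an overgroup containing the pairs with local centralisers of singular members
* `Over.le_normalizer`
-/

set_option autoImplicit false
set_option linter.unusedSectionVars false
set_option linter.style.haveILetI false

namespace Cfsg.Agent.C6Gen

open Module Matrix

variable {k : ℕ} {ι : Type} [Fintype ι] [DecidableEq ι] [Nonempty ι] {F : Type*} [Field F]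

/-- For a finite subgroup one inclusion suffices. -/
theorem mem_normalizer_of {G : Type*} [Group G] {R : Subgroup G} [Finite R] {g : G}
    (h : ∀ x ∈ R, g * x * g⁻¹ ∈ R) : g ∈ Subgroup.normalizer (R : Set G) := by
  let f : R → R := fun x => ⟨g * x * g⁻¹, h x x.2⟩
  have hs : Function.Surjective f := Finite.injective_iff_surjective.1 fun x y hxy =>
    Subtype.ext (mul_left_cancel (mul_right_cancel (congrArg Subtype.val hxy)))
  refine Subgroup.mem_normalizer_iff.mpr fun x => ⟨h x, fun hx => ?_⟩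
  obtain ⟨⟨y, hy⟩, hy'⟩ := hs ⟨g * x * g⁻¹, hx⟩
  rw [← mul_left_cancel (mul_right_cancel (congrArg Subtype.val hy'))]
  exact hy

/-- The members of the normaliser that are products of two transvections lie in `G`. -/
def HasPairs (R G : Subgroup (GL ι F)) : Prop :=
  ∀ a ∈ R, ∀ b ∈ R, a * a = -1 → b * b = -1 → ∀ n : GL ι F,
    (n : Matrix ι ι F) = (2 : F)⁻¹ • ((1 + (a : Matrix ι ι F)) * (1 + (b : Matrix ι ι F))) → n ∈ G

/-- The data. -/
structure Over (k : ℕ) (R G : Subgroup (GL ι F)) : Prop where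
  sys : Sys k R
  R_le : R ≤ G
  scalar_pm : ∀ g ∈ G, ∀ c : F, (g : Matrix ι ι F) = c • 1 → g = 1 ∨ g = -1
  pairs : HasPairs R G
  loc : ∀ r ∈ R, r * r = 1 → r ≠ 1 → r ≠ -1 → ∀ g ∈ G, g * r = r * g →
    g ∈ Cfsg.Geo.subgroupNormalizer R

theorem Sys.exists_pair_normal {R : Subgroup (GL ι F)} (hR : Sys k R) {a b : GL ι F} (ha : a ∈ R)
    (hb : b ∈ R) (haa : a * a = -1) (hbb : b * b = -1) :
    ∃ n ∈ Cfsg.Geo.subgroupNormalizer R,
      (n : Matrix ι ι F) = (2 : F)⁻¹ • ((1 + (a : Matrix ι ι F)) * (1 + (b : Matrix ι ι F))) ∧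
      ∀ x ∈ R, ∃ y, (y = x ∧ x * b = b * x ∨ y = b * x ∧ x * b = -(b * x)) ∧
        (n * x * n⁻¹ = y ∧ y * a = a * y ∨ n * x * n⁻¹ = a * y ∧ y * a = -(a * y)) := by
  have := hR.finiteR
  obtain ⟨n, hn, hconj⟩ := hR.exists_pair ha hb haa hbb
  refine ⟨n, mem_normalizer_of fun x hx => ?_, hn, hconj⟩
  obtain ⟨y, hy, hy'⟩ := hconj x hx
  have hyR : y ∈ R := by
    rcases hy with ⟨e, -⟩ | ⟨e, -⟩ <;> rw [e]
    exacts [hx, R.mul_mem hb hx]
  rcases hy' with ⟨e, -⟩ | ⟨e, -⟩ <;> rw [e]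
  exacts [hyR, R.mul_mem ha hyR]

/-- `±1` in `G`. -/
def pmIn (G : Subgroup (GL ι F)) : Subgroup G where
  carrier := {x | (x : (GL ι F)) = 1 ∨ (x : (GL ι F)) = -1}
  one_mem' := Or.inl rfl
  mul_mem' := by
    rintro a b (ha | ha) (hb | hb) <;>
      show ((a * b : G) : (GL ι F)) = 1 ∨ ((a * b : G) : (GL ι F)) = -1 <;> simp [ha, hb]
  inv_mem' := by
    rintro a (ha | ha)
    · exact Or.inl (by simp [ha])
    · exact Or.inr (by simp [ha, inv_neg])

instance pmIn_normal (G : Subgroup (GL ι F)) : (pmIn G).Normal :=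
  ⟨fun x hx g => by
    rcases hx with h | h
    · exact Or.inl (by simp [h])
    · exact Or.inr (by simp [h, mul_inv_cancel])⟩

namespace Over

variable [Fintype F] {R G : Subgroup (GL ι F)} (O : Over k R G)
include O

theorem mk_eq {x y : (GL ι F)} (hx : x ∈ G) (hy : y ∈ G) :
    (QuotientGroup.mk ⟨x, hx⟩ : G ⧸ pmIn G) = QuotientGroup.mk ⟨y, hy⟩ ↔ y = x ∨ y = -x := by
  refine QuotientGroup.eq.trans ?_
  show ((⟨x, hx⟩⁻¹ * ⟨y, hy⟩ : G) : (GL ι F)) = 1 ∨ ((⟨x, hx⟩⁻¹ * ⟨y, hy⟩ : G) : (GL ι F)) = -1 ↔ _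
  simp only [Subgroup.coe_mul, Subgroup.coe_inv, inv_mul_eq_iff_eq_mul, mul_one, mul_neg]

/-- The embedding of `R/±1`. -/
noncomputable def emb (v : VB R) : G ⧸ pmIn G := QuotientGroup.mk ⟨(lift' v : (GL ι F)), O.R_le (lift' v).2⟩
where
  /-- A lift. -/
  lift' (v : VB R) : R := Sys.lift v

theorem emb_bar (x : R) :
    O.emb (Additive.ofMul (bar x)) = QuotientGroup.mk ⟨(x : (GL ι F)), O.R_le x.2⟩ :=
  (O.mk_eq _ _).2 (bar_eq.1 (Sys.bar_lift _))

theorem conj_eq {g : (GL ι F)} (hg : g ∈ G) (v w : VB R) :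
    (QuotientGroup.mk ⟨g, hg⟩ : G ⧸ pmIn G) * O.emb v * (QuotientGroup.mk ⟨g, hg⟩)⁻¹ = O.emb w ↔
      g * (Sys.lift v : (GL ι F)) * g⁻¹ = Sys.lift w ∨ g * (Sys.lift v : (GL ι F)) * g⁻¹ = -(Sys.lift w : (GL ι F)) := by
  have hv := O.R_le (Sys.lift v).2
  have hw := O.R_le (Sys.lift w).2
  show (QuotientGroup.mk (⟨g, hg⟩ * ⟨_, hv⟩ * (⟨g, hg⟩ : G)⁻¹) : G ⧸ pmIn G) = QuotientGroup.mk ⟨_, hw⟩ ↔ _
  refine (O.mk_eq (G.mul_mem (G.mul_mem hg hv) (G.inv_mem hg)) hw).trans ?_
  constructor <;> rintro (h | h)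
  · exact Or.inl h.symm
  · exact Or.inr (by rw [h, neg_neg])
  · exact Or.inl h.symm
  · exact Or.inr (by rw [h, neg_neg])

theorem mul_emb {g : (GL ι F)} (hg : g ∈ G) (v : VB R)
    (h : (QuotientGroup.mk ⟨g, hg⟩ : G ⧸ pmIn G) * O.emb v = O.emb v * QuotientGroup.mk ⟨g, hg⟩) :
    g * (Sys.lift v : (GL ι F)) = Sys.lift v * g ∨ g * (Sys.lift v : (GL ι F)) = -(Sys.lift v * g) := by
  have h' : (QuotientGroup.mk ⟨g, hg⟩ : G ⧸ pmIn G) * O.emb v * (QuotientGroup.mk ⟨g, hg⟩)⁻¹ = O.emb v := by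
    rw [h, mul_inv_cancel_right]
  rcases (O.conj_eq hg v v).1 h' with e | e
  · exact Or.inl (mul_inv_eq_iff_eq_mul.1 e)
  · exact Or.inr (by rw [mul_inv_eq_iff_eq_mul.1 e, neg_mul])


theorem le_normalizer (hk : 4 ≤ k) : G ≤ Cfsg.Geo.subgroupNormalizer R := by
  classical
  have hR := O.sys
  letI := hR.addCommGroup
  letI := hR.module2
  have hfin := hR.finiteR
  have hsq : ∀ {c : VB R}, Qv (Sys.lift c) = 1 → (Sys.lift c : GL ι F) * Sys.lift c = -1 :=
    fun {c} hc => by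
      rcases hR.Q_cases (Sys.lift c) with ⟨-, h⟩ | ⟨h, -⟩
      · rw [hc] at h; exact absurd h one_ne_zero
      · exact h
  have hact : ∀ (a b : VB R) (A : GL ι F) (n : GL ι F) (B : GL ι F),
      n ∈ Cfsg.Geo.subgroupNormalizer R →
      (∀ x ∈ R, ∃ y, (y = x ∧ x * B = B * x ∨ y = B * x ∧ x * B = -(B * x)) ∧
        (n * x * n⁻¹ = y ∧ y * A = A * y ∨ n * x * n⁻¹ = A * y ∧ y * A = -(A * y))) →
      (A = Sys.lift a ∨ A = -(Sys.lift a : GL ι F)) →
      (B = Sys.lift b ∨ B = -(Sys.lift b : GL ι F)) →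
      ∀ hnG : n ∈ G, ∀ v, (QuotientGroup.mk ⟨n, hnG⟩ : G ⧸ pmIn G) * O.emb v * (QuotientGroup.mk ⟨n, hnG⟩)⁻¹ =
        O.emb ((hR.quad (le_trans (by norm_num) hk)).trans a ((hR.quad (le_trans (by norm_num) hk)).trans b v)) := by
    intro a b A n B hn hconj hA hB hnG v
    obtain ⟨A', hA'⟩ : ∃ A' : R, (A' : GL ι F) = A :=
      hA.elim (fun e => ⟨_, e.symm⟩) fun e => ⟨⟨_, hR.neg_mem (Sys.lift a).2⟩, e.symm⟩
    obtain ⟨B', hB'⟩ : ∃ B' : R, (B' : GL ι F) = B :=
      hB.elim (fun e => ⟨_, e.symm⟩) fun e => ⟨⟨_, hR.neg_mem (Sys.lift b).2⟩, e.symm⟩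
    subst hA'; subst hB'
    have hAbar : bar A' = Additive.toMul a := by rw [← Sys.bar_lift a]; exact (bar_eq.2 hA).symm
    have hBbar : bar B' = Additive.toMul b := by rw [← Sys.bar_lift b]; exact (bar_eq.2 hB).symm
    obtain ⟨y, hy, hy'⟩ := hconj _ (Sys.lift v).2
    have hstep : ∀ (c u : VB R) (C z : R), bar C = Additive.toMul c → bar z = Additive.toMul u →
        ∀ w : R, ((w : GL ι F) = z ∧ (z : GL ι F) * C = C * z ∨
          (w : GL ι F) = C * z ∧ (z : GL ι F) * C = -(C * z)) →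
        bar w = Additive.toMul (u + (hR.quad (le_trans (by norm_num) hk)).B u c • c) := by
      intro c u C z hC hz w hw
      have hB : (hR.quad (le_trans (by norm_num) hk)).B u c = Bv z C := by
        show Bv (Sys.lift u) (Sys.lift c) = _
        rw [hR.Bv_comm, ← hR.Bv_congr _ (hz.trans (Sys.bar_lift u).symm), hR.Bv_comm,
          hR.Bv_congr _ (hC.trans (Sys.bar_lift c).symm)]
      rw [hB]
      rcases hw with ⟨e, e'⟩ | ⟨e, e'⟩ <;> rcases hR.B_cases z C with ⟨f, f'⟩ | ⟨f, f'⟩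
      · rw [f', zero_smul, add_zero, show w = z from Subtype.ext e, hz]
      · rw [f] at e'; exact absurd e'.symm (hR.ne_neg _)
      · rw [f] at e'; exact absurd e' (hR.ne_neg _)
      · rw [f', one_smul, show w = C * z from Subtype.ext e, bar_mul, hC, hz, add_comm]
        rfl
    have hyR : y ∈ R := by
      rcases hy with ⟨e, -⟩ | ⟨e, -⟩ <;> rw [e]
      exacts [(Sys.lift v).2, R.mul_mem B'.2 (Sys.lift v).2]
    have hwR : n * (Sys.lift v : (GL ι F)) * n⁻¹ ∈ R :=
      (Subgroup.mem_normalizer_iff.mp hn _).mp (Sys.lift v).2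
    have h1 := hstep b v B' (Sys.lift v) hBbar (Sys.bar_lift v) ⟨y, hyR⟩ hy
    have h2 := hstep a _ A' ⟨y, hyR⟩ hAbar h1 ⟨_, hwR⟩ hy'
    refine (O.conj_eq _ v _).2 ?_
    rw [← Sys.bar_lift (v + (hR.quad (le_trans (by norm_num) hk)).B v b • b + (hR.quad (le_trans (by norm_num) hk)).B (v + (hR.quad (le_trans (by norm_num) hk)).B v b • b) a • a), bar_eq] at h2
    rcases h2 with e | e
    · exact Or.inl e.symm
    · exact Or.inr (by rw [show n * (Sys.lift v : (GL ι F)) * n⁻¹ = -(_) from neg_eq_iff_eq_neg.1 e.symm]; rfl)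
  let d : Dat k (G ⧸ pmIn G) (VB R) :=
    { q := hR.quad (le_trans (by norm_num) hk)
      four := hk
      e := O.emb
      e_add := fun v w => by
        have h : Sys.lift (v + w) = Sys.lift (v + w) := rfl
        refine (O.mk_eq _ _).2 ?_
        exact bar_eq.1 (show bar (Sys.lift (v + w)) = bar (Sys.lift v * Sys.lift w) by
          rw [bar_mul, Sys.bar_lift, Sys.bar_lift, Sys.bar_lift]; rfl)
      e_inj := fun v w h => by
        have h' : bar (Sys.lift v) = bar (Sys.lift w) := bar_eq.2 ((O.mk_eq _ _).1 h)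
        rw [Sys.bar_lift, Sys.bar_lift] at h'
        exact Additive.toMul.injective h'
      cls := fun g v w h => by
        obtain ⟨⟨x, hx⟩, rfl⟩ := QuotientGroup.mk_surjective g
        show Qv (Sys.lift v) = Qv (Sys.lift w)
        have key : (Sys.lift v : (GL ι F)) * Sys.lift v = 1 ↔ (Sys.lift w : (GL ι F)) * Sys.lift w = 1 := by
          have e0 : x * (Sys.lift v : (GL ι F)) * x⁻¹ * (x * (Sys.lift v : (GL ι F)) * x⁻¹) =
              (Sys.lift w : (GL ι F)) * Sys.lift w := by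
            rcases (O.conj_eq hx v w).1 h with e | e <;> rw [e]
            rw [neg_mul_neg]
          rw [show x * (Sys.lift v : (GL ι F)) * x⁻¹ * (x * (Sys.lift v : (GL ι F)) * x⁻¹) =
            x * ((Sys.lift v : (GL ι F)) * Sys.lift v) * x⁻¹ by group] at e0
          rw [← e0, conj_eq_one_iff]
        simp only [Qv, key]
      self := fun g h => by
        obtain ⟨⟨x, hx⟩, rfl⟩ := QuotientGroup.mk_surjective g
        suffices hsig : ∀ y ∈ R, x * y * x⁻¹ = y ∨ x * y * x⁻¹ = -y by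
          obtain ⟨y, hy, c, hc⟩ := hR.signs (le_trans (by norm_num) hk) hsig
          have hxR : x ∈ R := by
            rcases O.scalar_pm _ (G.mul_mem hx (O.R_le hy)) c hc with h1 | h1
            · rw [eq_inv_of_mul_eq_one_left h1]; exact R.inv_mem hy
            · rw [eq_mul_inv_of_mul_eq h1]; exact R.mul_mem hR.neg (R.inv_mem hy)
          exact ⟨Additive.ofMul (bar ⟨x, hxR⟩), (O.emb_bar ⟨x, hxR⟩).symm⟩
        intro y hy
        have h1 := h (Additive.ofMul (bar (⟨y, hy⟩ : R)))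
        rw [O.emb_bar] at h1
        have h2 : (QuotientGroup.mk (⟨x, hx⟩ * ⟨y, O.R_le hy⟩) : G ⧸ pmIn G) =
            QuotientGroup.mk (⟨y, O.R_le hy⟩ * ⟨x, hx⟩) := h1
        rcases (O.mk_eq (G.mul_mem hx (O.R_le hy)) (G.mul_mem (O.R_le hy) hx)).1 h2 with e | e
        · exact Or.inl (by rw [← e, mul_inv_cancel_right])
        · exact Or.inr (by rw [show x * y = -(y * x) by rw [e, neg_neg], neg_mul, mul_inv_cancel_right])
      cent := fun r hr0 hrQ g hg v => by
        obtain ⟨⟨x, hx⟩, rfl⟩ := QuotientGroup.mk_surjective g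
        obtain ⟨s, hs⟩ : ∃ s : R, s = Sys.lift r := ⟨_, rfl⟩
        have hss : (s : (GL ι F)) * s = 1 := by
          rcases hR.Q_cases s with ⟨h, -⟩ | ⟨-, h⟩
          · exact h
          · rw [hs] at h; rw [show Qv (Sys.lift r) = 0 from hrQ] at h; exact absurd h zero_ne_one
        have hne : (s : (GL ι F)) ≠ 1 ∧ (s : (GL ι F)) ≠ -1 := by
          have hb : bar s ≠ bar (1 : R) := fun e => hr0 (by
            rw [hs, Sys.bar_lift] at e
            exact congrArg Additive.ofMul e)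
          constructor <;> intro e <;> apply hb <;> rw [bar_eq]
          · exact Or.inl (by simp [e])
          · exact Or.inr (by simp [e])
        have hxN : x ∈ Cfsg.Geo.subgroupNormalizer R := by
          rcases O.mul_emb hx r hg with e | e <;> rw [← hs] at e
          · exact O.loc s s.2 hss hne.1 hne.2 x hx e
          · obtain ⟨z, hz, hzs⟩ := hR.exists_anti s.2 hne.1 hne.2
            have hxz : x * z * (s : (GL ι F)) = (s : (GL ι F)) * (x * z) := by
              rw [mul_assoc, show z * (s : (GL ι F)) = -((s : (GL ι F)) * z) by rw [hzs, neg_neg], mul_neg,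
                ← mul_assoc, e, neg_mul, neg_neg, mul_assoc]
            have h := O.loc s s.2 hss hne.1 hne.2 _ (G.mul_mem hx (O.R_le hz)) hxz
            have hz' : z⁻¹ ∈ Cfsg.Geo.subgroupNormalizer R := Subgroup.le_normalizer (R.inv_mem hz)
            simpa using mul_mem h hz'
        obtain ⟨y, hy⟩ : ∃ y : R, (y : (GL ι F)) = x * (Sys.lift v : (GL ι F)) * x⁻¹ :=
          ⟨⟨_, (Subgroup.mem_normalizer_iff.mp hxN _).mp (Sys.lift v).2⟩, rfl⟩
        refine ⟨Additive.ofMul (bar y), (O.conj_eq hx v _).2 ?_⟩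
        rw [← hy]
        exact (bar_eq.1 (Sys.bar_lift (Additive.ofMul (bar y))))
      pair := fun a b ha hb => by
        obtain ⟨n, hn, hnv, hconj⟩ := hR.exists_pair_normal (Sys.lift a).2 (Sys.lift b).2 (hsq ha) (hsq hb)
        exact ⟨QuotientGroup.mk ⟨n, O.pairs _ (Sys.lift a).2 _ (Sys.lift b).2 (hsq ha) (hsq hb) n hnv⟩,
          hact a b _ n _ hn hconj (Or.inl rfl) (Or.inl rfl) _⟩
      swap := fun a b t ha hab ht htab => by
        obtain ⟨⟨x, hx⟩, rfl⟩ := QuotientGroup.mk_surjective t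
        obtain ⟨A, hA⟩ : ∃ A : R, A = Sys.lift a := ⟨_, rfl⟩
        -- the conjugate lift
        have hB : x * (A : GL ι F) * x⁻¹ ∈ R := by
          rcases (O.conj_eq hx a b).1 htab with e | e <;> rw [hA, e]
          exacts [(Sys.lift b).2, hR.neg_mem (Sys.lift b).2]
        have hbar : bar (⟨_, hB⟩ : R) = Additive.toMul b := by
          rw [← Sys.bar_lift b, bar_eq]
          show (Sys.lift b : GL ι F) = x * (A : GL ι F) * x⁻¹ ∨ (Sys.lift b : GL ι F) = -(x * (A : GL ι F) * x⁻¹)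
          rcases (O.conj_eq hx a b).1 htab with e | e <;> rw [hA, e]
          exacts [Or.inl rfl, Or.inr (neg_neg _).symm]
        have hAA : (A : GL ι F) * A = -1 := hA ▸ hsq ha
        have hBB : x * (A : GL ι F) * x⁻¹ * (x * (A : GL ι F) * x⁻¹) = -1 := by
          rw [show x * (A : GL ι F) * x⁻¹ * (x * (A : GL ι F) * x⁻¹) = x * ((A : GL ι F) * A) * x⁻¹ by group,
            hAA, mul_neg, neg_mul, mul_one, mul_inv_cancel]
        have hcomm : (A : GL ι F) * (x * A * x⁻¹) = x * A * x⁻¹ * A := by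
          rcases hR.B_cases A ⟨_, hB⟩ with ⟨e, -⟩ | ⟨-, e⟩
          · exact e
          · have e2 : Bv A (⟨_, hB⟩ : R) = 0 := by
              rw [hR.Bv_congr A (y' := Sys.lift b) (hbar.trans (Sys.bar_lift b).symm), hA]
              exact hab
            rw [e2] at e; exact absurd e zero_ne_one
        have hxx : x * x = 1 ∨ x * x = -1 := by
          have h' : (QuotientGroup.mk (⟨x, hx⟩ * ⟨x, hx⟩) : G ⧸ pmIn G) = QuotientGroup.mk ⟨1, G.one_mem⟩ := ht
          rcases (O.mk_eq (G.mul_mem hx hx) G.one_mem).1 h' with e | e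
          · exact Or.inl e.symm
          · exact Or.inr (by rw [e, neg_neg])
        obtain ⟨n, hn, hnv, hconj⟩ := hR.exists_pair_normal A.2 hB hAA hBB
        refine ⟨QuotientGroup.mk ⟨n, O.pairs _ A.2 _ hB hAA hBB n hnv⟩,
          hact a b A n (x * A * x⁻¹) hn hconj ?_ ?_ _, ?_⟩
        · exact Or.inl (by rw [hA])
        · exact bar_eq.1 ((Sys.bar_lift b).trans hbar.symm)
        have key : n * x = x * n := by
          refine Units.ext ?_
          have h1 : (x : Matrix ι ι F) * (A : GL ι F) = ((x * A * x⁻¹ : GL ι F) : Matrix ι ι F) * x := by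
            rw [← Units.val_mul, ← Units.val_mul, inv_mul_cancel_right]
          have h2 : (x : Matrix ι ι F) * ((x * A * x⁻¹ : GL ι F) : Matrix ι ι F) = ((A : GL ι F) : Matrix ι ι F) * x := by
            rw [← Units.val_mul, ← Units.val_mul]
            congr 1
            rcases hxx with e | e
            · rw [← mul_assoc, ← mul_assoc, e, one_mul, inv_eq_of_mul_eq_one_right e]
            · rw [← mul_assoc, ← mul_assoc, e, inv_eq_of_mul_eq_one_right (show x * -x = 1 by rw [mul_neg, e, neg_neg])]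
              simp
          have h3 : ((A : GL ι F) : Matrix ι ι F) * ((x * A * x⁻¹ : GL ι F) : Matrix ι ι F) =
              ((x * A * x⁻¹ : GL ι F) : Matrix ι ι F) * ((A : GL ι F) : Matrix ι ι F) := by
            rw [← Units.val_mul, hcomm, Units.val_mul]
          rw [Units.val_mul, Units.val_mul, hnv, Matrix.smul_mul, Matrix.mul_smul]
          congr 1
          generalize ((x * A * x⁻¹ : GL ι F) : Matrix ι ι F) = B at h1 h2 h3 ⊢
          generalize ((A : GL ι F) : Matrix ι ι F) = A' at h1 h2 h3 ⊢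
          simp only [mul_add, add_mul, mul_one, one_mul, ← mul_assoc, h1]
          simp only [mul_assoc, h2]
          simp only [← mul_assoc, h3]
          abel
        show (QuotientGroup.mk (⟨n, _⟩ * ⟨x, hx⟩) : G ⧸ pmIn G) = QuotientGroup.mk (⟨x, hx⟩ * ⟨n, _⟩)
        exact congrArg _ (Subtype.ext key) }
  have : Finite (G ⧸ pmIn G) := inferInstance
  intro g hg
  have hgN := d.mem_N.1 (d.normalizer_eq_top (QuotientGroup.mk ⟨g, hg⟩))
  refine mem_normalizer_of fun x hx => ?_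
  obtain ⟨w, hw⟩ := hgN (Additive.ofMul (bar (⟨x, hx⟩ : R)))
  have h1 : (QuotientGroup.mk (⟨g, hg⟩ * ⟨x, O.R_le hx⟩ * (⟨g, hg⟩ : G)⁻¹) : G ⧸ pmIn G) = O.emb w := by
    rw [show O.emb w = d.e w from rfl, ← hw]
    show _ = (QuotientGroup.mk ⟨g, hg⟩ : G ⧸ pmIn G) * O.emb _ * (QuotientGroup.mk ⟨g, hg⟩)⁻¹
    rw [O.emb_bar]; rfl
  rcases (O.mk_eq (G.mul_mem (G.mul_mem hg (O.R_le hx)) (G.inv_mem hg)) (O.R_le (Sys.lift w).2)).1 h1 with e | e
  · exact e ▸ (Sys.lift w).2
  · rw [← neg_eq_iff_eq_neg.2 e]; exact hR.neg_mem (Sys.lift w).2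

end Over

end Cfsg.Agent.C6Gen
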