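import Cfsg.Agent.EqLemmas
import Mathlib.LinearAlgebra.BilinearForm.Orthogonal
import Mathlib.Algebra.Module.ZMod
/-!
# Quadratic spaces of dimension `2k` over the field of two elements

* `QF`                  : a nondegenerate quadratic form, of either type
* `QF.exists_ns_perp`   : a nonsingular vector perpendicular to a small subspace
* `QF.pair_invariant`   : subspaces invariant under the pairs of transvections fixing a singular vector
-/

set_option autoImplicit false

namespace Cfsg.Agent.C6Gen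

open Module

theorem zmod2 : ∀ x : ZMod 2, x = 0 ∨ x = 1 := by decide

variable {k : ℕ} {V : Type*} [AddCommGroup V] [Module (ZMod 2) V]

/-- A nondegenerate quadratic form in dimension `2k` over `𝔽₂`. -/
structure QF (k : ℕ) (V : Type*) [AddCommGroup V] [Module (ZMod 2) V] where
  Q : V → ZMod 2
  B : LinearMap.BilinForm (ZMod 2) V
  polar : ∀ x y, Q (x + y) = Q x + Q y + B x y
  nondeg : ∀ x, (∀ y, B x y = 0) → x = 0
  dim : finrank (ZMod 2) V = 2 * k
  three : 3 ≤ k

namespace QF

theorem vadd_self (x : V) : x + x = 0 := ZModModule.add_self x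

theorem add_add_left (x y : V) : x + (x + y) = y := by rw [← add_assoc, vadd_self, zero_add]

theorem add_add_right (x y : V) : x + y + y = x := by rw [add_assoc, vadd_self, add_zero]

theorem eq_of_add_eq_zero' {x y : V} (h : x + y = 0) : x = y := by
  calc x = x + y + y := (add_add_right x y).symm
    _ = y := by rw [h, zero_add]

variable (q : QF k V)

theorem finite (q : QF k V) : FiniteDimensional (ZMod 2) V :=
  Module.finite_of_finrank_pos (by have := q.three; rw [q.dim]; omega)

theorem Q_zero : q.Q 0 = 0 := by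
  have h := q.polar 0 0
  simp only [add_zero, map_zero] at h
  linear_combination -h

theorem B_self (x : V) : q.B x x = 0 := by
  have h := q.polar x x
  rw [vadd_self, q.Q_zero, CharTwo.add_self_eq_zero, zero_add] at h
  exact h.symm

theorem B_comm (x y : V) : q.B x y = q.B y x := by
  have h := q.B_self (x + y)
  simp only [map_add, LinearMap.add_apply, q.B_self, zero_add, add_zero] at h
  calc q.B x y = q.B x y + (q.B y x + q.B x y) := by rw [h, add_zero]
    _ = q.B y x := by rw [add_comm (q.B y x), ← add_assoc, CharTwo.add_self_eq_zero, zero_add]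

theorem isRefl : q.B.IsRefl := fun x y h => by rw [q.B_comm]; exact h

theorem nondegenerate : q.B.Nondegenerate :=
  ⟨q.nondeg, fun x h => q.nondeg x fun y => by rw [q.B_comm]; exact h y⟩

/-- The perp. -/
def perp (W : Submodule (ZMod 2) V) : Submodule (ZMod 2) V := q.B.orthogonal W

theorem mem_perp {W : Submodule (ZMod 2) V} {x : V} : x ∈ q.perp W ↔ ∀ w ∈ W, q.B x w = 0 := by
  refine ⟨fun h w hw => ?_, fun h w hw => ?_⟩
  · rw [q.B_comm]; exact h w hw
  · show q.B w x = 0
    rw [q.B_comm]; exact h w hw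

theorem mem_perp_span {w x : V} : x ∈ q.perp (Submodule.span (ZMod 2) {w}) ↔ q.B x w = 0 := by
  rw [mem_perp]
  refine ⟨fun h => h w (Submodule.mem_span_singleton_self w), fun h z hz => ?_⟩
  obtain ⟨c, rfl⟩ := Submodule.mem_span_singleton.1 hz
  rw [map_smul, h, smul_zero]

theorem finrank_perp (W : Submodule (ZMod 2) V) :
    finrank (ZMod 2) (q.perp W) + finrank (ZMod 2) W = 2 * k := by
  have := q.finite
  have h := LinearMap.BilinForm.finrank_orthogonal q.nondegenerate W
  have h' := Submodule.finrank_le W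
  rw [q.dim] at h h'
  show finrank (ZMod 2) (q.B.orthogonal W) + _ = 2 * k
  omega

theorem perp_perp (W : Submodule (ZMod 2) V) : q.perp (q.perp W) = W := by
  have := q.finite
  refine (Submodule.eq_of_le_of_finrank_eq (fun x hx => q.mem_perp.2 fun y hy => ?_) ?_).symm
  · rw [q.B_comm]; exact q.mem_perp.1 hy x hx
  · have h1 := q.finrank_perp W
    have h2 := q.finrank_perp (q.perp W)
    omega

theorem perp_anti {W W' : Submodule (ZMod 2) V} (h : W ≤ W') : q.perp W' ≤ q.perp W :=
  fun _ hx => q.mem_perp.2 fun w hw => q.mem_perp.1 hx w (h hw)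

/-- A vector representing a functional on a subspace. -/
theorem exists_represent (L : Submodule (ZMod 2) V) (φ : L →ₗ[ZMod 2] ZMod 2) :
    ∃ e : V, ∀ l : L, q.B e l = φ l := by
  have := q.finite
  obtain ⟨ψ, hψ⟩ := LinearMap.exists_extend φ
  refine ⟨(q.B.toDual q.nondegenerate).symm ψ, fun l => ?_⟩
  rw [LinearMap.BilinForm.apply_toDual_symm_apply, ← hψ]
  rfl

include q in
theorem two_more {R W : Submodule (ZMod 2) V} (hR : R ≤ W) {y₁ y₂ : V} (h1 : y₁ ∈ W) (h2 : y₂ ∈ W)
    (n1 : y₁ ∉ R) (n2 : y₂ ∉ R) (n3 : y₁ + y₂ ∉ R) :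
    finrank (ZMod 2) R + 2 ≤ finrank (ZMod 2) W := by
  have := q.finite
  have a1 : R < R ⊔ Submodule.span (ZMod 2) {y₁} :=
    lt_of_le_of_ne le_sup_left fun h =>
      n1 (h ▸ Submodule.mem_sup_right (Submodule.mem_span_singleton_self y₁))
  have a2 : R ⊔ Submodule.span (ZMod 2) {y₁} < W := by
    refine lt_of_le_of_ne (sup_le hR (by simpa using h1)) fun h => ?_
    obtain ⟨r, hr, z, hz, hrz⟩ := Submodule.mem_sup.1 (h ▸ h2)
    obtain ⟨c, rfl⟩ := Submodule.mem_span_singleton.1 hz
    rcases zmod2 c with rfl | rfl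
    · rw [zero_smul, add_zero] at hrz; exact n2 (hrz ▸ hr)
    · rw [one_smul] at hrz
      refine n3 ?_
      rw [← hrz, add_comm r, add_add_left]; exact hr
  have := Submodule.finrank_lt_finrank_of_lt a1
  have := Submodule.finrank_lt_finrank_of_lt a2
  omega

theorem exists_singular {W : Submodule (ZMod 2) V} (hW : 3 ≤ finrank (ZMod 2) W) :
    ∃ x ∈ W, x ≠ 0 ∧ q.Q x = 0 := by
  have := q.finite
  by_contra hno
  push Not at hno
  have h1 : ∀ x ∈ W, x ≠ 0 → q.Q x = 1 := fun x hx h => (zmod2 _).resolve_left (hno x hx h)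
  obtain ⟨x, hx, hx0⟩ := W.ne_bot_iff.1 (fun h => by rw [h, finrank_bot] at hW; omega)
  have hcond : ∀ y ∈ W, y ∉ Submodule.span (ZMod 2) {x} → q.B x y = 1 := fun y hy hny => by
    have hy0 : y ≠ 0 := fun h => hny (h ▸ Submodule.zero_mem _)
    have hxy : x + y ≠ 0 := fun h =>
      hny ((eq_of_add_eq_zero' h) ▸ Submodule.mem_span_singleton_self x)
    have := q.polar x y
    rw [h1 x hx hx0, h1 y hy hy0, h1 _ (W.add_mem hx hy) hxy, CharTwo.add_self_eq_zero, zero_add] at this
    exact this.symm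
  have h3 : W ⊓ q.perp (Submodule.span (ZMod 2) {x}) ≤ Submodule.span (ZMod 2) {x} := fun y hy => by
    by_contra hny
    have := q.mem_perp_span.1 hy.2
    rw [q.B_comm, hcond y hy.1 hny] at this
    exact one_ne_zero this
  have := Submodule.finrank_mono h3
  have := finrank_span_singleton (K := ZMod 2) hx0
  have := Submodule.finrank_sup_add_finrank_inf_eq W (q.perp (Submodule.span (ZMod 2) {x}))
  have := q.finrank_perp (Submodule.span (ZMod 2) {x})
  have := Submodule.finrank_le (W ⊔ q.perp (Submodule.span (ZMod 2) {x}))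
  have := q.dim
  omega

/-! ## Isometric involutions -/

/-- An isometric involution. -/
structure IsoInv (f : V →ₗ[ZMod 2] V) : Prop where
  isom : ∀ x, q.Q (f x) = q.Q x
  invol : ∀ x, f (f x) = x

/-- The fixed space. -/
def fix (f : V →ₗ[ZMod 2] V) : Submodule (ZMod 2) V := LinearMap.ker (f + LinearMap.id)

theorem mem_fix {f : V →ₗ[ZMod 2] V} {x : V} : x ∈ fix f ↔ f x = x := by
  rw [fix, LinearMap.mem_ker, LinearMap.add_apply, LinearMap.id_apply]
  exact ⟨eq_of_add_eq_zero', fun h => by rw [h, vadd_self]⟩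

variable {q} {f : V →ₗ[ZMod 2] V}

theorem IsoInv.B_map (hf : q.IsoInv f) (x y : V) : q.B (f x) (f y) = q.B x y := by
  have h := q.polar (f x) (f y)
  rw [← map_add, hf.isom, hf.isom, hf.isom, q.polar] at h
  exact (add_left_cancel h).symm

theorem IsoInv.B_adj (hf : q.IsoInv f) (x y : V) : q.B (f x + x) y = q.B x (f y + y) := by
  rw [map_add, LinearMap.add_apply, map_add, show q.B (f x) y = q.B x (f y) by
    conv_lhs => rw [← hf.invol y]
    exact hf.B_map _ _]

theorem IsoInv.diff_perp (hf : q.IsoInv f) {x y : V} (hy : f y = y) : q.B (f x + x) y = 0 := by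
  rw [hf.B_adj, hy, vadd_self, map_zero]

theorem IsoInv.diff_fix (hf : q.IsoInv f) (x : V) : f (f x + x) = f x + x := by
  rw [map_add, hf.invol, add_comm]

theorem IsoInv.Q_diff (hf : q.IsoInv f) (x : V) : q.Q (f x + x) = q.B x (f x + x) := by
  rw [q.polar, hf.isom, CharTwo.add_self_eq_zero, zero_add, map_add, q.B_self, add_zero, q.B_comm]

theorem IsoInv.two_fix (hf : q.IsoInv f) {W : Submodule (ZMod 2) V} (hW : ∀ x ∈ W, f x ∈ W) :
    finrank (ZMod 2) W ≤ 2 * finrank (ZMod 2) (W ⊓ fix f : Submodule (ZMod 2) V) := by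
  have := q.finite
  have hr : LinearMap.range ((f + LinearMap.id).comp W.subtype) ≤ W ⊓ fix f := by
    rintro _ ⟨x, rfl⟩
    exact ⟨W.add_mem (hW _ x.2) x.2, mem_fix.2 (hf.diff_fix _)⟩
  have hk : (LinearMap.ker ((f + LinearMap.id).comp W.subtype)).map W.subtype = W ⊓ fix f := by
    rw [LinearMap.ker_comp, Submodule.map_comap_subtype]; rfl
  have h := LinearMap.finrank_range_add_finrank_ker ((f + LinearMap.id).comp W.subtype)
  have := Submodule.finrank_mono hr
  have h' := Submodule.finrank_map_subtype_eq W (LinearMap.ker ((f + LinearMap.id).comp W.subtype))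
  rw [hk] at h'
  omega

theorem IsoInv.perp_fix_le (hf : q.IsoInv f) : q.perp (fix f) ≤ fix f := by
  have := q.finite
  have hle : LinearMap.range (f + LinearMap.id) ≤ q.perp (fix f) := by
    rintro _ ⟨x, rfl⟩
    exact q.mem_perp.2 fun w hw => hf.diff_perp (mem_fix.1 hw)
  have h1 := LinearMap.finrank_range_add_finrank_ker (f + LinearMap.id)
  have h2 := q.finrank_perp (fix f)
  rw [q.dim] at h1
  change _ + finrank (ZMod 2) (fix f) = _ at h1
  rw [← Submodule.eq_of_le_of_finrank_eq hle (by omega)]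
  rintro _ ⟨x, rfl⟩
  exact mem_fix.2 (hf.diff_fix x)

variable (q)

theorem mem_perp_pair {x y z : V} :
    z ∈ q.perp (Submodule.span (ZMod 2) ({x, y} : Set V)) ↔ q.B z x = 0 ∧ q.B z y = 0 := by
  rw [q.mem_perp]
  refine ⟨fun h => ⟨h x (Submodule.subset_span (Set.mem_insert _ _)),
    h y (Submodule.subset_span (Set.mem_insert_of_mem _ rfl))⟩, fun h w hw => ?_⟩
  obtain ⟨a, b, rfl⟩ := Submodule.mem_span_pair.1 hw
  rw [map_add, map_smul, map_smul, h.1, h.2, smul_zero, smul_zero, add_zero]

omit q in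
theorem finrank_span_le_two (x y : V) :
    finrank (ZMod 2) (Submodule.span (ZMod 2) ({x, y} : Set V)) ≤ 2 := by
  classical
  refine (finrank_span_le_card _).trans ?_
  rw [Set.toFinset_insert, Set.toFinset_singleton]
  exact Finset.card_le_two

theorem two_le_perp_pair (x y : V) :
    2 * k ≤ finrank (ZMod 2) (q.perp (Submodule.span (ZMod 2) ({x, y} : Set V))) + 2 := by
  have := q.finrank_perp (Submodule.span (ZMod 2) ({x, y} : Set V))
  have := finrank_span_le_two x y
  omega

theorem isotropic_of_singular {W : Submodule (ZMod 2) V} (h : ∀ x ∈ W, q.Q x = 0) : W ≤ q.perp W :=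
  fun x hx => q.mem_perp.2 fun y hy => by
    have := q.polar x y
    rwa [h _ (W.add_mem hx hy), h x hx, h y hy, zero_add, zero_add, eq_comm] at this

theorem exists_nonsingular {W : Submodule (ZMod 2) V} (hW : k + 1 ≤ finrank (ZMod 2) W) :
    ∃ x ∈ W, q.Q x = 1 := by
  have := q.finite
  by_contra h
  push Not at h
  have := Submodule.finrank_mono (q.isotropic_of_singular fun x hx => (zmod2 _).resolve_right (h x hx))
  have := q.finrank_perp W
  omega

theorem exists_ns_perp {W : Submodule (ZMod 2) V} (hW : finrank (ZMod 2) W ≤ k) {a : V} (ha : a ∈ W)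
    (haQ : q.Q a = 1) : ∃ z ∈ q.perp W, q.Q z = 1 := by
  have := q.finite
  by_contra h
  push Not at h
  have hs : ∀ x ∈ q.perp W, q.Q x = 0 := fun x hx => (zmod2 _).resolve_right (h x hx)
  have hle := q.isotropic_of_singular hs
  rw [q.perp_perp] at hle
  have := q.finrank_perp W
  have := q.three
  have e : q.perp W = W := Submodule.eq_of_le_of_finrank_le hle (by omega)
  rw [hs a (e.symm ▸ ha)] at haQ
  exact zero_ne_one haQ

theorem exists_pair_one {r x : V} (hx : x ∉ Submodule.span (ZMod 2) {r}) :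
    ∃ c, q.B c r = 0 ∧ q.B c x = 1 := by
  by_contra h
  push Not at h
  refine hx ?_
  rw [← q.perp_perp (Submodule.span (ZMod 2) {r})]
  refine q.mem_perp.2 fun w hw => ?_
  rw [q.B_comm]
  exact (zmod2 _).resolve_right (h w (q.mem_perp_span.1 hw))

/-- A vector perpendicular to a subspace pairing to one with a vector outside it. -/
theorem exists_perp_one {W : Submodule (ZMod 2) V} {x : V} (hx : x ∉ W) :
    ∃ c ∈ q.perp W, q.B c x = 1 := by
  by_contra h
  push Not at h
  refine hx ?_
  rw [← q.perp_perp W]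
  refine q.mem_perp.2 fun w hw => ?_
  rw [q.B_comm]
  exact (zmod2 _).resolve_right (h w hw)

include q in
theorem finrank_sup_span_le (W : Submodule (ZMod 2) V) (x : V) :
    finrank (ZMod 2) (W ⊔ Submodule.span (ZMod 2) {x} : Submodule (ZMod 2) V) ≤ finrank (ZMod 2) W + 1 := by
  classical
  have := q.finite
  have := Submodule.finrank_add_le_finrank_add_finrank W (Submodule.span (ZMod 2) {x})
  have h1 : finrank (ZMod 2) (Submodule.span (ZMod 2) ({x} : Set V)) ≤ 1 := by
    refine (finrank_span_le_card _).trans ?_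
    simp
  omega

/-- A transvection. -/
def trans (a v : V) : V := v + q.B v a • a

/-- A nonsingular vector perpendicular to `r` pairing to one with `x`. -/
theorem exists_ns_pair {r x : V} (hx : x ∉ Submodule.span (ZMod 2) {r}) : ∃ a, q.Q a = 1 ∧ q.B a r = 0 ∧ q.B a x = 1 := by
  have := q.finite
  obtain ⟨c, hcr, hcx⟩ := q.exists_pair_one hx
  rcases zmod2 (q.Q c) with hc | hc
  swap
  · exact ⟨c, hc, hcr, hcx⟩
  obtain ⟨y, hy, hyQ⟩ : ∃ y ∈ Submodule.span (ZMod 2) ({r, x} : Set V) ⊔ Submodule.span (ZMod 2) {c},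
      q.Q y = 1 := by
    rcases zmod2 (q.Q x) with hx0 | hx1
    · exact ⟨x + c, add_mem (Submodule.mem_sup_left (Submodule.subset_span (Set.mem_insert_of_mem _ rfl)))
        (Submodule.mem_sup_right (Submodule.mem_span_singleton_self c)),
        by rw [q.polar, hx0, hc, q.B_comm, hcx, zero_add, zero_add]⟩
    · exact ⟨x, Submodule.mem_sup_left (Submodule.subset_span (Set.mem_insert_of_mem _ rfl)), hx1⟩
  obtain ⟨z, hz, hzQ⟩ := q.exists_ns_perp (by
    have := q.finrank_sup_span_le (Submodule.span (ZMod 2) ({r, x} : Set V)) c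
    have := finrank_span_le_two r x
    have := q.three
    omega) hy hyQ
  have hz' := q.mem_perp.1 hz
  refine ⟨c + z, ?_, ?_, ?_⟩
  · rw [q.polar, hc, hzQ, q.B_comm, hz' c (Submodule.mem_sup_right (Submodule.mem_span_singleton_self c)),
      zero_add, add_zero]
  · rw [map_add, LinearMap.add_apply, hcr,
      hz' r (Submodule.mem_sup_left (Submodule.subset_span (Set.mem_insert _ _))), add_zero]
  · rw [map_add, LinearMap.add_apply, hcx,
      hz' x (Submodule.mem_sup_left (Submodule.subset_span (Set.mem_insert_of_mem _ rfl))), add_zero]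

/-- The invariance lemma. -/
theorem pair_invariant (hk : 4 ≤ k) {r : V} (hr0 : r ≠ 0) (hr : q.Q r = 0) {D : Submodule (ZMod 2) V}
    (hrD : r ∈ D) (hinv : ∀ a b, q.Q a = 1 → q.Q b = 1 → q.B r a = 0 → q.B r b = 0 →
      ∀ x ∈ D, q.trans a (q.trans b x) ∈ D) :
    D ⊓ q.perp (Submodule.span (ZMod 2) {r}) ≤ Submodule.span (ZMod 2) {r} ∨
      q.perp (Submodule.span (ZMod 2) {r}) ≤ D := by
  have := q.finite
  refine or_iff_not_imp_left.2 fun hnot => ?_
  have step : ∀ x ∈ D, q.B x r = 0 → ∀ a, q.Q a = 1 → q.B a r = 0 → q.B a x = 1 → a ∈ D := by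
    intro x hx hxr a ha har hax
    obtain ⟨b, hb, hQb⟩ := q.exists_nonsingular
      (W := q.perp (Submodule.span (ZMod 2) ({r, x} : Set V))) (by
        have := q.two_le_perp_pair r x; omega)
    obtain ⟨hbr, hbx⟩ := q.mem_perp_pair.1 hb
    have h := hinv a b ha hQb (by rw [q.B_comm]; exact har) (by rw [q.B_comm]; exact hbr) x hx
    simp only [trans, q.B_comm x b, hbx, zero_smul, add_zero, q.B_comm x a, hax, one_smul] at h
    rw [← add_add_left x a]
    exact D.add_mem hx h
  obtain ⟨x, hx, hxn⟩ := SetLike.not_le_iff_exists.1 hnot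
  obtain ⟨a, haQ, har, hax⟩ := q.exists_ns_pair hxn
  have haD := step x hx.1 (q.mem_perp_span.1 hx.2) a haQ har hax
  have hns : ∀ z, q.Q z = 1 → q.B z r = 0 → z ∈ D := by
    intro z hzQ hzr
    rcases zmod2 (q.B z a) with h0 | h1
    swap
    · exact step a haD har z hzQ hzr h1
    by_cases hz : z ∈ Submodule.span (ZMod 2) ({r, a} : Set V)
    · exact Submodule.span_le.2 (by rintro w (rfl | rfl); exacts [hrD, haD]) hz
    have ha' : a ∉ Submodule.span (ZMod 2) {r} := fun h => by
      obtain ⟨i, rfl⟩ := Submodule.mem_span_singleton.1 h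
      rcases zmod2 i with rfl | rfl <;> simp [q.Q_zero, hr] at haQ
    obtain ⟨c1, hc1, hc1z⟩ := q.exists_perp_one hz
    obtain ⟨hc1r, hc1a⟩ := q.mem_perp_pair.1 hc1
    obtain ⟨c, hcr, hca, hcz⟩ : ∃ c, q.B c r = 0 ∧ q.B c a = 1 ∧ q.B c z = 1 := by
      obtain ⟨c0, hc0r, hc0a⟩ := q.exists_pair_one ha'
      rcases zmod2 (q.B c0 z) with h | h
      · exact ⟨c0 + c1, by simp [hc0r, hc1r], by simp [hc0a, hc1a], by simp [h, hc1z]⟩
      · exact ⟨c0, hc0r, hc0a, h⟩
    obtain ⟨w, hwQ, hwr, hwa, hwz⟩ : ∃ w, q.Q w = 1 ∧ q.B w r = 0 ∧ q.B w a = 1 ∧ q.B w z = 1 := by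
      rcases zmod2 (q.Q c) with hc | hc
      swap
      · exact ⟨c, hc, hcr, hca, hcz⟩
      obtain ⟨W, hW⟩ : ∃ W, W = Submodule.span (ZMod 2) ({r, a} : Set V) ⊔
          Submodule.span (ZMod 2) {z} ⊔ Submodule.span (ZMod 2) {c} := ⟨_, rfl⟩
      have m1 : r ∈ W := hW ▸ Submodule.mem_sup_left (Submodule.mem_sup_left
        (Submodule.subset_span (Set.mem_insert _ _)))
      have m2 : a ∈ W := hW ▸ Submodule.mem_sup_left (Submodule.mem_sup_left
        (Submodule.subset_span (Set.mem_insert_of_mem _ rfl)))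
      have m3 : z ∈ W := hW ▸ Submodule.mem_sup_left (Submodule.mem_sup_right
        (Submodule.mem_span_singleton_self z))
      have m4 : c ∈ W := hW ▸ Submodule.mem_sup_right (Submodule.mem_span_singleton_self c)
      obtain ⟨u, hu, huQ⟩ := q.exists_ns_perp (W := W) (by
        have := q.finrank_sup_span_le (Submodule.span (ZMod 2) ({r, a} : Set V) ⊔
          Submodule.span (ZMod 2) {z}) c
        have := q.finrank_sup_span_le (Submodule.span (ZMod 2) ({r, a} : Set V)) z
        have := finrank_span_le_two r a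
        rw [hW]; omega) m2 haQ
      have hu' := q.mem_perp.1 hu
      exact ⟨c + u, by rw [q.polar, hc, huQ, q.B_comm, hu' c m4, zero_add, add_zero],
        by rw [map_add, LinearMap.add_apply, hcr, hu' r m1, add_zero],
        by rw [map_add, LinearMap.add_apply, hca, hu' a m2, add_zero],
        by rw [map_add, LinearMap.add_apply, hcz, hu' z m3, add_zero]⟩
    exact step w (step a haD har w hwQ hwr hwa) hwr z hzQ hzr (by rw [q.B_comm]; exact hwz)
  intro y hy
  have hyr := q.mem_perp_span.1 hy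
  rcases zmod2 (q.Q y) with h | h
  swap
  · exact hns y h hyr
  obtain ⟨z, hz, hzQ⟩ := q.exists_nonsingular (W := q.perp (Submodule.span (ZMod 2) ({r, y} : Set V))) (by
    have := q.two_le_perp_pair r y; omega)
  obtain ⟨hzr, hzy⟩ := q.mem_perp_pair.1 hz
  rw [← add_add_right y z]
  refine D.add_mem (hns _ ?_ (by simp [hyr, hzr])) (hns z hzQ hzr)
  rw [q.polar, h, hzQ, q.B_comm, hzy, zero_add, add_zero]

end QF

end Cfsg.Agent.C6Gen
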