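import Cfsg.Agent.Lib.C6Gen.Cent
import Cfsg.Agent.Lib.C6Gen.Dim
import Cfsg.Agent.Lib.Transvect.Symp
import Cfsg.Agent.Lib.Linear.Symplectic
/-!
# Systems of minus type in symplectic groups

* `SMinus`          : an absolutely irreducible `2^{1+2k}` of minus type in `Sp`
* `exists_sframe`   : symplectic frames
* `Frame.diag_smin` : the halves are of the same kind
-/

set_option autoImplicit false
set_option linter.unusedSectionVars false

namespace Cfsg.Agent.C6Gen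

open Module Matrix

variable {F : Type*} [Field F] {k : ℕ}

/-- The properties used. -/
structure SMinus (m k : ℕ) [NeZero m] (R : Subgroup (GL (Fin m ⊕ Fin m) F)) : Prop where
  sys : Sys k R
  le : R ≤ Cfsg.spGL m F
  minus : Cfsg.Geo.IsOfMinusType k R

theorem scalar_pm_sp {m : ℕ} [NeZero m] {g : GL (Fin m ⊕ Fin m) F} (hg : g ∈ Cfsg.spGL m F) {c : F}
    (hc : (g : Matrix (Fin m ⊕ Fin m) (Fin m ⊕ Fin m) F) = c • 1) : g = 1 ∨ g = -1 := by
  have h := Transvect.mem_spGL_iff.1 hg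
  have happ : ∀ x, Transvect.app g x = c • x := fun x => by
    rw [Transvect.app_apply, hc, Matrix.smul_mulVec, Matrix.one_mulVec]
  have hf := Transvect.sympForm_isSymplectic (F := F) m
  obtain ⟨-, y, hy⟩ := hf.nondegenerate (Pi.single (Sum.inl (0 : Fin m)) 1) (by simp)
  have h1 := h (Pi.single (Sum.inl (0 : Fin m)) 1) y
  rw [happ, happ, hf.bilinear.smul_left, hf.bilinear.smul_right, ← mul_assoc] at h1
  have h2 : c * c = 1 := by
    rcases mul_eq_zero.1 (show (c * c - 1) * Cfsg.sympForm m F (Pi.single (Sum.inl (0 : Fin m)) 1) y = 0 by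
      rw [sub_mul, h1, one_mul, sub_self]) with h | h
    · exact sub_eq_zero.1 h
    · exact absurd h hy
  rcases mul_self_eq_one_iff.1 h2 with rfl | rfl
  · exact Or.inl (Units.ext (by rw [hc, one_smul, Units.val_one]))
  · exact Or.inr (Units.ext (by rw [hc, neg_one_smul, Units.val_neg, Units.val_one]))

theorem pair_mem_sp {m : ℕ} (h2 : (2 : F) ≠ 0) {R : Subgroup (GL (Fin m ⊕ Fin m) F)}
    (hle : R ≤ Cfsg.spGL m F) {a b n : GL (Fin m ⊕ Fin m) F} (ha : a ∈ R) (hb : b ∈ R) (haa : a * a = -1)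
    (hbb : b * b = -1) (hn : (n : Matrix (Fin m ⊕ Fin m) (Fin m ⊕ Fin m) F) = (2 : F)⁻¹ •
      ((1 + (a : Matrix (Fin m ⊕ Fin m) (Fin m ⊕ Fin m) F)) * (1 + (b : Matrix (Fin m ⊕ Fin m) (Fin m ⊕ Fin m) F)))) :
    n ∈ Cfsg.spGL m F := by
  rw [Transvect.mem_spGL_iff]
  intro u w
  have hf := Transvect.sympForm_isSymplectic (F := F) m
  have hstep : ∀ {a : (GL (Fin m ⊕ Fin m) F)}, a ∈ R → a * a = -1 → ∀ u w, Cfsg.sympForm m F ((1 + (a : Matrix (Fin m ⊕ Fin m) (Fin m ⊕ Fin m) F)) *ᵥ u)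
      ((1 + (a : Matrix (Fin m ⊕ Fin m) (Fin m ⊕ Fin m) F)) *ᵥ w) = 2 * Cfsg.sympForm m F u w := by
    intro a ha haa u w
    have hi : ∀ p q, Cfsg.sympForm m F ((a : Matrix (Fin m ⊕ Fin m) (Fin m ⊕ Fin m) F) *ᵥ p) ((a : Matrix (Fin m ⊕ Fin m) (Fin m ⊕ Fin m) F) *ᵥ q) = Cfsg.sympForm m F p q := fun p q => by
      have := Transvect.mem_spGL_iff.1 (hle ha) p q
      rwa [Transvect.app_apply, Transvect.app_apply] at this
    have haau : ∀ p, (a : Matrix (Fin m ⊕ Fin m) (Fin m ⊕ Fin m) F) *ᵥ ((a : Matrix (Fin m ⊕ Fin m) (Fin m ⊕ Fin m) F) *ᵥ p) = (-1 : F) • p := fun p => by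
      rw [Matrix.mulVec_mulVec, ← Units.val_mul, haa, Units.val_neg, Units.val_one, Matrix.neg_mulVec,
        Matrix.one_mulVec, neg_one_smul]
    have hcross : Cfsg.sympForm m F u ((a : Matrix (Fin m ⊕ Fin m) (Fin m ⊕ Fin m) F) *ᵥ w) + Cfsg.sympForm m F ((a : Matrix (Fin m ⊕ Fin m) (Fin m ⊕ Fin m) F) *ᵥ u) w = 0 := by
      rw [← hi u ((a : Matrix (Fin m ⊕ Fin m) (Fin m ⊕ Fin m) F) *ᵥ w), haau, hf.bilinear.smul_right]; ring
    simp only [Matrix.add_mulVec, Matrix.one_mulVec, hf.bilinear.add_left, hf.bilinear.add_right, hi]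
    linear_combination hcross
  rw [Transvect.app_apply, Transvect.app_apply, hn]
  show Cfsg.sympForm m F (((2 : F)⁻¹ • ((1 + (a : Matrix (Fin m ⊕ Fin m) (Fin m ⊕ Fin m) F)) * (1 + (b : Matrix (Fin m ⊕ Fin m) (Fin m ⊕ Fin m) F)))) *ᵥ u)
    (((2 : F)⁻¹ • ((1 + (a : Matrix (Fin m ⊕ Fin m) (Fin m ⊕ Fin m) F)) * (1 + (b : Matrix (Fin m ⊕ Fin m) (Fin m ⊕ Fin m) F)))) *ᵥ w) = _
  rw [Matrix.smul_mulVec, Matrix.smul_mulVec, hf.bilinear.smul_left, hf.bilinear.smul_right,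
    ← Matrix.mulVec_mulVec, ← Matrix.mulVec_mulVec, hstep ha haa, hstep hb hbb]
  field_simp

variable {l : ℕ}

/-- The splitting of the index set. -/
def eW (l : ℕ) : (Fin l ⊕ Fin l) ⊕ (Fin l ⊕ Fin l) ≃ Fin (l + l) ⊕ Fin (l + l) :=
  (Equiv.sumSumSumComm (Fin l) (Fin l) (Fin l) (Fin l)).trans
    (Equiv.sumCongr finSumFinEquiv finSumFinEquiv)

/-- The linear splitting. -/
def splitL (l : ℕ) : ((Fin l ⊕ Fin l → F) × (Fin l ⊕ Fin l → F)) ≃ₗ[F] (Fin (l + l) ⊕ Fin (l + l) → F) where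
  toFun z := comb (eW l) z.1 z.2
  invFun x := (x ∘ (eW l) ∘ Sum.inl, x ∘ (eW l) ∘ Sum.inr)
  map_add' z w := funext fun i => by
    simp only [comb, Function.comp, Pi.add_apply]
    rcases (eW l).symm i with k | k <;> rfl
  map_smul' c z := funext fun i => by
    simp only [comb, Function.comp, Pi.smul_apply, RingHom.id_apply]
    rcases (eW l).symm i with k | k <;> rfl
  left_inv z := by
    refine Prod.ext (funext fun k => ?_) (funext fun k => ?_) <;> simp [comb, Function.comp]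
  right_inv x := funext fun i => by
    simp only [comb, Function.comp]
    conv_rhs => rw [← (eW l).apply_symm_apply i]
    rcases (eW l).symm i with k | k <;> rfl

theorem form_comb (a b a' b' : (Fin l ⊕ Fin l → F)) : (Cfsg.sympForm (l + l) F) (comb (eW l) a b) (comb (eW l) a' b') = (Cfsg.sympForm l F) a a' + (Cfsg.sympForm l F) b b' := by
  simp only [Linear.sympForm_eq_sum, Fin.sum_univ_add]
  have h1 : ∀ i : Fin l, (eW l).symm (Sum.inl (Fin.castAdd l i)) = Sum.inl (Sum.inl i) ∧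
      (eW l).symm (Sum.inr (Fin.castAdd l i)) = Sum.inl (Sum.inr i) ∧
      (eW l).symm (Sum.inl (Fin.natAdd l i)) = Sum.inr (Sum.inl i) ∧
      (eW l).symm (Sum.inr (Fin.natAdd l i)) = Sum.inr (Sum.inr i) := fun i => by
    refine ⟨?_, ?_, ?_, ?_⟩ <;> rw [Equiv.symm_apply_eq] <;>
      simp only [eW, Equiv.trans_apply, Equiv.sumSumSumComm, Equiv.sumCongr_apply] <;> rfl
  congr 1 <;> refine Finset.sum_congr rfl fun i _ => ?_ <;>
    simp only [comb, Function.comp, (h1 i).1, (h1 i).2.1, (h1 i).2.2.1, (h1 i).2.2.2, Sum.elim_inl, Sum.elim_inr]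

theorem exists_anti_invol [NeZero l] [NeZero (l + l)] {R : Subgroup (GL (Fin (l + l) ⊕ Fin (l + l)) F)} (hR : SMinus (l + l) (k + 1) R) {r : (GL (Fin (l + l) ⊕ Fin (l + l)) F)} (hr : r ∈ R) (hrr : r * r = 1)
    (h1 : r ≠ 1) (h2 : r ≠ -1) : ∃ v ∈ R, v * v = 1 ∧ r * v = -(v * r) := by
  obtain ⟨x, hx, hrx⟩ := hR.sys.exists_anti hr h1 h2
  have hxr : x * r = -(r * x) := by rw [hrx, neg_neg]
  rcases hR.sys.sq x hx with h | h
  · exact ⟨x, hx, h, hrx⟩
  · refine ⟨x * r, R.mul_mem hx hr, ?_, ?_⟩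
    · calc x * r * (x * r) = x * (r * x) * r := by simp only [mul_assoc]
        _ = -(x * x * (r * r)) := by rw [hrx]; simp only [mul_neg, neg_mul, mul_assoc]
        _ = 1 := by rw [h, hrr, mul_one, neg_neg]
    · rw [← mul_assoc, hrx, neg_mul, mul_assoc]

theorem exists_sframe [NeZero l] [NeZero (l + l)] {R : Subgroup (GL (Fin (l + l) ⊕ Fin (l + l)) F)} (hR : SMinus (l + l) (k + 1) R) {r : (GL (Fin (l + l) ⊕ Fin (l + l)) F)} (hr : r ∈ R) (hrr : r * r = 1)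
    (h1 : r ≠ 1) (h2 : r ≠ -1) : ∃ φ : Frame (eW l) R r, φ.P ∈ Cfsg.spGL (l + l) F := by
  classical
  obtain ⟨v, hv, hvv, hrv⟩ := exists_anti_invol hR hr hrr h1 h2
  have hf := Transvect.sympForm_isSymplectic (F := F) (l + l)
  have hf4 := Transvect.sympForm_isSymplectic (F := F) l
  have hb := hf.bilinear
  have hri := Transvect.mem_spGL_iff.1 (hR.le hr)
  have hvi := Transvect.mem_spGL_iff.1 (hR.le hv)
  obtain ⟨ρ, hρ⟩ : ∃ ρ : (Fin (l + l) ⊕ Fin (l + l) → F) →ₗ[F] (Fin (l + l) ⊕ Fin (l + l) → F), ρ = (Transvect.app r).toLinearMap := ⟨_, rfl⟩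
  obtain ⟨ν, hν⟩ : ∃ ν : (Fin (l + l) ⊕ Fin (l + l) → F) →ₗ[F] (Fin (l + l) ⊕ Fin (l + l) → F), ν = (Transvect.app v).toLinearMap := ⟨_, rfl⟩
  have hρρ : ∀ x, ρ (ρ x) = x := fun x => by
    rw [hρ]; show Transvect.app r (Transvect.app r x) = x
    rw [← LinearEquiv.mul_apply, ← map_mul, hrr, map_one]; rfl
  have hνν : ∀ x, ν (ν x) = x := fun x => by
    rw [hν]; show Transvect.app v (Transvect.app v x) = x
    rw [← LinearEquiv.mul_apply, ← map_mul, hvv, map_one]; rfl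
  have hρν : ∀ x, ρ (ν x) = -(ν (ρ x)) := fun x => by
    rw [hρ, hν]
    show Transvect.app r (Transvect.app v x) = -(Transvect.app v (Transvect.app r x))
    rw [← LinearEquiv.mul_apply, ← map_mul, hrv, Transvect.app_apply, Units.val_neg, Matrix.neg_mulVec,
      ← Transvect.app_apply, map_mul, LinearEquiv.mul_apply]
  have hρi : ∀ x y, (Cfsg.sympForm (l + l) F) (ρ x) (ρ y) = (Cfsg.sympForm (l + l) F) x y := fun x y => by rw [hρ]; exact hri x y
  have hνi : ∀ x y, (Cfsg.sympForm (l + l) F) (ν x) (ν y) = (Cfsg.sympForm (l + l) F) x y := fun x y => by rw [hν]; exact hvi x y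
  obtain ⟨U, hU⟩ : ∃ U : Submodule F (Fin (l + l) ⊕ Fin (l + l) → F), U = LinearMap.ker (ρ - LinearMap.id) := ⟨_, rfl⟩
  have hmem : ∀ {x}, x ∈ U ↔ ρ x = x := fun {x} => by
    rw [hU, LinearMap.mem_ker, LinearMap.sub_apply, sub_eq_zero]; rfl
  obtain ⟨U', hU'⟩ : ∃ U' : Submodule F (Fin (l + l) ⊕ Fin (l + l) → F), U' = LinearMap.ker (ρ + LinearMap.id) := ⟨_, rfl⟩
  have hmem' : ∀ {x}, x ∈ U' ↔ ρ x = -x := fun {x} => by
    rw [hU', LinearMap.mem_ker, LinearMap.add_apply, add_eq_zero_iff_eq_neg]; rfl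
  have hhalf : ∀ x, (2 : F)⁻¹ • (x + ρ x) ∈ U ∧ (2 : F)⁻¹ • (x - ρ x) ∈ U' := fun x => by
    refine ⟨hmem.2 ?_, hmem'.2 ?_⟩
    · rw [map_smul, map_add, hρρ, add_comm x]
    · rw [map_smul, map_sub, hρρ, ← smul_neg, neg_sub]
  have hdis : U ⊓ U' = ⊥ := by
    rw [Submodule.eq_bot_iff]
    rintro x ⟨hx, hx'⟩
    have e : x = -x := (hmem.1 hx).symm.trans (hmem'.1 hx')
    have : (2 : F) • x = 0 := by rw [two_smul]; nth_rewrite 2 [e]; exact add_neg_cancel x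
    exact (smul_eq_zero.1 this).resolve_left hR.sys.two
  have hsup : U ⊔ U' = ⊤ := by
    refine eq_top_iff.2 fun x _ => ?_
    have : (2 : F)⁻¹ • (x + ρ x) + (2 : F)⁻¹ • (x - ρ x) = x := by
      rw [← smul_add, show x + ρ x + (x - ρ x) = (2 : F) • x by rw [two_smul]; abel, smul_smul,
        inv_mul_cancel₀ hR.sys.two, one_smul]
    exact this ▸ Submodule.add_mem_sup (hhalf x).1 (hhalf x).2
  have hrank : finrank F U = l + l := by
    have h8 := Submodule.finrank_sup_add_finrank_inf_eq U U'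
    rw [hsup, hdis, finrank_top, finrank_bot, Module.finrank_pi, Fintype.card_sum, Fintype.card_fin] at h8
    have e1 : U.map ν ≤ U' := by
      rintro _ ⟨x, hx, rfl⟩
      rw [hmem', hρν, hmem.1 hx]
    have e2 : U'.map ν ≤ U := by
      rintro _ ⟨x, hx, rfl⟩
      rw [hmem, hρν, hmem'.1 hx, map_neg, neg_neg]
    have i1 : Function.Injective ν := Function.LeftInverse.injective hνν
    have := (Submodule.equivMapOfInjective ν i1 U).finrank_eq
    have := (Submodule.equivMapOfInjective ν i1 U').finrank_eq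
    have := Submodule.finrank_mono e1
    have := Submodule.finrank_mono e2
    omega
  have hnd : Cfsg.Geo.IsNondegenerateOn (Cfsg.sympForm (l + l) F) U := by
    intro x hx hx0
    obtain ⟨⟨y, hy⟩, ⟨y', hy'⟩⟩ := hf.nondegenerate x hx0
    refine ⟨⟨_, (hhalf y).1, ?_⟩, ⟨_, (hhalf y').1, ?_⟩⟩
    · have e : (Cfsg.sympForm (l + l) F) (ρ y) x = (Cfsg.sympForm (l + l) F) y x := by conv_lhs => rw [← hmem.1 hx, hρi]
      rw [hb.smul_left, hb.add_left, e, ← two_mul, ← mul_assoc, inv_mul_cancel₀ hR.sys.two, one_mul]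
      exact hy
    · have e : (Cfsg.sympForm (l + l) F) x (ρ y') = (Cfsg.sympForm (l + l) F) x y' := by conv_lhs => rw [← hmem.1 hx, hρi]
      rw [hb.smul_right, hb.add_right, e, ← two_mul, ← mul_assoc, inv_mul_cancel₀ hR.sys.two, one_mul]
      exact hy'
  obtain ⟨W0, hW0⟩ : ∃ W0 : Submodule F (Fin (l + l) ⊕ Fin (l + l) → F),
      W0 = LinearMap.range ((splitL (F := F) l).toLinearMap ∘ₗ LinearMap.inl F (Fin l ⊕ Fin l → F) (Fin l ⊕ Fin l → F)) := ⟨_, rfl⟩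
  have hW0rank : finrank F W0 = l + l := by
    rw [hW0, LinearMap.finrank_range_of_inj]
    · rw [Module.finrank_pi, Fintype.card_sum, Fintype.card_fin]
    · exact (splitL (F := F) l).injective.comp LinearMap.inl_injective
  have hzero : (Cfsg.sympForm l F) (0 : (Fin l ⊕ Fin l → F)) (0 : (Fin l ⊕ Fin l → F)) = 0 := hf4.alternating 0
  have hW0nd : Cfsg.Geo.IsNondegenerateOn (Cfsg.sympForm (l + l) F) W0 := by
    subst hW0
    rintro _ ⟨a, rfl⟩ hne
    have ha : a ≠ 0 := fun h => hne (by subst h; exact map_zero _)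
    obtain ⟨⟨b, hb'⟩, ⟨c, hc⟩⟩ := hf4.nondegenerate a ha
    refine ⟨⟨_, ⟨b, rfl⟩, ?_⟩, ⟨_, ⟨c, rfl⟩, ?_⟩⟩
    · show (Cfsg.sympForm (l + l) F) (comb (eW l) b 0) (comb (eW l) a 0) ≠ 0
      rw [form_comb, hzero, add_zero]; exact hb'
    · show (Cfsg.sympForm (l + l) F) (comb (eW l) a 0) (comb (eW l) c 0) ≠ 0
      rw [form_comb, hzero, add_zero]; exact hc
  obtain ⟨φ, hφ, hφi⟩ := Transvect.exists_isometry hf (l + l) W0 U hW0rank hrank hW0nd hnd
  obtain ⟨κ, hκ⟩ : ∃ κ : (Fin l ⊕ Fin l → F) →ₗ[F] (Fin (l + l) ⊕ Fin (l + l) → F),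
      κ = φ ∘ₗ (splitL (F := F) l).toLinearMap ∘ₗ LinearMap.inl F (Fin l ⊕ Fin l → F) (Fin l ⊕ Fin l → F) := ⟨_, rfl⟩
  have hmem0 : ∀ a, comb (eW l) a (0 : (Fin l ⊕ Fin l → F)) ∈ W0 := fun a => hW0 ▸ ⟨a, rfl⟩
  have hκU : ∀ a, κ a ∈ U := fun a => by rw [hκ]; exact hφ _ (hmem0 a)
  have hκi : ∀ a b, (Cfsg.sympForm (l + l) F) (κ a) (κ b) = (Cfsg.sympForm l F) a b := fun a b => by
    rw [hκ]
    show (Cfsg.sympForm (l + l) F) (φ (comb (eW l) a 0)) (φ (comb (eW l) b 0)) = _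
    rw [hφi _ (hmem0 a) _ (hmem0 b), form_comb, hzero, add_zero]
  obtain ⟨L, hL⟩ : ∃ L : (Fin (l + l) ⊕ Fin (l + l) → F) →ₗ[F] (Fin (l + l) ⊕ Fin (l + l) → F),
      L = (κ ∘ₗ LinearMap.fst F (Fin l ⊕ Fin l → F) (Fin l ⊕ Fin l → F) + ν ∘ₗ κ ∘ₗ LinearMap.snd F (Fin l ⊕ Fin l → F) (Fin l ⊕ Fin l → F)) ∘ₗ
        (splitL (F := F) l).symm.toLinearMap := ⟨_, rfl⟩
  have hLc : ∀ a b, L (comb (eW l) a b) = κ a + ν (κ b) := fun a b => by
    rw [hL]
    show κ ((splitL (F := F) l).symm (splitL l (a, b))).1 + ν (κ ((splitL (F := F) l).symm (splitL l (a, b))).2) = _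
    rw [LinearEquiv.symm_apply_apply]
  have hsurj : ∀ x : (Fin (l + l) ⊕ Fin (l + l) → F), ∃ a b, x = comb (eW l) a b := fun x =>
    ⟨_, _, ((splitL (F := F) l).apply_symm_apply x).symm⟩
  have hLi : ∀ x y, (Cfsg.sympForm (l + l) F) (L x) (L y) = (Cfsg.sympForm (l + l) F) x y := fun x y => by
    obtain ⟨a, b, rfl⟩ := hsurj x
    obtain ⟨a', b', rfl⟩ := hsurj y
    have c0 : ∀ p q, (Cfsg.sympForm (l + l) F) (κ p) (ν (κ q)) = 0 ∧ (Cfsg.sympForm (l + l) F) (ν (κ q)) (κ p) = 0 := fun p q => by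
      have u := hmem.1 (hκU p)
      have w : ρ (ν (κ q)) = -(ν (κ q)) := by rw [hρν, hmem.1 (hκU q)]
      constructor
      · have e := hρi (κ p) (ν (κ q))
        rw [u, w, ← neg_one_smul F (ν (κ q)), hb.smul_right, neg_one_mul] at e
        exact (mul_eq_zero.1 (show 2 * (Cfsg.sympForm (l + l) F) (κ p) (ν (κ q)) = 0 by linear_combination -e)).resolve_left hR.sys.two
      · have e := hρi (ν (κ q)) (κ p)
        rw [u, w, ← neg_one_smul F (ν (κ q)), hb.smul_left, neg_one_mul] at e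
        exact (mul_eq_zero.1 (show 2 * (Cfsg.sympForm (l + l) F) (ν (κ q)) (κ p) = 0 by linear_combination -e)).resolve_left hR.sys.two
    rw [hLc, hLc, form_comb]
    simp only [hb.add_left, hb.add_right, (c0 _ _).1, (c0 _ _).2, hνi, hκi, add_zero, zero_add]
  have hinj : Function.Injective (fun x : (Fin (l + l) ⊕ Fin (l + l) → F) => (LinearMap.toMatrix' L) *ᵥ x) := by
    intro x y h
    simp only at h
    rw [LinearMap.toMatrix'_mulVec, LinearMap.toMatrix'_mulVec] at h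
    by_contra hne
    obtain ⟨⟨z, hz⟩, -⟩ := hf.nondegenerate (x - y) (sub_ne_zero.2 hne)
    apply hz
    have hsub : ∀ z, (Cfsg.sympForm (l + l) F) z (x - y) = (Cfsg.sympForm (l + l) F) z x - (Cfsg.sympForm (l + l) F) z y := fun z => by
      rw [sub_eq_add_neg, ← neg_one_smul F y, hb.add_right, hb.smul_right]; ring
    rw [hsub, ← hLi z x, ← hLi z y, h, sub_self]
  obtain ⟨P, hP⟩ : ∃ P : (GL (Fin (l + l) ⊕ Fin (l + l)) F), (P : (Matrix (Fin (l + l) ⊕ Fin (l + l)) (Fin (l + l) ⊕ Fin (l + l)) F)) = LinearMap.toMatrix' L :=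
    ⟨(Matrix.mulVec_injective_iff_isUnit.1 hinj).unit, rfl⟩
  have hPap : ∀ x, (P : (Matrix (Fin (l + l) ⊕ Fin (l + l)) (Fin (l + l) ⊕ Fin (l + l)) F)) *ᵥ x = L x := fun x => by rw [hP, LinearMap.toMatrix'_mulVec]
  refine ⟨⟨P, v, hv, hvv, ?_, ?_⟩, ?_⟩
  · refine Matrix.ext_iff_mulVec.2 fun x => ?_
    obtain ⟨a, b, rfl⟩ := hsurj x
    rw [← Matrix.mulVec_mulVec, ← Matrix.mulVec_mulVec, blocks_mulVec, hPap, hPap, hLc, hLc]
    simp only [Matrix.one_mulVec, Matrix.zero_mulVec, Matrix.neg_mulVec, add_zero, zero_add,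
      ← Transvect.app_apply]
    show Transvect.app r _ = _
    rw [show Transvect.app r (κ a + ν (κ b)) = ρ (κ a + ν (κ b)) by rw [hρ]; rfl, map_add, hρν,
      hmem.1 (hκU a), hmem.1 (hκU b), map_neg, map_neg]
  · refine Matrix.ext_iff_mulVec.2 fun x => ?_
    obtain ⟨a, b, rfl⟩ := hsurj x
    rw [← Matrix.mulVec_mulVec, ← Matrix.mulVec_mulVec, blocks_mulVec, hPap, hPap, hLc, hLc]
    simp only [Matrix.one_mulVec, Matrix.zero_mulVec, add_zero, zero_add, ← Transvect.app_apply]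
    show Transvect.app v _ = _
    rw [show Transvect.app v (κ a + ν (κ b)) = ν (κ a + ν (κ b)) by rw [hν]; rfl, map_add, hνν,
      add_comm (ν (κ a))]
  · rw [Transvect.mem_spGL_iff]
    intro x y
    rw [Transvect.app_apply, Transvect.app_apply, hPap, hPap, hLi]

theorem minus_bound {ι : Type} [Fintype ι] [DecidableEq ι] {R : Subgroup (GL ι F)} [Finite R] {j : ℕ}
    (hm : Cfsg.Geo.IsOfMinusType j R) (A : Set R) (h1 : (1 : R) ∈ A) (hmul : ∀ x ∈ A, ∀ y ∈ A, x * y ∈ A)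
    (hc : ∀ x ∈ A, ∀ y ∈ A, (x : GL ι F) * y = y * x) (hs : ∀ x ∈ A, (x : GL ι F) * x = 1) :
    A.ncard < 2 ^ (j + 1) := by
  let S : Subgroup R :=
    { carrier := A
      one_mem' := h1
      mul_mem' := fun {x y} hx hy => hmul x hx y hy
      inv_mem' := fun {x} hx => by
        rwa [inv_eq_of_mul_eq_one_right (show x * x = 1 from Subtype.ext (hs x hx))] }
  have := hm S ⟨⟨fun x y => Subtype.ext (Subtype.ext (hc x x.2 y y.2))⟩⟩
    fun x hx => Subtype.ext (hs x hx)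
  rwa [← SetLike.coe_sort_coe, Nat.card_coe_set_eq] at this

namespace Frame

variable [NeZero l] [NeZero (l + l)] {R : Subgroup (GL (Fin (l + l) ⊕ Fin (l + l)) F)} {r : GL (Fin (l + l) ⊕ Fin (l + l)) F}
  (φ : Frame (eW l) R r) (hPs : φ.P ∈ Cfsg.spGL (l + l) F)
include hPs

theorem j_mem {a b : (GL (Fin l ⊕ Fin l) F)} (ha : a ∈ Cfsg.spGL l F) (hb : b ∈ Cfsg.spGL l F) :
    φ.j (a, b) ∈ Cfsg.spGL (l + l) F := by
  refine (Cfsg.spGL (l + l) F).mul_mem ((Cfsg.spGL (l + l) F).mul_mem hPs ?_) ((Cfsg.spGL (l + l) F).inv_mem hPs)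
  rw [Transvect.mem_spGL_iff]
  intro x y
  obtain ⟨⟨x1, x2⟩, rfl⟩ := (splitL (F := F) l).surjective x
  obtain ⟨⟨y1, y2⟩, rfl⟩ := (splitL (F := F) l).surjective y
  show (Cfsg.sympForm (l + l) F) (Transvect.app _ (comb (eW l) x1 x2)) (Transvect.app _ (comb (eW l) y1 y2)) = (Cfsg.sympForm (l + l) F) (comb (eW l) x1 x2) (comb (eW l) y1 y2)
  rw [Transvect.app_apply, Transvect.app_apply, blkGL_val, blocks_mulVec, blocks_mulVec, form_comb,
    form_comb]
  simp only [Matrix.zero_mulVec, add_zero, zero_add]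
  have e1 := Transvect.mem_spGL_iff.1 ha x1 y1
  have e2 := Transvect.mem_spGL_iff.1 hb x2 y2
  rw [Transvect.app_apply, Transvect.app_apply] at e1 e2
  rw [e1, e2]

theorem sp_of_j {a b : (GL (Fin l ⊕ Fin l) F)} (h : φ.j (a, b) ∈ Cfsg.spGL (l + l) F) :
    a ∈ Cfsg.spGL l F ∧ b ∈ Cfsg.spGL l F := by
  have h' : blkGL (eW l) (a, b) ∈ Cfsg.spGL (l + l) F := by
    have := (Cfsg.spGL (l + l) F).mul_mem ((Cfsg.spGL (l + l) F).mul_mem ((Cfsg.spGL (l + l) F).inv_mem hPs) h) hPs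
    convert this using 1
    show _ = φ.P⁻¹ * (φ.P * blkGL (eW l) (a, b) * φ.P⁻¹) * φ.P
    group
  have hi := Transvect.mem_spGL_iff.1 h'
  have hz : (Cfsg.sympForm l F) (0 : (Fin l ⊕ Fin l → F)) (0 : (Fin l ⊕ Fin l → F)) = 0 := (Transvect.sympForm_isSymplectic l).alternating 0
  constructor <;> rw [Transvect.mem_spGL_iff] <;> intro x y
  · have e := hi (comb (eW l) x 0) (comb (eW l) y 0)
    rw [Transvect.app_apply, Transvect.app_apply, blkGL_val, blocks_mulVec, blocks_mulVec, form_comb,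
      form_comb] at e
    rw [Transvect.app_apply, Transvect.app_apply]
    simpa [hz] using e
  · have e := hi (comb (eW l) 0 x) (comb (eW l) 0 y)
    rw [Transvect.app_apply, Transvect.app_apply, blkGL_val, blocks_mulVec, blocks_mulVec, form_comb,
      form_comb] at e
    rw [Transvect.app_apply, Transvect.app_apply]
    simpa [hz] using e

variable (hR : SMinus (l + l) (k + 1) R) (hr : r ∈ R)
include hR hr

omit hPs in
theorem diag_isMinus : Cfsg.Geo.IsOfMinusType k φ.diag := by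
  classical
  intro A hA hA2
  by_contra hlt
  have hfin := hR.sys.finiteR
  have hc := hA.is_comm.comm
  have hneq : ∀ a : (GL (Fin l ⊕ Fin l) F), a ≠ -a := fun a => (fun h => hR.sys.ne_neg (φ.j (a, a)) (by rw [← φ.j_neg, ← h]))
  obtain ⟨S, hS⟩ : ∃ S : Set R,
      S = {x : R | ∃ a ∈ A, ∃ i : Bool, (x : (GL (Fin (l + l) ⊕ Fin (l + l)) F)) = φ.j (((a : φ.diag) : (GL (Fin l ⊕ Fin l) F)), bif i then -((a : φ.diag) : (GL (Fin l ⊕ Fin l) F)) else ((a : φ.diag) : (GL (Fin l ⊕ Fin l) F)))} :=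
    ⟨_, rfl⟩
  have hab : ∀ a ∈ A, ∀ b ∈ A, ((a : φ.diag) : (GL (Fin l ⊕ Fin l) F)) * (b : φ.diag) = (b : φ.diag) * (a : φ.diag) :=
    fun a ha b hb => congrArg (fun z : A => ((z : φ.diag) : (GL (Fin l ⊕ Fin l) F))) (hc ⟨a, ha⟩ ⟨b, hb⟩)
  have haa : ∀ a ∈ A, ((a : φ.diag) : (GL (Fin l ⊕ Fin l) F)) * (a : φ.diag) = 1 := fun a ha =>
    congrArg Subtype.val (hA2 a ha)
  have hlt' : S.ncard < 2 ^ (k + 2) := by
    refine minus_bound hR.minus S ?_ ?_ ?_ ?_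
    · rw [hS]; exact ⟨1, A.one_mem, false, φ.j_one.symm⟩
    · rw [hS]
      rintro x ⟨a, ha, i, hx⟩ y ⟨b, hb, k, hy⟩
      refine ⟨a * b, A.mul_mem ha hb, xor i k, ?_⟩
      rw [Subgroup.coe_mul, hx, hy, j_mul]
      cases i <;> cases k <;> simp
    · rw [hS]
      rintro x ⟨a, ha, i, hx⟩ y ⟨b, hb, k, hy⟩
      rw [hx, hy, j_mul, j_mul, hab a ha b hb]
      cases i <;> cases k <;> simp [hab a ha b hb]
    · rw [hS]
      rintro x ⟨a, ha, i, hx⟩
      rw [hx, j_mul, haa a ha, ← j_one φ]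
      cases i <;> simp [haa a ha]
  have hrj : φ.j ((1 : (GL (Fin l ⊕ Fin l) F)), (-1 : (GL (Fin l ⊕ Fin l) F))) ∈ R := φ.r_val ▸ hr
  let ψ : A × Bool → S := fun z =>
    ⟨⟨φ.j (((z.1 : φ.diag) : (GL (Fin l ⊕ Fin l) F)), bif z.2 then -((z.1 : φ.diag) : (GL (Fin l ⊕ Fin l) F)) else ((z.1 : φ.diag) : (GL (Fin l ⊕ Fin l) F))), by
      cases z.2
      · exact (z.1 : φ.diag).2
      · have := R.mul_mem (z.1 : φ.diag).2 hrj
        rw [dbl_apply, j_mul] at this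
        simpa using this⟩, by rw [hS]; exact ⟨z.1, z.1.2, z.2, rfl⟩⟩
  have hinj : Function.Injective ψ := by
    rintro ⟨a, i⟩ ⟨b, k⟩ h
    obtain ⟨e1, e2⟩ := φ.j_inj (congrArg (fun z : S => ((z : R) : (GL (Fin (l + l) ⊕ Fin (l + l)) F))) h)
    obtain rfl : a = b := Subtype.ext (Subtype.ext e1)
    cases i <;> cases k <;> simp at e2 ⊢
    exacts [hneq _ e2, hneq _ e2.symm]
  have := Nat.card_le_card_of_injective ψ hinj
  rw [Nat.card_prod, Nat.card_eq_fintype_card (α := Bool), Fintype.card_bool, Nat.card_coe_set_eq] at this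
  rw [pow_succ] at hlt
  rw [pow_succ, pow_succ] at hlt'
  omega

theorem diag_smin : SMinus l k φ.diag :=
  ⟨φ.diag_sys hR.sys hr, fun _ ha => (φ.sp_of_j hPs (hR.le ha)).1, φ.diag_isMinus hR hr⟩

end Frame

end Cfsg.Agent.C6Gen
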