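import Cfsg.Agent.Lib.C6Gen.Symp
import Cfsg.Agent.Lib.C6Minus.Main
import Cfsg.Agent.S5647
/-!
# Normalisers of systems of minus type are maximal in symplectic groups

* `SMinus.maximal`
-/

set_option autoImplicit false
set_option linter.unusedSectionVars false

namespace Cfsg.Agent.C6Gen

open Module Matrix Equiv

variable {F : Type*} [Field F] [Fintype F] {k : ℕ}

/-- In a frame, the projection of an overgroup is proper. -/
theorem not_full {l : ℕ} [NeZero l] [NeZero (l + l)] (hl2 : 2 ≤ l) (hk : 3 ≤ k)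
    {R G : Subgroup (GL (Fin (l + l) ⊕ Fin (l + l)) F)} (hR : SMinus (l + l) (k + 1) R)
    (hGS : G ≤ Cfsg.spGL (l + l) F)
    (hNG : Cfsg.Geo.subgroupNormalizer R ⊓ Cfsg.spGL (l + l) F ≤ G) (hproper : ¬ Cfsg.spGL (l + l) F ≤ G)
    {r : GL (Fin (l + l) ⊕ Fin (l + l)) F} (φ : Frame (eW l) R r) (hPs : φ.P ∈ Cfsg.spGL (l + l) F)
    (hr : r ∈ R) : ¬ ∀ a ∈ Cfsg.spGL l F, ∃ b, φ.j (a, b) ∈ G := by
  classical
  intro hfull
  have hP := φ.diag_smin hPs hR hr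
  have hdle := hP.le
  have hvG : φ.v ∈ G := hNG ⟨Subgroup.le_normalizer φ.v_mem, hR.le φ.v_mem⟩
  -- a noncentral member with square `-1`
  obtain ⟨c, hc, b0, hb0, hcc, hcb⟩ : ∃ c ∈ φ.diag, ∃ b ∈ φ.diag, c * c = -1 ∧ c * b = -(b * c) := by
    letI := hP.sys.addCommGroup
    letI := hP.sys.module2
    obtain ⟨γ, -, hγ⟩ := (hP.sys.quad hk).exists_nonsingular (W := ⊤) (by
      rw [finrank_top, (hP.sys.quad hk).dim]; omega)
    rcases hP.sys.Q_cases (Sys.lift γ) with ⟨-, h⟩ | ⟨h, -⟩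
    · rw [show Qv (Sys.lift γ) = 1 from hγ] at h; exact absurd h one_ne_zero
    obtain ⟨b, hb, hcb⟩ := hP.sys.exists_anti (Sys.lift γ).2
      (fun e => hP.sys.one_ne_neg (by rw [e, one_mul] at h; exact h))
      (fun e => hP.sys.one_ne_neg (by rw [e, neg_mul_neg, one_mul] at h; exact h))
    exact ⟨_, (Sys.lift γ).2, b, hb, h, hcb⟩
  have hhalf1 : φ.j (c, 1) ∈ G := by
    have h1 := hNG ⟨φ.half_normal hR.sys hr hc, φ.j_mem hPs (one_mem _) (hdle hc)⟩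
    exact φ.j_swap 1 c ▸ G.mul_mem (G.mul_mem hvG h1) hvG
  -- the kernel is everything
  let inl : Cfsg.spGL l F →* (GL (Fin (l + l) ⊕ Fin (l + l)) F) := φ.j.comp ((Cfsg.spGL l F).subtype.prod 1)
  have hN : (G.comap inl).Normal := by
    refine ⟨fun x hx g => ?_⟩
    obtain ⟨d, hd⟩ := hfull g g.2
    have h := G.mul_mem (G.mul_mem hd hx) (G.inv_mem hd)
    show φ.j (((g * x * g⁻¹ : Cfsg.spGL l F) : (GL (Fin l ⊕ Fin l) F)), 1) ∈ G
    have e : φ.j ((g : (GL (Fin l ⊕ Fin l) F)), d) * inl x * (φ.j ((g : (GL (Fin l ⊕ Fin l) F)), d))⁻¹ =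
        φ.j (((g * x * g⁻¹ : Cfsg.spGL l F) : (GL (Fin l ⊕ Fin l) F)), 1) := by
      show _ * φ.j ((x : (GL (Fin l ⊕ Fin l) F)), 1) * _ = _
      rw [φ.j_inv, φ.j_mul, φ.j_mul]; simp
    rw [e] at h
    exact h
  have htop : G.comap inl = ⊤ := by
    refine C6Minus.spGL_normal_top (x := ⟨c, hdle hc⟩) hl2 hR.sys.two _
      hhalf1 fun h => ?_
    have e := congrArg Subtype.val (Subgroup.mem_center_iff.1 h ⟨b0, hdle hb0⟩)
    simp only [Subgroup.coe_mul] at e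
    rw [hcb] at e
    exact hP.sys.ne_neg _ e
  have hall : ∀ a ∈ Cfsg.spGL l F, φ.j (a, 1) ∈ G := fun a ha => by
    have : (⟨a, ha⟩ : Cfsg.spGL l F) ∈ G.comap inl := by rw [htop]; trivial
    exact this
  have hcent : ∀ g ∈ Cfsg.spGL (l + l) F, g * r = r * g → g ∈ G := fun g hg hgr => by
    obtain ⟨a, b, rfl⟩ := φ.exists_j hR.sys.two hgr
    obtain ⟨ha, hb⟩ := φ.sp_of_j hPs hg
    have h1 := hall a ha
    have h2 : φ.j (1, b) ∈ G := φ.j_swap b 1 ▸ G.mul_mem (G.mul_mem hvG (hall b hb)) hvG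
    have := G.mul_mem h1 h2
    rwa [φ.j_mul, mul_one, one_mul] at this
  -- the decomposition
  obtain ⟨κ, hκ⟩ : ∃ κ : Fin 2 → ((Fin l ⊕ Fin l → F) →ₗ[F] (Fin (l + l) ⊕ Fin (l + l) → F)), κ = fun i =>
      (Matrix.toLin' (φ.P : (Matrix (Fin (l + l) ⊕ Fin (l + l)) (Fin (l + l) ⊕ Fin (l + l)) F))) ∘ₗ (splitL (F := F) l).toLinearMap ∘ₗ
        (if i = 0 then LinearMap.inl F (Fin l ⊕ Fin l → F) (Fin l ⊕ Fin l → F) else LinearMap.inr F (Fin l ⊕ Fin l → F) (Fin l ⊕ Fin l → F)) := ⟨_, rfl⟩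
  have hκ0 : ∀ a, κ 0 a = (φ.P : (Matrix (Fin (l + l) ⊕ Fin (l + l)) (Fin (l + l) ⊕ Fin (l + l)) F)) *ᵥ comb (eW l) a 0 := fun a => by
    simp [hκ, Matrix.toLin'_apply, splitL]
  have hκ1 : ∀ a, κ 1 a = (φ.P : (Matrix (Fin (l + l) ⊕ Fin (l + l)) (Fin (l + l) ⊕ Fin (l + l)) F)) *ᵥ comb (eW l) 0 a := fun a => by
    simp [hκ, Matrix.toLin'_apply, splitL]
  obtain ⟨D, hD⟩ : ∃ D : Fin 2 → Submodule F (Fin (l + l) ⊕ Fin (l + l) → F), D = fun i => LinearMap.range (κ i) := ⟨_, rfl⟩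
  have hPinj : Function.Injective (Matrix.toLin' (φ.P : (Matrix (Fin (l + l) ⊕ Fin (l + l)) (Fin (l + l) ⊕ Fin (l + l)) F))) := fun x y h => by
    rw [Matrix.toLin'_apply, Matrix.toLin'_apply] at h
    exact Matrix.mulVec_injective_iff_isUnit.2 φ.P.isUnit h
  have hPi := Transvect.mem_spGL_iff.1 hPs
  have hPf : ∀ x y, Cfsg.sympForm (l + l) F ((φ.P : (Matrix (Fin (l + l) ⊕ Fin (l + l)) (Fin (l + l) ⊕ Fin (l + l)) F)) *ᵥ x) ((φ.P : (Matrix (Fin (l + l) ⊕ Fin (l + l)) (Fin (l + l) ⊕ Fin (l + l)) F)) *ᵥ y) = Cfsg.sympForm (l + l) F x y :=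
    fun x y => by
      have := hPi x y
      rwa [Transvect.app_apply, Transvect.app_apply] at this
  have hz : Cfsg.sympForm l F (0 : (Fin l ⊕ Fin l → F)) (0 : (Fin l ⊕ Fin l → F)) = 0 := (Transvect.sympForm_isSymplectic l).alternating 0
  have hzl : ∀ a : (Fin l ⊕ Fin l → F), Cfsg.sympForm l F a 0 = 0 ∧ Cfsg.sympForm l F 0 a = 0 := fun a => by
    have hb := (Transvect.sympForm_isSymplectic (F := F) l).bilinear
    constructor
    · simpa only [zero_smul, zero_mul] using hb.smul_right 0 a (0 : (Fin l ⊕ Fin l → F))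
    · simpa only [zero_smul, zero_mul] using hb.smul_left 0 (0 : (Fin l ⊕ Fin l → F)) a
  have hdec : Cfsg.Geo.IsNondegenerateMDecomposition (Cfsg.sympForm (l + l) F) (l + l) D := by
    refine ⟨⟨le_rfl, by have := NeZero.pos l; omega, fun i => ?_, ?_, ?_⟩, fun i => ?_, fun i k hik => ?_⟩
    · rw [hD]
      show finrank F (LinearMap.range (κ i)) = l + l
      rw [LinearMap.finrank_range_of_inj]
      · rw [Module.finrank_pi, Fintype.card_sum, Fintype.card_fin]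
      · rw [hκ]
        refine hPinj.comp ((splitL (F := F) l).injective.comp ?_)
        fin_cases i
        exacts [LinearMap.inl_injective, LinearMap.inr_injective]
    · rw [iSupIndep_pair (show (0 : Fin 2) ≠ 1 by decide) (by decide), Submodule.disjoint_def, hD]
      rintro _ ⟨a, rfl⟩ ⟨b, hb⟩
      rw [hκ1, hκ0] at hb
      have h2 : comb (eW l) (0 : (Fin l ⊕ Fin l → F)) b = comb (eW l) a 0 := Matrix.mulVec_injective_iff_isUnit.2 φ.P.isUnit hb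
      obtain ⟨rfl, -⟩ := Prod.mk.inj ((splitL (F := F) l).injective (show splitL (F := F) l (0, b) = splitL l (a, 0) from h2))
      exact map_zero _
    · refine eq_top_iff.2 fun x _ => ?_
      obtain ⟨⟨a, b⟩, hab⟩ := (splitL (F := F) l).surjective (((φ.P⁻¹ : (GL (Fin (l + l) ⊕ Fin (l + l)) F)) : (Matrix (Fin (l + l) ⊕ Fin (l + l)) (Fin (l + l) ⊕ Fin (l + l)) F)) *ᵥ x)
      have hx : x = κ 0 a + κ 1 b := by
        rw [hκ0, hκ1, ← Matrix.mulVec_add]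
        have e : comb (eW l) a (0 : (Fin l ⊕ Fin l → F)) + comb (eW l) 0 b = comb (eW l) a b :=
          (((splitL (F := F) l).map_add (a, 0) (0, b)).symm.trans (by simp [splitL]) : _)
        rw [e, show comb (eW l) a b = ((φ.P⁻¹ : (GL (Fin (l + l) ⊕ Fin (l + l)) F)) : (Matrix (Fin (l + l) ⊕ Fin (l + l)) (Fin (l + l) ⊕ Fin (l + l)) F)) *ᵥ x from hab, Matrix.mulVec_mulVec, ← Units.val_mul,
          mul_inv_cancel, Units.val_one, Matrix.one_mulVec]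
      rw [hx, hD]
      exact Submodule.add_mem _ (Submodule.mem_iSup_of_mem 0 ⟨a, rfl⟩)
        (Submodule.mem_iSup_of_mem 1 ⟨b, rfl⟩)
    · rw [hD]
      rintro _ ⟨a, rfl⟩ hne
      have ha : a ≠ 0 := fun h => hne (by rw [h, map_zero])
      obtain ⟨⟨b, hb⟩, ⟨d, hd⟩⟩ := (Transvect.sympForm_isSymplectic (F := F) l).nondegenerate a ha
      fin_cases i
      · refine ⟨⟨_, ⟨b, rfl⟩, ?_⟩, ⟨_, ⟨d, rfl⟩, ?_⟩⟩
        all_goals show Cfsg.sympForm (l + l) F (κ 0 _) (κ 0 _) ≠ 0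
        all_goals rw [hκ0, hκ0, hPf, form_comb, hz, add_zero]
        exacts [hb, hd]
      · refine ⟨⟨_, ⟨b, rfl⟩, ?_⟩, ⟨_, ⟨d, rfl⟩, ?_⟩⟩
        all_goals show Cfsg.sympForm (l + l) F (κ 1 _) (κ 1 _) ≠ 0
        all_goals rw [hκ1, hκ1, hPf, form_comb, hz, zero_add]
        exacts [hb, hd]
    · rw [hD]
      rintro _ ⟨a, rfl⟩ _ ⟨b, rfl⟩
      fin_cases i <;> fin_cases k <;> first | exact absurd rfl hik | skip
      · show Cfsg.sympForm (l + l) F (κ 0 a) (κ 1 b) = 0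
        rw [hκ0, hκ1, hPf, form_comb, (hzl a).1, (hzl b).2, add_zero]
      · show Cfsg.sympForm (l + l) F (κ 1 a) (κ 0 b) = 0
        rw [hκ0, hκ1, hPf, form_comb, (hzl b).2, (hzl a).1, add_zero]
  -- elements fixing both members commute with `r`
  have hr0 : ∀ a, (r : (Matrix (Fin (l + l) ⊕ Fin (l + l)) (Fin (l + l) ⊕ Fin (l + l)) F)) *ᵥ κ 0 a = κ 0 a := fun a => by
    rw [hκ0, Matrix.mulVec_mulVec, φ.r_eq, ← Matrix.mulVec_mulVec, blocks_mulVec]; simp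
  have hr1 : ∀ a, (r : (Matrix (Fin (l + l) ⊕ Fin (l + l)) (Fin (l + l) ⊕ Fin (l + l)) F)) *ᵥ κ 1 a = -κ 1 a := fun a => by
    rw [hκ1, Matrix.mulVec_mulVec, φ.r_eq, ← Matrix.mulVec_mulVec, blocks_mulVec]
    simp only [Matrix.mulVec_zero, Matrix.neg_mulVec, Matrix.one_mulVec, Matrix.zero_mulVec, zero_add, add_zero]
    rw [← Matrix.mulVec_neg]
    congr 1
    exact (((splitL (F := F) l).map_neg (0, a)).symm.trans (by simp [splitL])).symm
  have hv0 : ∀ a, (φ.v : (Matrix (Fin (l + l) ⊕ Fin (l + l)) (Fin (l + l) ⊕ Fin (l + l)) F)) *ᵥ κ 0 a = κ 1 a := fun a => by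
    rw [hκ0, hκ1, Matrix.mulVec_mulVec, φ.v_eq, ← Matrix.mulVec_mulVec, blocks_mulVec]; simp
  have hv1 : ∀ a, (φ.v : (Matrix (Fin (l + l) ⊕ Fin (l + l)) (Fin (l + l) ⊕ Fin (l + l)) F)) *ᵥ κ 1 a = κ 0 a := fun a => by
    rw [hκ0, hκ1, Matrix.mulVec_mulVec, φ.v_eq, ← Matrix.mulVec_mulVec, blocks_mulVec]; simp
  have hfix : ∀ g : (GL (Fin (l + l) ⊕ Fin (l + l)) F), (∀ a, ∃ b, (g : (Matrix (Fin (l + l) ⊕ Fin (l + l)) (Fin (l + l) ⊕ Fin (l + l)) F)) *ᵥ κ 0 a = κ 0 b) → (∀ a, ∃ b, (g : (Matrix (Fin (l + l) ⊕ Fin (l + l)) (Fin (l + l) ⊕ Fin (l + l)) F)) *ᵥ κ 1 a = κ 1 b) →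
      g * r = r * g := by
    intro g h0 h1
    refine Units.ext (Matrix.ext_iff_mulVec.2 fun x => ?_)
    have hx : x ∈ iSup D := by rw [hdec.decomp.iSup_eq_top]; trivial
    refine Submodule.iSup_induction D
      (motive := fun x => ((g * r : (GL (Fin (l + l) ⊕ Fin (l + l)) F)) : (Matrix (Fin (l + l) ⊕ Fin (l + l)) (Fin (l + l) ⊕ Fin (l + l)) F)) *ᵥ x = ((r * g : (GL (Fin (l + l) ⊕ Fin (l + l)) F)) : (Matrix (Fin (l + l) ⊕ Fin (l + l)) (Fin (l + l) ⊕ Fin (l + l)) F)) *ᵥ x) hx ?_ ?_ ?_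
    · intro i z hz
      rw [hD] at hz
      obtain ⟨a, rfl⟩ := hz
      rw [Units.val_mul, Units.val_mul, ← Matrix.mulVec_mulVec, ← Matrix.mulVec_mulVec]
      fin_cases i
      · obtain ⟨b, hb⟩ := h0 a
        show (g : (Matrix (Fin (l + l) ⊕ Fin (l + l)) (Fin (l + l) ⊕ Fin (l + l)) F)) *ᵥ ((r : (Matrix (Fin (l + l) ⊕ Fin (l + l)) (Fin (l + l) ⊕ Fin (l + l)) F)) *ᵥ κ 0 a) = (r : (Matrix (Fin (l + l) ⊕ Fin (l + l)) (Fin (l + l) ⊕ Fin (l + l)) F)) *ᵥ ((g : (Matrix (Fin (l + l) ⊕ Fin (l + l)) (Fin (l + l) ⊕ Fin (l + l)) F)) *ᵥ κ 0 a)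
        rw [hr0, hb, hr0]
      · obtain ⟨b, hb⟩ := h1 a
        show (g : (Matrix (Fin (l + l) ⊕ Fin (l + l)) (Fin (l + l) ⊕ Fin (l + l)) F)) *ᵥ ((r : (Matrix (Fin (l + l) ⊕ Fin (l + l)) (Fin (l + l) ⊕ Fin (l + l)) F)) *ᵥ κ 1 a) = (r : (Matrix (Fin (l + l) ⊕ Fin (l + l)) (Fin (l + l) ⊕ Fin (l + l)) F)) *ᵥ ((g : (Matrix (Fin (l + l) ⊕ Fin (l + l)) (Fin (l + l) ⊕ Fin (l + l)) F)) *ᵥ κ 1 a)
        rw [hr1, Matrix.mulVec_neg, hb, hr1]
    · simp
    · intro p q hp hq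
      rw [Matrix.mulVec_add, Matrix.mulVec_add, hp, hq]
  have hstab : ∀ g ∈ Cfsg.Geo.decompositionStabilizer D,
      g * r = r * g ∨ g * φ.v * r = r * (g * φ.v) := by
    rintro g ⟨σ, hσ⟩
    have hm : ∀ i a, ∃ b, (g : (Matrix (Fin (l + l) ⊕ Fin (l + l)) (Fin (l + l) ⊕ Fin (l + l)) F)) *ᵥ κ i a = κ (σ i) b := fun i a => by
      have : Matrix.toLin' (g : (Matrix (Fin (l + l) ⊕ Fin (l + l)) (Fin (l + l) ⊕ Fin (l + l)) F)) (κ i a) ∈ D (σ i) := hσ i ▸ Submodule.mem_map_of_mem (hD ▸ ⟨a, rfl⟩)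
      rw [hD] at this
      obtain ⟨b, hb⟩ := this
      exact ⟨b, by rw [hb, Matrix.toLin'_apply]⟩
    have key : ∀ σ : Equiv.Perm (Fin 2), (σ 0 = 0 ∧ σ 1 = 1) ∨ (σ 0 = 1 ∧ σ 1 = 0) := by decide
    rcases key σ with ⟨s0, s1⟩ | ⟨s0, s1⟩
    · exact Or.inl (hfix g (fun a => by have h := hm 0 a; rwa [s0] at h)
        fun a => by have h := hm 1 a; rwa [s1] at h)
    · refine Or.inr (hfix _ (fun a => ?_) fun a => ?_)
      · rw [Units.val_mul, ← Matrix.mulVec_mulVec, hv0]; have h := hm 1 a; rwa [s1] at h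
      · rw [Units.val_mul, ← Matrix.mulVec_mulVec, hv1]; have h := hm 0 a; rwa [s0] at h
  have hle : Cfsg.Geo.decompositionStabilizer D ⊓ Cfsg.spGL (l + l) F ≤ G := by
    rintro g ⟨hg, hgs⟩
    rcases hstab g hg with h | h
    · exact hcent g hgs h
    · have := G.mul_mem (hcent _ ((Cfsg.spGL (l + l) F).mul_mem hgs (hR.le φ.v_mem)) h) hvG
      rwa [mul_assoc, φ.v_sq, mul_one] at this
  rcases (S5647.general (l + l) (l + l) D hdec (fun h => by omega)).2 G hle hGS with h | h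
  swap
  · exact hproper h.ge
  -- a member of the normaliser moving the decomposition
  have hrv : r * φ.v = -(φ.v * r) := φ.r_anti_v
  have hrr : r * r = 1 := by
    have e : r * r = φ.j ((1 : (GL (Fin l ⊕ Fin l) F)), (-1 : (GL (Fin l ⊕ Fin l) F))) * φ.j ((1 : (GL (Fin l ⊕ Fin l) F)), (-1 : (GL (Fin l ⊕ Fin l) F))) :=
      congrArg (fun z => z * z) φ.r_val
    rw [e, φ.j_mul]; simp [φ.j_one]
  have hrvsq : r * φ.v * (r * φ.v) = -1 := by
    calc r * φ.v * (r * φ.v) = r * φ.v * (-(φ.v * r)) := by rw [← hrv]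
      _ = -(r * (φ.v * φ.v) * r) := by rw [mul_neg]; simp only [mul_assoc]
      _ = -1 := by rw [φ.v_sq, mul_one, hrr]
  obtain ⟨n, hn, hnv, hconj⟩ := hR.sys.exists_pair_normal (R.mul_mem hr φ.v_mem) (show φ.j (c, c) ∈ R from hc)
    hrvsq (by rw [φ.j_mul, hcc, φ.j_neg, φ.j_one])
  obtain ⟨y, hy, hy'⟩ := hconj r hr
  have hyr : y = r := by
    rcases hy with ⟨e, -⟩ | ⟨-, e⟩
    · exact e
    · rw [← φ.r_comm] at e; exact absurd e (hR.sys.ne_neg _)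
  rw [hyr] at hy'
  have hnr : n * r * n⁻¹ = -φ.v := by
    rcases hy' with ⟨-, e⟩ | ⟨e, -⟩
    · exfalso
      rw [← mul_assoc, hrr, one_mul, hrv, neg_mul, mul_assoc, hrr, mul_one] at e
      exact hR.sys.ne_neg _ e
    · rw [e, hrv, neg_mul, mul_assoc, hrr, mul_one]
  have hnG : n ∈ Cfsg.Geo.decompositionStabilizer D ⊓ Cfsg.spGL (l + l) F := h ▸ hNG ⟨hn, pair_mem_sp hR.sys.two hR.le (R.mul_mem hr φ.v_mem) hc hrvsq (by rw [φ.dbl_apply, φ.j_mul, hcc, φ.j_neg, φ.j_one]) hnv⟩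
  have hvne : ∀ {z : (GL (Fin (l + l) ⊕ Fin (l + l)) F)}, z * z = 1 → z * φ.v = -(φ.v * z) → -φ.v = z ∨ -φ.v = -z → False := by
    intro z hzz hanti hz
    rcases hz with e | e
    · rw [← e, neg_mul, mul_neg, φ.v_sq, neg_neg] at hanti; exact hR.sys.one_ne_neg hanti.symm
    · rw [← neg_inj.1 e, φ.v_sq] at hanti; exact hR.sys.one_ne_neg hanti
  rcases hstab n hnG.1 with e | e
  · rw [e, mul_inv_cancel_right] at hnr
    exact hvne hrr hrv (Or.inl hnr.symm)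
  · refine hvne hrr hrv (Or.inr ?_)
    have h1 : n * r * φ.v = -(r * n) * φ.v := by
      rw [mul_assoc, hrv, mul_neg, ← mul_assoc, e, neg_mul, mul_assoc]
    rw [← hnr, mul_right_cancel h1, neg_mul, mul_inv_cancel_right]

theorem not_sp_le {l : ℕ} [NeZero (l + l)] (hl : 2 ≤ l + l) (hk : 1 ≤ k) {R : Subgroup (GL (Fin (l + l) ⊕ Fin (l + l)) F)} (hR : SMinus (l + l) k R) :
    ¬ Cfsg.spGL (l + l) F ≤ Cfsg.Geo.subgroupNormalizer R := by
  intro hle
  have hN : (R.subgroupOf (Cfsg.spGL (l + l) F)).Normal := ⟨fun x hx g => by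
    rw [Subgroup.mem_subgroupOf] at hx ⊢
    exact (Subgroup.mem_normalizer_iff.mp (hle g.2) _).mp hx⟩
  obtain ⟨x, hx, hne⟩ : ∃ x ∈ R, x ≠ 1 ∧ x ≠ -1 := by
    by_contra h
    push Not at h
    have hc : Nat.card R ≤ Nat.card Bool := by
      refine Nat.card_le_card_of_surjective
        (fun b : Bool => (bif b then ⟨-1, hR.sys.neg⟩ else 1 : R)) fun z => ?_
      rcases em ((z : (GL (Fin (l + l) ⊕ Fin (l + l)) F)) = 1) with e | e
      · exact ⟨false, Subtype.ext e.symm⟩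
      · exact ⟨true, Subtype.ext (h z z.2 e).symm⟩
    rw [hR.sys.card, Nat.card_eq_fintype_card, Fintype.card_bool] at hc
    have := Nat.pow_le_pow_right (show 1 ≤ 2 by norm_num) (show 3 ≤ 2 * k + 1 by omega)
    omega
  obtain ⟨y, hy, hxy⟩ := hR.sys.exists_anti hx hne.1 hne.2
  have htop := C6Minus.spGL_normal_top hl hR.sys.two (R.subgroupOf (Cfsg.spGL (l + l) F))
    (x := ⟨x, hR.le hx⟩) hx fun h => by
      have e := congrArg Subtype.val (Subgroup.mem_center_iff.1 h ⟨y, hR.le hy⟩)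
      simp only [Subgroup.coe_mul] at e
      rw [hxy] at e
      exact hR.sys.ne_neg _ e
  have hf := Transvect.sympForm_isSymplectic (F := F) (l + l)
  obtain ⟨u, hu⟩ : ∃ u : Fin (l + l) ⊕ Fin (l + l) → F, u = Pi.single (Sum.inl (0 : Fin (l + l))) 1 := ⟨_, rfl⟩
  obtain ⟨⟨z, hz⟩, -⟩ := hf.nondegenerate u (by rw [hu]; simp)
  have ht : Transvect.st hf u 1 ∈ R := by
    have : (⟨Transvect.st hf u 1, Transvect.mem_spGL_iff.2 (Transvect.st_isIsom hf u 1)⟩ :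
        Cfsg.spGL (l + l) F) ∈ R.subgroupOf (Cfsg.spGL (l + l) F) := by rw [htop]; trivial
    exact this
  have hu0 : u ≠ 0 := by rw [hu]; simp
  rcases hR.sys.sq _ ht with e | e
  · have h := congrArg (fun g : (GL (Fin (l + l) ⊕ Fin (l + l)) F) => Transvect.app g z) e
    simp only [map_mul, LinearEquiv.mul_apply, map_one, Transvect.st_apply, one_mul,
      hf.bilinear.add_left, hf.bilinear.smul_left, hf.alternating, mul_zero, add_zero] at h
    have h' : ((2 : F) * Cfsg.sympForm (l + l) F z u) • u = 0 := by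
      rw [two_mul, add_smul]
      have := congrArg (fun w => -z + w) h
      simpa [← add_assoc] using this
    exact (mul_ne_zero hR.sys.two hz) ((smul_eq_zero.1 h').resolve_right hu0)
  · have h := congrArg (fun g : (GL (Fin (l + l) ⊕ Fin (l + l)) F) => Transvect.app g u) e
    have hfix : Transvect.app (Transvect.st hf u 1) u = u := by
      rw [Transvect.st_apply, hf.alternating, mul_zero, zero_smul, add_zero]
    simp only [map_mul, LinearEquiv.mul_apply, hfix] at h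
    rw [Transvect.app_apply, Units.val_neg, Units.val_one, Matrix.neg_mulVec, Matrix.one_mulVec] at h
    have h' : (2 : F) • u = 0 := by rw [two_smul]; nth_rewrite 1 [h]; exact neg_add_cancel u
    exact hu0 ((smul_eq_zero.1 h').resolve_left hR.sys.two)

/-- The normaliser is maximal. -/
theorem SMinus.maximal (hF : (Fintype.card F).Prime) :
    ∀ k, 3 ≤ k → ∀ (m : ℕ) [NeZero m] (R : Subgroup (GL (Fin m ⊕ Fin m) F)), SMinus m k R →
      Cfsg.Geo.IsMaximalIn (Cfsg.spGL m F) (Cfsg.Geo.subgroupNormalizer R ⊓ Cfsg.spGL m F) := by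
  intro k hk
  induction k, hk using Nat.le_induction with
  | base =>
    intro m _ R hR
    have hcard := hR.sys.card_eq
    rw [Fintype.card_sum, Fintype.card_fin] at hcard
    obtain rfl : m = 4 := by omega
    exact C6Minus.normalizer_maximal hF ⟨hR.sys.two, hR.le, by rw [hR.sys.card]; norm_num, hR.sys.neg,
      hR.sys.sq, hR.sys.comm, hR.sys.scalar, hR.minus⟩
  | succ k hk ih =>
    intro m _ R hR
    have hcard := hR.sys.card_eq
    rw [Fintype.card_sum, Fintype.card_fin, pow_succ] at hcard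
    have h8 : 8 ≤ 2 ^ k := le_trans (by norm_num) (Nat.pow_le_pow_right (show 1 ≤ 2 by norm_num) hk)
    have hk2 : 2 ^ k = 2 ^ (k - 1) + 2 ^ (k - 1) := by
      obtain ⟨j, rfl⟩ : ∃ j, k = j + 1 := ⟨k - 1, by omega⟩
      rw [Nat.add_sub_cancel, pow_succ]; omega
    obtain ⟨l, rfl⟩ : ∃ l, m = l + l := ⟨2 ^ (k - 1), by omega⟩
    have : NeZero l := ⟨by omega⟩
    refine ⟨lt_of_le_of_ne inf_le_right fun h => not_sp_le (by omega) (by omega) hR (inf_eq_right.1 h),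
      fun G hG hGS => ?_⟩
    by_cases hproper : Cfsg.spGL (l + l) F ≤ G
    · exact Or.inr (le_antisymm hGS hproper)
    refine Or.inl (le_antisymm (le_inf ?_ hGS) hG)
    have hle : R ≤ G := fun x hx => hG ⟨Subgroup.le_normalizer hx, hR.le hx⟩
    have hpm : ∀ g ∈ G, ∀ c : F, (g : Matrix (Fin (l + l) ⊕ Fin (l + l)) (Fin (l + l) ⊕ Fin (l + l)) F) = c • 1 → g = 1 ∨ g = -1 :=
      fun g hg c hc => scalar_pm_sp (hGS hg) hc
    have hpairs : HasPairs R G := fun a ha b hb haa hbb n hn => by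
      obtain ⟨n', hn', hnv, -⟩ := hR.sys.exists_pair_normal ha hb haa hbb
      obtain rfl : n = n' := Units.ext (hn.trans hnv.symm)
      exact hG ⟨hn', pair_mem_sp hR.sys.two hR.le ha hb haa hbb hn⟩
    refine Over.le_normalizer (k := k + 1) ⟨hR.sys, hle, hpm, hpairs, fun r hr hrr h1 h2 g hg hgr => ?_⟩
      (by omega)
    refine centraliser_normalises (e := eW l) hk hR.sys hle hpm hpairs (fun r hr hrr h1 h2 => ?_) hr hrr h1 h2 hg hgr
    obtain ⟨φ, hPs⟩ := exists_sframe hR hr hrr h1 h2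
    refine ⟨φ, ?_⟩
    have hP := φ.diag_smin hPs hR hr
    have hfst : ∀ a b, φ.j (a, b) ∈ G → a ∈ Cfsg.Geo.subgroupNormalizer φ.diag ⊓ Cfsg.spGL l F := by
      intro a b hab
      obtain ⟨M, hM⟩ : ∃ M, M = (G.comap φ.j).map (MonoidHom.fst _ _) := ⟨_, rfl⟩
      have hMle : M ≤ Cfsg.spGL l F := by
        rw [hM]; rintro _ ⟨⟨x, y⟩, hxy, rfl⟩
        exact (φ.sp_of_j hPs (hGS hxy)).1
      have hNM : Cfsg.Geo.subgroupNormalizer φ.diag ⊓ Cfsg.spGL l F ≤ M := fun n hn => by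
        rw [hM]; exact ⟨(n, n), hG ⟨φ.dbl_normal hR.sys hr hn.1, φ.j_mem hPs hn.2 hn.2⟩, rfl⟩
      rcases (ih l φ.diag hP).2 M hNM hMle with e | e
      · rw [← e, hM]; exact ⟨(a, b), hab, rfl⟩
      · exfalso
        refine not_full (by omega) hk hR hGS hG hproper φ hPs hr fun x hx => ?_
        rw [← e, hM] at hx
        obtain ⟨⟨x', y⟩, hxy, rfl⟩ := hx
        exact ⟨y, hxy⟩
    refine ⟨fun a b hab => (hfst a b hab).1, fun a b hab => ?_, fun c hc => ?_⟩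
    · exact hG ⟨φ.dbl_normal hR.sys hr (hfst a b hab).1, φ.j_mem hPs (hfst a b hab).2 (hfst a b hab).2⟩
    · exact hG ⟨φ.half_normal hR.sys hr hc, φ.j_mem hPs (one_mem _) (hP.le hc)⟩

end Cfsg.Agent.C6Gen
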