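import Cfsg.Agent.Lib.C6Gen.Quad
import Cfsg.Agent.EqLemmas
import Mathlib.LinearAlgebra.Matrix.GeneralLinearGroup.Defs
import Mathlib.GroupTheory.QuotientGroup.Basic
import Mathlib.GroupTheory.Coset.Card
import Mathlib.Tactic.NoncommRing
/-!
# Systems of signed matrices: `2^{1+2k}` acting absolutely irreducibly

* `Sys`              : the properties used (odd characteristic)
* `Sys.quad`         : the quadratic space `R/±1`
* `Sys.signs`        : matrices normalising every class are multiples of members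
* `Sys.exists_pair`  : the pairs of transvections
-/

set_option autoImplicit false
set_option linter.unusedSectionVars false
set_option linter.style.haveILetI false

namespace Cfsg.Agent.C6Gen

open Module Matrix

variable {k : ℕ} {ι : Type} [Fintype ι] [DecidableEq ι] [Nonempty ι] {F : Type*} [Field F]

/-- The properties of `R` that are used. -/
structure Sys (k : ℕ) (R : Subgroup (GL ι F)) : Prop where
  two : (2 : F) ≠ 0
  card : Nat.card R = 2 ^ (2 * k + 1)
  neg : (-1 : GL ι F) ∈ R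
  sq : ∀ g ∈ R, g * g = 1 ∨ g * g = -1
  comm : ∀ g ∈ R, ∀ h ∈ R, g * h = h * g ∨ g * h = -(h * g)
  scalar : ∀ M : Matrix ι ι F, (∀ g ∈ R, M * (g : Matrix ι ι F) = (g : Matrix ι ι F) * M) → ∃ c : F, M = c • 1
  scal : ∀ g ∈ R, ∀ c : F, (g : Matrix ι ι F) = c • 1 → g = 1 ∨ g = -1

namespace Sys

variable {R : Subgroup (GL ι F)} (hR : Sys k R)
include hR

theorem ne_neg (g : GL ι F) : g ≠ -g := by
  intro h
  have h' := congrArg Units.val h
  rw [Units.val_neg] at h'
  have h2 : (2 : F) • (g : Matrix ι ι F) = 0 := by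
    rw [two_smul]; nth_rewrite 2 [h']; exact add_neg_cancel _
  exact g.isUnit.ne_zero ((smul_eq_zero.mp h2).resolve_left hR.two)

theorem one_ne_neg : (1 : GL ι F) ≠ -1 := hR.ne_neg 1

theorem neg_mem {g : GL ι F} (hg : g ∈ R) : -g ∈ R := by simpa using R.mul_mem hR.neg hg

theorem finiteR : Finite R :=
  Nat.finite_of_card_ne_zero (by rw [hR.card]; positivity)

/-- `±1` inside `R`. -/
theorem inv_eq {g : (GL ι F)} (hg : g ∈ R) : g⁻¹ = g ∨ g⁻¹ = -g :=
  (hR.sq g hg).imp (fun h => inv_eq_of_mul_eq_one_right h) fun h =>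
    inv_eq_of_mul_eq_one_right (by rw [mul_neg, h, neg_neg])

theorem central {g : GL ι F} (hg : g ∈ R) (h : ∀ x ∈ R, g * x = x * g) : g = 1 ∨ g = -1 := by
  obtain ⟨c, hc⟩ := hR.scalar (g : Matrix ι ι F) fun x hx => by rw [← Units.val_mul, h x hx, Units.val_mul]
  exact hR.scal g hg c hc

theorem exists_anti {g : (GL ι F)} (hg : g ∈ R) (h1 : g ≠ 1) (h2 : g ≠ -1) :
    ∃ x ∈ R, g * x = -(x * g) := by
  by_contra hno
  push Not at hno
  rcases hR.central hg fun x hx => (hR.comm g hg x hx).resolve_right (hno x hx) with h | h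
  exacts [h1 h, h2 h]

/-! ## The quadratic space `R/±1` -/

omit hR in
/-- `±1` inside `R`. -/
def pm (R : Subgroup (GL ι F)) : Subgroup R where
  carrier := {x | (x : (GL ι F)) = 1 ∨ (x : (GL ι F)) = -1}
  one_mem' := Or.inl rfl
  mul_mem' := by
    rintro a b (ha | ha) (hb | hb) <;>
      show ((a * b : R) : (GL ι F)) = 1 ∨ ((a * b : R) : (GL ι F)) = -1 <;> simp [ha, hb]
  inv_mem' := by
    rintro a (ha | ha)
    · exact Or.inl (by simp [ha])
    · exact Or.inr (by simp [ha, inv_neg])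

omit hR in
theorem pm_normal (R : Subgroup (GL ι F)) : (pm R).Normal :=
  ⟨fun x hx g => by
    rcases hx with h | h
    · exact Or.inl (by simp [h])
    · exact Or.inr (by simp [h, mul_inv_cancel])⟩

end Sys

/-- `R/±1`. -/
def Bar (R : Subgroup (GL ι F)) : Type _ := R ⧸ Sys.pm R

noncomputable instance instGroupBar (R : Subgroup (GL ι F)) : Group (Bar R) :=
  haveI := Sys.pm_normal R
  QuotientGroup.Quotient.group (Sys.pm R)

/-- The class of a member. -/
def bar {R : Subgroup (GL ι F)} (x : R) : Bar R := QuotientGroup.mk x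

theorem bar_eq {R : Subgroup (GL ι F)} {x y : R} :
    bar x = bar y ↔ (y : (GL ι F)) = x ∨ (y : (GL ι F)) = -(x : (GL ι F)) := by
  rw [bar, bar]
  refine QuotientGroup.eq.trans ?_
  show ((x⁻¹ * y : R) : (GL ι F)) = 1 ∨ ((x⁻¹ * y : R) : (GL ι F)) = -1 ↔ _
  simp only [Subgroup.coe_mul, Subgroup.coe_inv, inv_mul_eq_iff_eq_mul, mul_one, mul_neg]

theorem bar_surjective {R : Subgroup (GL ι F)} : Function.Surjective (bar (R := R)) :=
  QuotientGroup.mk_surjective

theorem bar_mul {R : Subgroup (GL ι F)} (x y : R) : bar (x * y) = bar x * bar y := rfl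

/-- `R/±1`, written additively. -/
abbrev VB (R : Subgroup (GL ι F)) := Additive (Bar R)

/-- Zero or one as a member squares to `±1`. -/
noncomputable def Qv {R : Subgroup (GL ι F)} (x : R) : ZMod 2 := by
  classical exact if (x : (GL ι F)) * x = 1 then 0 else 1

/-- Zero or one as two members commute. -/
noncomputable def Bv {R : Subgroup (GL ι F)} (x y : R) : ZMod 2 := by
  classical exact if (x : (GL ι F)) * y = y * x then 0 else 1

namespace Sys

variable {R : Subgroup (GL ι F)} (hR : Sys k R)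
include hR

theorem comm_bar (a b : Bar R) : a * b = b * a := by
  obtain ⟨x, rfl⟩ := bar_surjective a
  obtain ⟨y, rfl⟩ := bar_surjective b
  rw [← bar_mul, ← bar_mul, bar_eq]
  rcases hR.comm x x.2 y y.2 with h | h
  · exact Or.inl (by simp [h])
  · exact Or.inr (by simp [h])

/-- `R/±1` is abelian. -/
@[reducible] noncomputable def commGroup : CommGroup (Bar R) :=
  { instGroupBar R with mul_comm := hR.comm_bar }

theorem bar_sq (a : Bar R) : a * a = 1 := by
  obtain ⟨x, rfl⟩ := bar_surjective a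
  show bar (x * x) = bar 1
  rw [bar_eq]
  rcases hR.sq x x.2 with h | h
  · exact Or.inl (by simp [h])
  · exact Or.inr (by simp [h])

theorem Q_cases (x : R) :
    ((x : (GL ι F)) * x = 1 ∧ Qv x = 0) ∨ ((x : (GL ι F)) * x = -1 ∧ Qv x = 1) := by
  classical
  rcases hR.sq x x.2 with h | h
  · exact Or.inl ⟨h, by simp [Qv, h]⟩
  · refine Or.inr ⟨h, ?_⟩
    simp [Qv, h, hR.one_ne_neg.symm]

theorem B_cases (x y : R) :
    ((x : (GL ι F)) * y = y * x ∧ Bv x y = 0) ∨ ((x : (GL ι F)) * y = -(y * x) ∧ Bv x y = 1) := by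
  classical
  rcases hR.comm x x.2 y y.2 with h | h
  · exact Or.inl ⟨h, by simp [Bv, h]⟩
  · refine Or.inr ⟨h, ?_⟩
    simp only [Bv]
    rw [if_neg]
    intro h'
    rw [h'] at h
    exact hR.ne_neg _ h

theorem Bv_mul (x y z : R) : Bv x (y * z) = Bv x y + Bv x z := by
  rcases hR.B_cases x (y * z) with ⟨h, e⟩ | ⟨h, e⟩ <;>
  rcases hR.B_cases x y with ⟨h1, e1⟩ | ⟨h1, e1⟩ <;>
  rcases hR.B_cases x z with ⟨h2, e2⟩ | ⟨h2, e2⟩ <;>
  rw [e, e1, e2] <;>
  simp only [Subgroup.coe_mul, ← mul_assoc, h1, neg_mul] at h <;>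
  simp only [mul_assoc, h2, mul_neg, neg_neg] at h <;>
  first
    | decide
    | exact absurd h (hR.ne_neg _)
    | exact absurd h.symm (hR.ne_neg _)

theorem Bv_comm (x y : R) : Bv x y = Bv y x := by
  rcases hR.B_cases x y with ⟨h, e⟩ | ⟨h, e⟩ <;>
  rcases hR.B_cases y x with ⟨h', e'⟩ | ⟨h', e'⟩ <;> rw [e, e'] <;>
  rw [h'] at h
  · exact absurd (by simpa using h) (hR.ne_neg ((x : (GL ι F)) * y))
  · exact absurd h (hR.ne_neg ((x : (GL ι F)) * y))

theorem Qv_mul (x y : R) : Qv (x * y) = Qv x + Qv y + Bv x y := by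
  have h0 : ((x * y : R) : (GL ι F)) * (x * y : R) = (x : (GL ι F)) * (y * x) * y := by
    simp only [Subgroup.coe_mul, mul_assoc]
  rcases hR.Q_cases (x * y) with ⟨h, e⟩ | ⟨h, e⟩ <;>
  rcases hR.Q_cases x with ⟨h1, e1⟩ | ⟨h1, e1⟩ <;>
  rcases hR.Q_cases y with ⟨h2, e2⟩ | ⟨h2, e2⟩ <;>
  rcases hR.B_cases x y with ⟨h3, e3⟩ | ⟨h3, e3⟩ <;>
  rw [e, e1, e2, e3] <;>
  first
    | decide
    | exfalso
      first
        | rw [← h3] at h0
        | rw [← neg_neg ((y : (GL ι F)) * x), ← h3] at h0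
      simp only [mul_neg, neg_mul, ← mul_assoc, h1, one_mul, h2, h, neg_neg] at h0
      first
        | exact hR.one_ne_neg h0
        | exact hR.one_ne_neg h0.symm

theorem Bv_congr (x : R) {y y' : R} (h : bar y = bar y') : Bv x y = Bv x y' := by
  classical
  rcases bar_eq.1 h with h | h
  · rw [Subtype.ext h]
  · simp [Bv, h]

theorem Qv_congr {y y' : R} (h : bar y = bar y') : Qv y = Qv y' := by
  classical
  rcases bar_eq.1 h with h | h
  · rw [Subtype.ext h]
  · simp [Qv, h]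

omit hR in
/-- A lift. -/
noncomputable def lift (v : VB R) : R := Function.surjInv bar_surjective (Additive.toMul v)

omit hR in
theorem bar_lift (v : VB R) : bar (lift v) = Additive.toMul v := Function.surjInv_eq bar_surjective _

/-- `R/±1` as an additive group. -/
@[reducible] noncomputable def addCommGroup : AddCommGroup (VB R) :=
  letI := hR.commGroup
  inferInstance

/-- `R/±1` as a vector space over `𝔽₂`. -/
@[reducible] noncomputable def module2 : letI := hR.addCommGroup; Module (ZMod 2) (VB R) :=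
  letI := hR.addCommGroup
  AddCommGroup.zmodModule fun v => by
    rw [two_nsmul]
    exact hR.bar_sq (Additive.toMul v)

theorem card_pm : Nat.card (pm R) = 2 := by
  refine Nat.card_eq_two_iff.2 ⟨⟨1, Or.inl rfl⟩, ⟨⟨-1, hR.neg⟩, Or.inr rfl⟩, fun h => ?_, ?_⟩
  · exact hR.one_ne_neg (congrArg (fun z : pm R => ((z : R) : (GL ι F))) h)
  · refine Set.eq_univ_of_forall fun z => ?_
    rcases z.2 with h | h
    · exact Or.inl (Subtype.ext (Subtype.ext h))
    · exact Or.inr (Subtype.ext (Subtype.ext h))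

theorem card_bar : Nat.card (VB R) = 2 ^ (2 * k) := by
  have h := Subgroup.card_eq_card_quotient_mul_card_subgroup (pm R)
  rw [hR.card, hR.card_pm] at h
  show Nat.card (R ⧸ pm R) = 2 ^ (2 * k)
  rw [pow_succ] at h
  omega

theorem finite : Finite (VB R) := Nat.finite_of_card_ne_zero (by rw [hR.card_bar]; positivity)

/-- The quadratic space. -/
noncomputable def quad (hk : 3 ≤ k) :
    letI := hR.addCommGroup; letI := hR.module2; QF k (VB R) := by
  letI := hR.addCommGroup
  letI := hR.module2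
  have hadd : ∀ v w : VB R, bar (lift v * lift w) = bar (lift (v + w)) := fun v w => by
    rw [bar_mul, bar_lift, bar_lift, bar_lift]; rfl
  refine
    { Q := fun v => Qv (lift v)
      B := LinearMap.mk₂ (ZMod 2) (fun v w => Bv (lift v) (lift w)) ?_ ?_ ?_ ?_
      polar := fun v w => ?_, nondeg := fun v hv => ?_, dim := ?_, three := hk }
  · intro a b c
    rw [hR.Bv_comm, ← hR.Bv_congr _ (hadd a b), hR.Bv_mul, hR.Bv_comm (lift c), hR.Bv_comm (lift c)]
  · intro c a b
    have h0 : Bv (lift (0 : VB R)) (lift b) = 0 := by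
      have h : bar (1 : R) = bar (lift (0 : VB R)) := (bar_lift (0 : VB R)).symm
      rw [hR.Bv_comm, ← hR.Bv_congr _ h]
      classical simp [Bv]
    rcases zmod2 c with rfl | rfl
    · rw [zero_smul, zero_smul, h0]
    · rw [one_smul, one_smul]
  · intro a b c
    rw [← hR.Bv_congr _ (hadd b c), hR.Bv_mul]
  · intro c a b
    have h0 : Bv (lift a) (lift (0 : VB R)) = 0 := by
      have h : bar (1 : R) = bar (lift (0 : VB R)) := (bar_lift (0 : VB R)).symm
      rw [← hR.Bv_congr _ h]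
      classical simp [Bv]
    rcases zmod2 c with rfl | rfl
    · rw [zero_smul, zero_smul, h0]
    · rw [one_smul, one_smul]
  · show Qv (lift (v + w)) = _
    rw [← hR.Qv_congr (hadd v w), hR.Qv_mul]; rfl
  · have hall : ∀ x ∈ R, (lift v : (GL ι F)) * x = x * lift v := fun x hx => by
      rcases hR.B_cases (lift v) ⟨x, hx⟩ with ⟨h, -⟩ | ⟨-, e⟩
      · exact h
      · have h1 : bar (lift (Additive.ofMul (bar (⟨x, hx⟩ : R)) : VB R)) = bar (⟨x, hx⟩ : R) :=
          bar_lift _
        have := hv (Additive.ofMul (bar (⟨x, hx⟩ : R)))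
        rw [LinearMap.mk₂_apply, hR.Bv_congr _ h1, e] at this
        exact absurd this one_ne_zero
    have h1 : bar (lift v) = bar 1 := by
      rw [bar_eq]
      rcases hR.central (lift v).2 hall with h | h
      · exact Or.inl (by simp [h])
      · exact Or.inr (by simp [h])
    rw [bar_lift] at h1
    exact congrArg Additive.ofMul h1
  · have := hR.finite
    have h := Module.natCard_eq_pow_finrank (K := ZMod 2) (V := VB R)
    rw [hR.card_bar, Nat.card_eq_fintype_card, ZMod.card] at h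
    exact Nat.pow_right_injective le_rfl h.symm

/-- A matrix normalising every class is a multiple of a member. -/
theorem signs (hk : 3 ≤ k) {g : (GL ι F)}
    (h : ∀ x ∈ R, g * x * g⁻¹ = x ∨ g * x * g⁻¹ = -x) :
    ∃ y ∈ R, ∃ c : F, ((g * y : (GL ι F)) : (Matrix ι ι F)) = c • 1 := by
  classical
  letI := hR.addCommGroup
  letI := hR.module2
  let s : R → ZMod 2 := fun x => if g * (x : (GL ι F)) = x * g then 0 else 1
  have hs : ∀ x : R, (g * (x : (GL ι F)) = x * g ∧ s x = 0) ∨ (g * (x : (GL ι F)) = -(x * g) ∧ s x = 1) := fun x => by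
    rcases h x x.2 with e | e
    · have e' : g * (x : (GL ι F)) = x * g := mul_inv_eq_iff_eq_mul.1 e
      exact Or.inl ⟨e', if_pos e'⟩
    · have e' : g * (x : (GL ι F)) = -(x * g) := by rw [mul_inv_eq_iff_eq_mul.1 e, neg_mul]
      exact Or.inr ⟨e', if_neg fun e'' => hR.ne_neg _ (e''.symm.trans e')⟩
  have hsmul : ∀ x y : R, s (x * y) = s x + s y := fun x y => by
    rcases hs (x * y) with ⟨h, e⟩ | ⟨h, e⟩ <;>
    rcases hs x with ⟨h1, e1⟩ | ⟨h1, e1⟩ <;>
    rcases hs y with ⟨h2, e2⟩ | ⟨h2, e2⟩ <;>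
    rw [e, e1, e2] <;>
    simp only [Subgroup.coe_mul, ← mul_assoc, h1, neg_mul] at h <;>
    simp only [mul_assoc, h2, mul_neg, neg_neg] at h <;>
    first
      | decide
      | exact absurd h (hR.ne_neg _)
      | exact absurd h.symm (hR.ne_neg _)
  have hscongr : ∀ {x y : R}, bar x = bar y → s x = s y := fun {x y} e => by
    rcases bar_eq.1 e with e' | e'
    · rw [Subtype.ext e']
    · simp [s, e']
  let φ : VB R →ₗ[ZMod 2] ZMod 2 := (AddMonoidHom.mk' (fun v => s (lift v)) fun v w => by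
    rw [← hsmul]; exact hscongr (by rw [bar_mul, bar_lift, bar_lift, bar_lift]; rfl)).toZModLinearMap 2
  obtain ⟨e, he⟩ := (hR.quad hk).exists_represent ⊤ (φ.comp (Submodule.subtype ⊤))
  obtain ⟨y, hy⟩ : ∃ y : R, y = lift e := ⟨_, rfl⟩
  have hBs : ∀ x : R, Bv y x = s x := fun x => by
    have h1 : bar (lift (Additive.ofMul (bar x) : VB R)) = bar x := bar_lift _
    rw [hy, ← hR.Bv_congr _ h1, ← hscongr h1]
    exact he ⟨Additive.ofMul (bar x), trivial⟩
  have hcomm : ∀ x ∈ R, g * (y : (GL ι F)) * x = x * (g * y) := fun x hx => by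
    have := hBs ⟨x, hx⟩
    rcases hR.B_cases y ⟨x, hx⟩ with ⟨h1, e1⟩ | ⟨h1, e1⟩ <;>
    rcases hs ⟨x, hx⟩ with ⟨h2, e2⟩ | ⟨h2, e2⟩ <;>
    rw [e1, e2] at this <;>
    first
      | exact absurd this (by decide)
      | (simp only [mul_assoc, h1, mul_neg]
         simp only [← mul_assoc, h2, neg_mul, neg_neg])
  obtain ⟨c, hc⟩ := hR.scalar ((g * (y : (GL ι F)) : (GL ι F)) : (Matrix ι ι F)) fun x hx => by
    rw [← Units.val_mul, hcomm x hx, Units.val_mul]
  exact ⟨y, y.2, c, hc⟩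

/-! ## Pairs of transvections -/

/-- `trans` in `R`. -/
theorem exists_pair {a b : (GL ι F)} (ha : a ∈ R) (hb : b ∈ R) (haa : a * a = -1) (hbb : b * b = -1) :
    ∃ n : (GL ι F), (n : (Matrix ι ι F)) = (2 : F)⁻¹ • ((1 + (a : (Matrix ι ι F))) * (1 + (b : (Matrix ι ι F)))) ∧
      ∀ x ∈ R, ∃ y, (y = x ∧ x * b = b * x ∨ y = b * x ∧ x * b = -(b * x)) ∧
        (n * x * n⁻¹ = y ∧ y * a = a * y ∨ n * x * n⁻¹ = a * y ∧ y * a = -(a * y)) := by
  have h2 := hR.two
  have hA : ∀ {a : (GL ι F)}, a * a = -1 → (1 + (a : (Matrix ι ι F))) * (1 - (a : (Matrix ι ι F))) = (2 : F) • 1 ∧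
      (1 - (a : (Matrix ι ι F))) * (1 + (a : (Matrix ι ι F))) = (2 : F) • 1 := fun {a} haa => by
    have e : (a : (Matrix ι ι F)) * a = -1 := by rw [← Units.val_mul, haa, Units.val_neg, Units.val_one]
    constructor <;> · simp only [mul_add, add_mul, mul_sub, sub_mul, one_mul, mul_one, e]; rw [two_smul]; abel
  obtain ⟨a1, a2⟩ := hA haa
  obtain ⟨b1, b2⟩ := hA hbb
  let n : (GL ι F) := ⟨(2 : F)⁻¹ • ((1 + (a : (Matrix ι ι F))) * (1 + (b : (Matrix ι ι F)))),
    (2 : F)⁻¹ • ((1 - (b : (Matrix ι ι F))) * (1 - (a : (Matrix ι ι F)))), by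
      rw [Matrix.smul_mul, Matrix.mul_smul, mul_assoc, ← mul_assoc (1 + (b : (Matrix ι ι F))), b1, Matrix.smul_mul,
        one_mul, Matrix.mul_smul, a1, smul_smul, smul_smul, smul_smul]
      rw [show (2 : F)⁻¹ * (2 : F)⁻¹ * 2 * 2 = 1 by field_simp, one_smul], by
      rw [Matrix.smul_mul, Matrix.mul_smul, mul_assoc, ← mul_assoc (1 - (a : (Matrix ι ι F))), a2, Matrix.smul_mul,
        one_mul, Matrix.mul_smul, b2, smul_smul, smul_smul, smul_smul]
      rw [show (2 : F)⁻¹ * (2 : F)⁻¹ * 2 * 2 = 1 by field_simp, one_smul]⟩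
  have hconj : ∀ {a x : (GL ι F)}, a * a = -1 →
      (x * a = a * x → (1 + (a : (Matrix ι ι F))) * (x : (Matrix ι ι F)) * (1 - (a : (Matrix ι ι F))) = (2 : F) • (x : (Matrix ι ι F))) ∧
      (x * a = -(a * x) → (1 + (a : (Matrix ι ι F))) * (x : (Matrix ι ι F)) * (1 - (a : (Matrix ι ι F))) = (2 : F) • ((a * x : (GL ι F)) : (Matrix ι ι F))) := by
    intro a x haa
    have e : (a : (Matrix ι ι F)) * a = -1 := by rw [← Units.val_mul, haa, Units.val_neg, Units.val_one]
    refine ⟨fun h => ?_, fun h => ?_⟩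
    · have h' : (x : (Matrix ι ι F)) * a = a * x := by rw [← Units.val_mul, h, Units.val_mul]
      calc (1 + (a : (Matrix ι ι F))) * (x : (Matrix ι ι F)) * (1 - (a : (Matrix ι ι F)))
          = (x : (Matrix ι ι F)) + a * x - x * a - a * (x * a) := by noncomm_ring
        _ = _ := by rw [h', ← mul_assoc, e, two_smul]; noncomm_ring
    · have h' : (x : (Matrix ι ι F)) * a = -(a * x) := by rw [← Units.val_mul, h, Units.val_neg, Units.val_mul]
      calc (1 + (a : (Matrix ι ι F))) * (x : (Matrix ι ι F)) * (1 - (a : (Matrix ι ι F)))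
          = (x : (Matrix ι ι F)) + a * x - x * a - a * (x * a) := by noncomm_ring
        _ = _ := by rw [h', mul_neg, ← mul_assoc, e, Units.val_mul, two_smul]; noncomm_ring
  refine ⟨n, rfl, fun x hx => ?_⟩
  obtain ⟨y, hy, hy'⟩ : ∃ y, (y = x ∧ x * b = b * x ∨ y = b * x ∧ x * b = -(b * x)) ∧
      (1 + (b : (Matrix ι ι F))) * (x : (Matrix ι ι F)) * (1 - (b : (Matrix ι ι F))) = (2 : F) • (y : (Matrix ι ι F)) := by
    rcases hR.comm x hx b hb with h | h
    · exact ⟨x, Or.inl ⟨rfl, h⟩, (hconj hbb).1 h⟩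
    · exact ⟨b * x, Or.inr ⟨rfl, h⟩, (hconj hbb).2 h⟩
  refine ⟨y, hy, ?_⟩
  have hyR : y ∈ R := by
    rcases hy with ⟨e, -⟩ | ⟨e, -⟩ <;> rw [e]
    exacts [hx, R.mul_mem hb hx]
  have hn : ((n * x * n⁻¹ : (GL ι F)) : (Matrix ι ι F)) = (2 : F)⁻¹ • ((1 + (a : (Matrix ι ι F))) * (y : (Matrix ι ι F)) * (1 - (a : (Matrix ι ι F)))) := by
    rw [Units.val_mul, Units.val_mul]
    show ((2 : F)⁻¹ • ((1 + (a : (Matrix ι ι F))) * (1 + (b : (Matrix ι ι F))))) * (x : (Matrix ι ι F)) *
      ((2 : F)⁻¹ • ((1 - (b : (Matrix ι ι F))) * (1 - (a : (Matrix ι ι F))))) = _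
    rw [Matrix.smul_mul, Matrix.smul_mul, Matrix.mul_smul, smul_smul]
    calc _ = ((2 : F)⁻¹ * (2 : F)⁻¹) • ((1 + (a : (Matrix ι ι F))) * ((1 + (b : (Matrix ι ι F))) * (x : (Matrix ι ι F)) * (1 - (b : (Matrix ι ι F)))) *
          (1 - (a : (Matrix ι ι F)))) := by congr 1; noncomm_ring
      _ = _ := by
        rw [hy', Matrix.mul_smul, Matrix.smul_mul, smul_smul]; congr 1; field_simp
  rcases hR.comm y hyR a ha with h | h
  · refine Or.inl ⟨Units.ext ?_, h⟩
    rw [hn, (hconj haa).1 h, smul_smul, inv_mul_cancel₀ h2, one_smul]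
  · refine Or.inr ⟨Units.ext ?_, h⟩
    rw [hn, (hconj haa).2 h, smul_smul, inv_mul_cancel₀ h2, one_smul]

end Sys

end Cfsg.Agent.C6Gen
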